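import Cfsg.Agent.EqLemmas

/-!
# Signs of involutions in groups without subgroups of index two

* `moved_dvd_four` : an involution moves a multiple of four points
* `exists_conj_extremal` : Thompson transfer, extremal form
-/

set_option autoImplicit false
set_option linter.style.haveILetI false

open Subgroup

namespace Cfsg.Agent.TwoTimesPSL

variable {G : Type*} [Group G] [Finite G]

/-- No subgroup has index two. -/
def NoIndexTwo (G : Type*) [Group G] : Prop := ∀ H : Subgroup G, H.index ≠ 2

theorem noIndexTwo_of_simple [IsSimpleGroup G] (hG : ¬ IsMulCommutative G) : NoIndexTwo G := by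
  intro H hH
  rcases (Subgroup.normal_of_index_eq_two hH).eq_bot_or_eq_top with rfl | rfl
  · rw [index_bot] at hH
    haveI : Fact (Nat.Prime 2) := ⟨Nat.prime_two⟩
    haveI : IsCyclic G := isCyclic_of_prime_card hH
    exact hG inferInstance
  · rw [index_top] at hH; omega

theorem moved_dvd_four (h : NoIndexTwo G) (Ω : Type*) [MulAction G Ω] [Finite Ω] {t : G} (ht : t * t = 1) :
    4 ∣ Nat.card {x : Ω // t • x ≠ x} := by
  classical
  haveI := Fintype.ofFinite Ω
  let f : G →* ℤˣ := Equiv.Perm.sign.comp (MulAction.toPermHom G Ω)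
  have hf : f t = 1 := by
    by_contra hne
    have hrange : f.range = ⊤ := by
      refine eq_top_iff.mpr fun u _ => ?_
      rcases Int.units_eq_one_or u with rfl | rfl
      · exact one_mem _
      · exact ⟨t, (Int.units_eq_one_or _).resolve_left hne⟩
    refine h f.ker ?_
    rw [index_ker, hrange, card_top, Nat.card_eq_fintype_card, Fintype.card_units_int]
  set σ : Equiv.Perm Ω := MulAction.toPermHom G Ω t with hσ
  have hσ2 : σ ^ 2 = 1 := by rw [hσ, ← map_pow, pow_two, ht, map_one]
  have hall : ∀ k ∈ σ.cycleType, k = 2 := fun k hk => le_antisymm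
    (Nat.le_of_dvd two_pos ((Equiv.Perm.dvd_of_mem_cycleType hk).trans (orderOf_dvd_of_pow_eq_one hσ2)))
    (Equiv.Perm.two_le_of_mem_cycleType hk)
  have hsum : σ.cycleType.sum = 2 * σ.cycleType.card := by
    rw [Multiset.eq_replicate_card.mpr hall, Multiset.sum_replicate, Multiset.card_replicate,
      smul_eq_mul, mul_comm]
  have heven : Even σ.cycleType.card := by
    have h1 : Equiv.Perm.sign σ = 1 := hf
    rw [Equiv.Perm.sign_of_cycleType, hsum] at h1
    by_contra hodd
    rw [Odd.neg_one_pow ((even_two_mul _).add_odd (Nat.not_even_iff_odd.mp hodd))] at h1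
    exact absurd h1 (by decide)
  have hcard : Nat.card {x : Ω // t • x ≠ x} = 2 * σ.cycleType.card := by
    rw [← hsum, Equiv.Perm.sum_cycleType, Nat.card_eq_fintype_card, Fintype.card_subtype]
    rfl
  obtain ⟨k, hk⟩ := heven
  exact ⟨k, by rw [hcard, hk]; ring⟩

/-- An involution and the fixed points of a 2-group commuting with it: if it has no common fixed point
the fixed set of the involution is even. -/
theorem two_dvd_card_of_no_fixed {P : Type*} [Group P] [Finite P] (hP : IsPGroup 2 P)
    (Ω : Type*) [MulAction P Ω] [Finite Ω] (h : ∀ x : Ω, ∃ g : P, g • x ≠ x) : 2 ∣ Nat.card Ω := by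
  haveI : Fact (Nat.Prime 2) := ⟨Nat.prime_two⟩
  classical
  haveI := Fintype.ofFinite Ω
  have hE : IsEmpty (MulAction.fixedPoints P Ω) := ⟨fun x => by
    obtain ⟨g, hg⟩ := h x.1
    exact hg (x.2 g)⟩
  have hmod := hP.card_modEq_card_fixedPoints (α := Ω)
  rw [Nat.card_of_isEmpty (α := MulAction.fixedPoints P Ω)] at hmod
  exact Nat.modEq_zero_iff_dvd.mp hmod

/-- **Thompson transfer**, extremal form. -/
theorem exists_conj_extremal (h : NoIndexTwo G) (S : Sylow 2 G) (M : Subgroup G)
    (hM : M ≤ (S : Subgroup G)) (hMi : M.relIndex (S : Subgroup G) = 2) {t : G} (ht : t * t = 1)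
    (T : Subgroup G) (hT2 : IsPGroup 2 T) (hTc : T ≤ centralizer ({t} : Set G)) (htT : t ∈ T) :
    ∃ g : G, g * t * g⁻¹ ∈ M ∧ ∀ x ∈ T, g * x * g⁻¹ ∈ (S : Subgroup G) := by
  haveI : Fact (Nat.Prime 2) := ⟨Nat.prime_two⟩
  classical
  by_contra hno
  push Not at hno
  have hdvd := moved_dvd_four h (G ⧸ M) ht
  -- fixed cosets of `M` lie over cosets of `S` that `t` moves into `M`
  let F := {c : G ⧸ (S : Subgroup G) // ∀ g : G, (g : G ⧸ (S : Subgroup G)) = c → g⁻¹ * t * g ∈ M}
  have hnorm : ∀ s ∈ (S : Subgroup G), ∀ x, x ∈ M → s * x * s⁻¹ ∈ M := by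
    intro s hs x hx
    haveI := Subgroup.normal_of_index_eq_two (H := M.subgroupOf (S : Subgroup G)) hMi
    have := Subgroup.Normal.conj_mem (H := M.subgroupOf (S : Subgroup G)) inferInstance
      ⟨x, hM hx⟩ (mem_subgroupOf.mpr hx) ⟨s, hs⟩
    simpa [mem_subgroupOf] using this
  have hTF : ∀ x ∈ T, ∀ c : G ⧸ (S : Subgroup G),
      (∀ g : G, (g : G ⧸ (S : Subgroup G)) = c → g⁻¹ * t * g ∈ M) →
      ∀ g : G, (g : G ⧸ (S : Subgroup G)) = x • c → g⁻¹ * t * g ∈ M := by
    intro x hx c hc g hg
    induction c using QuotientGroup.induction_on with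
    | _ c =>
      have hxg : ((x⁻¹ * g : G) : G ⧸ (S : Subgroup G)) = (c : G ⧸ (S : Subgroup G)) := by
        have e : x⁻¹ • ((g : G) : G ⧸ (S : Subgroup G)) = x⁻¹ • x • (c : G ⧸ (S : Subgroup G)) := by rw [hg]
        rwa [inv_smul_smul] at e
      have := hc _ hxg
      rw [mul_inv_rev, inv_inv] at this
      have hcom : x * t = t * x := (mem_centralizer_singleton_iff.mp (hTc hx))
      rwa [show g⁻¹ * x * t * (x⁻¹ * g) = g⁻¹ * (x * t * x⁻¹) * g by group, hcom,
        show t * x * x⁻¹ = t by group] at this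
  letI : MulAction T F :=
    { smul := fun x c => ⟨(x : G) • c.1, hTF x x.2 c.1 c.2⟩
      one_smul := fun c => Subtype.ext (one_smul G c.1)
      mul_smul := fun x y c => Subtype.ext (mul_smul (x : G) (y : G) c.1) }
  have heven : 2 ∣ Nat.card F := by
    refine two_dvd_card_of_no_fixed hT2 F fun c => ?_
    obtain ⟨g, hg⟩ := QuotientGroup.mk_surjective c.1
    by_contra hfix
    push Not at hfix
    obtain ⟨x, hx, hxS⟩ := hno g⁻¹ (by rw [inv_inv]; exact c.2 g hg)
    refine hxS ?_
    have h1 : (x : G) • c.1 = c.1 := congrArg Subtype.val (hfix ⟨x, hx⟩)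
    rw [← hg] at h1
    have h2 := QuotientGroup.eq.mp h1.symm
    rwa [inv_inv, mul_assoc]
  -- the fixed cosets of `M`
  let π : {d : G ⧸ M // t • d = d} → F := fun d =>
    ⟨Subgroup.quotientMapOfLE hM d.1, by
      obtain ⟨d, hd⟩ := d
      intro g hg
      induction d using QuotientGroup.induction_on with
      | _ d =>
        have h1 : d⁻¹ * g ∈ (S : Subgroup G) :=
          QuotientGroup.eq.mp (show ((d : G) : G ⧸ (S : Subgroup G)) = g from hg.symm)
        have h2 : d⁻¹ * (t * d) ∈ M := QuotientGroup.eq.mp hd.symm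
        have := hnorm _ (inv_mem h1) _ h2
        rwa [show (d⁻¹ * g)⁻¹ * (d⁻¹ * (t * d)) * (d⁻¹ * g)⁻¹⁻¹ = g⁻¹ * t * g by group] at this⟩
  have hfib : ∀ c : F, Nat.card {d // π d = c} = 2 := by
    intro c
    obtain ⟨g, hg⟩ := QuotientGroup.mk_surjective c.1
    rw [← hMi]
    refine Nat.card_congr (Equiv.symm (Equiv.ofBijective
      (fun s : (S : Subgroup G) ⧸ M.subgroupOf (S : Subgroup G) =>
        Quotient.liftOn' s
          (fun s => (⟨⟨((g * s : G) : G ⧸ M), ?_⟩, ?_⟩ : {d // π d = c})) ?_) ⟨?_, ?_⟩))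
    · show (((t * (g * s) : G)) : G ⧸ M) = ((g * s : G) : G ⧸ M)
      refine (QuotientGroup.eq.mpr ?_).symm
      have := hnorm _ (inv_mem s.2) _ (c.2 g hg)
      rwa [show ((s : G))⁻¹ * (g⁻¹ * t * g) * (s : G)⁻¹⁻¹ = (g * s)⁻¹ * (t * (g * s)) by group] at this
    · refine Subtype.ext ?_
      show ((g * s : G) : G ⧸ (S : Subgroup G)) = c.1
      rw [← hg]
      exact QuotientGroup.eq.mpr (by simpa using inv_mem s.2)
    · intro a b hab
      refine Subtype.ext (Subtype.ext (QuotientGroup.eq.mpr ?_))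
      have := QuotientGroup.leftRel_apply.mp hab
      rw [mem_subgroupOf, Subgroup.coe_mul, Subgroup.coe_inv] at this
      rwa [show (g * a)⁻¹ * (g * b) = (a : G)⁻¹ * b by group]
    · intro a b hab
      induction a using QuotientGroup.induction_on with
      | _ a =>
        induction b using QuotientGroup.induction_on with
        | _ b =>
          have h1 := congrArg (fun d => (d : {d // π d = c}).1.1) hab
          have h2 := QuotientGroup.eq.mp h1
          refine QuotientGroup.eq.mpr ?_
          rw [mem_subgroupOf, Subgroup.coe_mul, Subgroup.coe_inv]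
          rwa [show (g * a)⁻¹ * (g * b) = (a : G)⁻¹ * b by group] at h2
    · rintro ⟨⟨d, hd⟩, hdc⟩
      induction d using QuotientGroup.induction_on with
      | _ d =>
        have h1 : ((d : G) : G ⧸ (S : Subgroup G)) = (g : G ⧸ (S : Subgroup G)) :=
          (congrArg Subtype.val hdc).trans hg.symm
        refine ⟨((⟨g⁻¹ * d, QuotientGroup.eq.mp h1.symm⟩ : (S : Subgroup G)) :
          (S : Subgroup G) ⧸ M.subgroupOf (S : Subgroup G)), ?_⟩
        refine Subtype.ext (Subtype.ext ?_)
        show ((g * (g⁻¹ * d) : G) : G ⧸ M) = _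
        rw [mul_inv_cancel_left]
  have hfixed : Nat.card {d : G ⧸ M // t • d = d} = 2 * Nat.card F := by
    haveI := Fintype.ofFinite F
    rw [Nat.card_congr (Equiv.sigmaFiberEquiv π).symm, Nat.card_sigma, Finset.sum_congr rfl
      (fun c _ => hfib c), Finset.sum_const, Finset.card_univ, smul_eq_mul, mul_comm,
      ← Nat.card_eq_fintype_card]
  have htot : Nat.card (G ⧸ M) = Nat.card {d : G ⧸ M // t • d = d} + Nat.card {d : G ⧸ M // t • d ≠ d} := by
    rw [← Nat.card_sum]
    exact Nat.card_congr (Equiv.sumCompl fun d : G ⧸ M => t • d = d).symm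
  have hidx : Nat.card (G ⧸ M) = 2 * (S : Subgroup G).index := by
    rw [← index_eq_card, ← relIndex_mul_index hM, hMi]
  refine S.not_dvd_index ?_
  obtain ⟨a, ha⟩ := heven
  obtain ⟨b, hb⟩ := hdvd
  omega

end Cfsg.Agent.TwoTimesPSL
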