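import Cfsg.Agent.Lib.TwoTimesPSL.AffineField
import Cfsg.Agent.Lib.Frobenius.Kernel
import Cfsg.Agent.Lib.TwoFusion.Transfer

/-!
# Affine two-transitive groups of dimension `n` with a semilinear point stabiliser

`Affine n act c ρ`: `H` acts linearly and faithfully on `V`, `c` is a surjective cocycle, its kernel has
odd order and normalises the cyclic group `⟨ρ⟩`, which is transitive on `V \ {1}`.

* `Affine.fix_odd` : elements of odd order fix a point
* `Affine.centralizes` : fused elements of a two point stabiliser with more fixed points are equal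
* `Affine.not_controlled` : fusion in a two point stabiliser is not trivial
-/

set_option autoImplicit false
set_option linter.unusedSectionVars false
set_option linter.style.haveILetI false

open Subgroup

namespace Cfsg.Agent.TwoTimesPSL

variable {H V : Type*} [Group H] [Finite H] [CommGroup V] [Finite V]

/-- The situation. -/
structure Affine (n : ℕ) (act : H →* MulAut V) (c : H → V) (ρ : H) : Prop where
  two_le : 2 ≤ n
  card : Nat.card V = 2 ^ n
  sq : ∀ v : V, v * v = 1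
  inj : Function.Injective act
  cocycle : ∀ g h, c (g * h) = c g * act g (c h)
  surj : Function.Surjective c
  odd : ∀ h, c h = 1 → Odd (orderOf h)
  rho_fix : c ρ = 1
  trans : ∀ a b : V, a ≠ 1 → b ≠ 1 → ∃ i : ℕ, act (ρ ^ i) a = b
  normal : ∀ h, c h = 1 → h * ρ * h⁻¹ ∈ zpowers ρ

/-- The affine map of an element. -/
def pm (act : H →* MulAut V) (c : H → V) (h : H) (v : V) : V := c h * act h v

namespace Affine

variable {n : ℕ} {act : H →* MulAut V} {c : H → V} {ρ : H} (A : Affine n act c ρ)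
include A

local notation "P" => pm act c

theorem c_one : c 1 = 1 := by
  have h := A.cocycle 1 1
  rw [mul_one, map_one, MulAut.one_apply] at h
  exact left_eq_mul.mp h

theorem pm_mul (g h : H) (v : V) : P (g * h) v = P g (P h v) := by
  simp only [pm, A.cocycle, map_mul, MulAut.mul_apply, mul_assoc]

theorem pm_one (v : V) : P 1 v = v := by
  simp [pm, A.c_one]

theorem pm_at_one (h : H) : P h 1 = c h := by simp [pm]

theorem pm_inv_self (h : H) (v : V) : P h⁻¹ (P h v) = v := by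
  rw [← A.pm_mul, inv_mul_cancel, A.pm_one]

theorem pm_self_inv (h : H) (v : V) : P h (P h⁻¹ v) = v := by
  rw [← A.pm_mul, mul_inv_cancel, A.pm_one]

theorem pm_inj (h : H) : Function.Injective (P h) := fun v w e => by
  rw [← A.pm_inv_self h v, e, A.pm_inv_self]

theorem pm_fix {h : H} (hh : c h = 1) (v : V) : P h v = act h v := by simp [pm, hh]

theorem faithful {h : H} (hh : ∀ v, P h v = v) : h = 1 := by
  have hc : c h = 1 := by rw [← A.pm_at_one, hh]
  refine A.inj ?_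
  ext v
  rw [map_one, MulAut.one_apply, ← A.pm_fix hc, hh]

theorem conj_fix {h g : H} {v : V} (hg : P g v = v) : P (h * g * h⁻¹) (P h v) = P h v := by
  rw [A.pm_mul, A.pm_mul, A.pm_inv_self, hg]

omit [Finite H] [Finite V] in
/-- The stabiliser of a point. -/
def stab (v : V) : Subgroup H where
  carrier := {h | P h v = v}
  one_mem' := A.pm_one v
  mul_mem' {a b} ha hb := by
    show P (a * b) v = v
    rw [A.pm_mul, show P b v = v from hb, show P a v = v from ha]
  inv_mem' {a} ha := by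
    show P a⁻¹ v = v
    conv_lhs => rw [← show P a v = v from ha]
    exact A.pm_inv_self a v

theorem mem_stab {v : V} {h : H} : h ∈ A.stab v ↔ P h v = v := Iff.rfl

theorem mem_stab_one {h : H} : h ∈ A.stab 1 ↔ c h = 1 := by rw [mem_stab, A.pm_at_one]

theorem rho_pow_fix (i : ℕ) : c (ρ ^ i) = 1 :=
  A.mem_stab_one.1 ((A.stab 1).pow_mem (A.mem_stab_one.2 A.rho_fix) i)

theorem stab_zpowers {g : H} {v : V} (hg : P g v = v) {u : H} (hu : u ∈ zpowers g) : P u v = v :=
  (Subgroup.zpowers_le.2 (A.mem_stab.2 hg)) hu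

theorem two_le_card : 2 ≤ 2 ^ n := le_trans (le_of_eq (pow_one 2).symm)
  (Nat.pow_le_pow_right two_pos (le_trans (by norm_num) A.two_le))

theorem exists_ne_one : ∃ a : V, a ≠ 1 := by
  haveI : Nontrivial V := Finite.one_lt_card_iff_nontrivial.1 (by
    rw [A.card]; exact A.two_le_card)
  exact exists_ne 1

theorem exists_third (a : V) : ∃ v : V, v ≠ 1 ∧ v ≠ a := by
  classical
  by_contra hc
  push Not at hc
  haveI := Fintype.ofFinite V
  have : (Finset.univ : Finset V) ⊆ {1, a} := fun v _ => by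
    by_cases h : v = 1
    · simp [h]
    · simp [hc v h]
  have h := (Finset.card_le_card this).trans Finset.card_le_two
  rw [Finset.card_univ, ← Nat.card_eq_fintype_card, A.card] at h
  have := Nat.pow_le_pow_right two_pos A.two_le
  omega

theorem rho_regular {i : ℕ} {a : V} (ha : a ≠ 1) (h : act (ρ ^ i) a = a) : ρ ^ i = 1 := by
  refine A.inj ?_
  ext v
  rw [map_one, MulAut.one_apply]
  by_cases hv : v = 1
  · rw [hv, map_one]
  · obtain ⟨j, rfl⟩ := A.trans a v ha hv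
    rw [← MulAut.mul_apply, ← map_mul, (Commute.pow_pow_self ρ i j).eq, map_mul, MulAut.mul_apply, h]

theorem exists_pair {r s : V} (hrs : r ≠ s) {a : V} (ha : a ≠ 1) :
    ∃ h : H, P h 1 = r ∧ P h a = s := by
  obtain ⟨g, hg⟩ := A.surj r
  have hg' : P g 1 = r := by rw [A.pm_at_one, hg]
  have hb : P g⁻¹ s ≠ 1 := fun e => hrs (by rw [← hg', ← e, A.pm_self_inv])
  obtain ⟨i, hi⟩ := A.trans a _ ha hb
  refine ⟨g * ρ ^ i, ?_, ?_⟩
  · rw [A.pm_mul, A.pm_at_one (ρ ^ i), A.rho_pow_fix, hg']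
  · rw [A.pm_mul, A.pm_fix (A.rho_pow_fix i), hi, A.pm_self_inv]

theorem fix_odd {g : H} (hg : Odd (orderOf g)) : ∃ v, P g v = v := by
  obtain ⟨m, hm⟩ : ∃ m, orderOf g = 2 * m + 1 := hg
  let f : ℕ → V := fun i => c (g ^ i)
  refine ⟨∏ i ∈ Finset.range (orderOf g), f i, ?_⟩
  have hf : ∀ i, act g (f i) = c g * f (i + 1) := fun i => by
    show act g (c (g ^ i)) = c g * c (g ^ (i + 1))
    rw [pow_succ' g i, A.cocycle, ← mul_assoc, A.sq, one_mul]
  have hper : f (orderOf g) = f 0 := by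
    show c (g ^ orderOf g) = c (g ^ 0)
    rw [pow_orderOf_eq_one, pow_zero]
  have h0 : f 0 = 1 := by show c (g ^ 0) = 1; rw [pow_zero, A.c_one]
  show c g * act g _ = _
  rw [map_prod]
  simp only [hf]
  rw [Finset.prod_mul_distrib, Finset.prod_const, Finset.card_range, hm, pow_succ, pow_mul, pow_two, A.sq,
    one_pow, one_mul, ← mul_assoc, A.sq, one_mul]
  rw [hm] at hper
  rw [Finset.prod_range_succ' f (2 * m), h0, mul_one, Finset.prod_range_succ, hper, h0, mul_one]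

variable (a : V)

omit [Finite H] [Finite V] in
/-- The stabiliser of `1` and `a`. -/
def pair : Subgroup H := A.stab 1 ⊓ A.stab a

theorem mem_pair {h : H} : h ∈ A.pair a ↔ c h = 1 ∧ act h a = a := by
  rw [pair, mem_inf, A.mem_stab_one]
  exact ⟨fun ⟨h1, h2⟩ => ⟨h1, by rw [← A.pm_fix h1]; exact h2⟩,
    fun ⟨h1, h2⟩ => ⟨h1, by rw [A.mem_stab, A.pm_fix h1, h2]⟩⟩

theorem pair_act {h : H} (hh : h ∈ A.pair a) : P h 1 = 1 ∧ P h a = a :=
  ⟨(mem_inf.1 hh).1, (mem_inf.1 hh).2⟩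

variable {a}

theorem pair_facts (ha : a ≠ 1) :
    IsCyclic (A.pair a) ∧ Nat.card (A.pair a) ∣ n ∧
      (∀ b ∈ A.pair a, orderOf b < n → ∃ v, v ≠ 1 ∧ v ≠ a ∧ act b v = v) ∧
      (Nat.card (A.pair a) = n → ∀ v, (∀ b ∈ A.pair a, act b v = v) → v = 1 ∨ v = a) := by
  have htr : ∀ v : V, v ≠ 1 → ∃ i : ℕ, (act ρ ^ i) a = v := fun v hv => by
    obtain ⟨i, hi⟩ := A.trans a v ha hv
    exact ⟨i, by rw [← map_pow]; exact hi⟩
  obtain ⟨h1, h2, h3, h4⟩ := field_facts A.two_le A.card A.sq (act ρ) ha htr ((A.pair a).map act)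
    (by rintro _ ⟨b, hb, rfl⟩; exact (A.mem_pair a).1 hb |>.2)
    (by
      rintro _ ⟨b, hb, rfl⟩
      rw [← map_inv, ← map_mul, ← map_mul, ← MonoidHom.map_zpowers]
      exact ⟨_, A.normal b ((A.mem_pair a).1 hb).1, rfl⟩)
  have e := (A.pair a).equivMapOfInjective act A.inj
  have hc := Nat.card_congr e.toEquiv
  refine ⟨isCyclic_of_surjective e.symm.toMonoidHom e.symm.surjective, hc ▸ h2, ?_, ?_⟩
  · intro b hb hord
    exact h3 (act b) ⟨b, hb, rfl⟩ (by rwa [orderOf_injective act A.inj])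
  · intro hn v hv
    exact h4 (hc ▸ hn) v (by rintro _ ⟨b, hb, rfl⟩; exact hv b hb)

theorem pair_odd (ha : a ≠ 1) {b : H} (hb : b ∈ A.pair a) : Odd (orderOf b) :=
  A.odd b ((A.mem_pair a).1 hb).1

theorem pair_comm (ha : a ≠ 1) {b b' : H} (hb : b ∈ A.pair a) (hb' : b' ∈ A.pair a) : b * b' = b' * b := by
  haveI := (A.pair_facts ha).1
  exact congrArg Subtype.val (IsMulCommutative.is_comm.comm (⟨b, hb⟩ : A.pair a) ⟨b', hb'⟩)

/-- Elements of equal order in a pair stabiliser generate the same group. -/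
theorem pair_zpowers (ha : a ≠ 1) {b b' : H} (hb : b ∈ A.pair a) (hb' : b' ∈ A.pair a)
    (h : orderOf b = orderOf b') : b' ∈ zpowers b := by
  haveI := (A.pair_facts ha).1
  classical
  haveI := Fintype.ofFinite (A.pair a)
  let x : A.pair a := ⟨b, hb⟩
  let y : A.pair a := ⟨b', hb'⟩
  have hxy : orderOf x = orderOf y := by rw [← Subgroup.orderOf_coe x, ← Subgroup.orderOf_coe y]; exact h
  let T := Finset.univ.filter fun z : A.pair a => z ^ orderOf x = 1
  have hsub : Finset.univ.filter (fun z : A.pair a => z ∈ zpowers x) ⊆ T := fun z hz => by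
    obtain ⟨k, rfl⟩ := (Finset.mem_filter.1 hz).2
    simp only [T, Finset.mem_filter, Finset.mem_univ, true_and]
    rw [← zpow_natCast, zpow_comm, zpow_natCast, pow_orderOf_eq_one, one_zpow]
  have hle : T.card ≤ (Finset.univ.filter fun z : A.pair a => z ∈ zpowers x).card := by
    rw [← Fintype.card_subtype (fun z : A.pair a => z ∈ zpowers x), ← Nat.card_eq_fintype_card]
    refine le_trans ?_ (le_of_eq (Nat.card_zpowers x).symm)
    exact IsCyclic.card_pow_eq_one_le (orderOf_pos x)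
  have hy : y ∈ T := by
    simp only [T, Finset.mem_filter, Finset.mem_univ, true_and]
    rw [hxy, pow_orderOf_eq_one]
  rw [← Finset.eq_of_subset_of_card_le hsub hle] at hy
  obtain ⟨k, hk⟩ := (Finset.mem_filter.1 hy).2
  exact ⟨k, congrArg Subtype.val hk⟩

/-- An element fixing `1` is a power of `ρ` times an element fixing `1` and `a`. -/
theorem decomp (ha : a ≠ 1) {h : H} (hh : c h = 1) :
    ∃ (i : ℕ) (b : H), b ∈ A.pair a ∧ h = ρ ^ i * b := by
  obtain ⟨i, hi⟩ := A.trans a (act h a) ha ((act h).map_ne_one_iff.2 ha)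
  refine ⟨i, (ρ ^ i)⁻¹ * h, ⟨?_, ?_⟩, by group⟩
  · exact (A.stab 1).mul_mem ((A.stab 1).inv_mem (A.mem_stab_one.2 (A.rho_pow_fix i))) (A.mem_stab_one.2 hh)
  · show P ((ρ ^ i)⁻¹ * h) a = a
    rw [A.pm_mul, A.pm_fix hh, ← hi, ← A.pm_fix (A.rho_pow_fix i), A.pm_inv_self]

theorem rho_zpow_pair (ha : a ≠ 1) {u : H} (hu : u ∈ zpowers ρ) (hub : u ∈ A.pair a) : u = 1 := by
  obtain ⟨i, rfl⟩ := (IsOfFinOrder.mem_powers_iff_mem_zpowers (isOfFinOrder_of_finite ρ)).2 hu
  exact A.rho_regular ha ((A.mem_pair a).1 hub).2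

theorem conj_rho {h : H} (hh : c h = 1) {u : H} (hu : u ∈ zpowers ρ) : h * u * h⁻¹ ∈ zpowers ρ := by
  obtain ⟨k, rfl⟩ := hu
  show h * ρ ^ k * h⁻¹ ∈ zpowers ρ
  rw [← conj_zpow]
  exact zpow_mem (A.normal h hh) k

theorem exists_proj (ha : a ≠ 1) :
    ∃ ψ : A.stab 1 →* A.pair a, ∀ h : A.stab 1, (h : H) * ((ψ h : H))⁻¹ ∈ zpowers ρ := by
  have hd : ∀ h : A.stab 1, ∃ b : A.pair a, (h : H) * (b : H)⁻¹ ∈ zpowers ρ := fun h => by
    obtain ⟨i, b, hb, e⟩ := A.decomp ha (A.mem_stab_one.1 h.2)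
    exact ⟨⟨b, hb⟩, by rw [e, mul_inv_cancel_right]; exact ⟨i, zpow_natCast ρ i⟩⟩
  choose f hf using hd
  have huniq : ∀ (h : A.stab 1) (b : A.pair a), (h : H) * (b : H)⁻¹ ∈ zpowers ρ → f h = b := by
    intro h b hb
    refine Subtype.ext (inv_mul_eq_one.mp ?_).symm
    refine A.rho_zpow_pair ha ?_ ((A.pair a).mul_mem ((A.pair a).inv_mem b.2) (f h).2)
    have e : (b : H)⁻¹ * (f h : H) = (h : H)⁻¹ * (((h : H) * (b : H)⁻¹) * ((h : H) * (f h : H)⁻¹)⁻¹) *
        (h : H) := by group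
    rw [e]
    have := A.conj_rho (A.mem_stab_one.1 ((A.stab 1).inv_mem h.2)) (mul_mem hb (inv_mem (hf h)))
    rwa [inv_inv] at this
  refine ⟨MonoidHom.mk' f fun h h' => huniq _ _ ?_, hf⟩
  have e : ((h * h' : A.stab 1) : H) * ((f h * f h' : A.pair a) : H)⁻¹ =
      ((h : H) * (f h : H)⁻¹) * ((f h : H) * ((h' : H) * (f h' : H)⁻¹) * (f h : H)⁻¹) := by
    simp only [Subgroup.coe_mul]; group
  rw [e]
  exact mul_mem (hf h) (A.conj_rho ((A.mem_pair a).1 (f h).2).1 (hf h'))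

/-- A projection to the pair stabiliser is the identity there. -/
theorem proj_key (ha : a ≠ 1) {ψ : A.stab 1 →* A.pair a}
    (hψ : ∀ h : A.stab 1, (h : H) * ((ψ h : H))⁻¹ ∈ zpowers ρ) {u : A.stab 1} (hu : (u : H) ∈ A.pair a) :
    (ψ u : H) = u := by
  refine (inv_mul_eq_one.mp (A.rho_zpow_pair ha ?_ ((A.pair a).mul_mem ((A.pair a).inv_mem (ψ u).2) hu)))
  have e : ((ψ u : H))⁻¹ * (u : H) = (u : H)⁻¹ * ((u : H) * (ψ u : H)⁻¹) * (u : H) := by group
  rw [e]
  have := A.conj_rho (A.mem_stab_one.1 ((A.stab 1).inv_mem u.2)) (hψ u)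
  rwa [inv_inv] at this

theorem index_stab : (A.stab 1).index = 2 ^ n := by
  rw [← A.card]
  refine Nat.card_eq_of_bijective (Quotient.lift c ?_) ⟨?_, ?_⟩
  · intro g g' h
    have h' : c (g⁻¹ * g') = 1 := A.mem_stab_one.1 (QuotientGroup.leftRel_apply.1 h)
    calc c g = c g * act g (c (g⁻¹ * g')) := by rw [h', map_one, mul_one]
      _ = c g' := by rw [← A.cocycle, mul_inv_cancel_left]
  · rintro ⟨g⟩ ⟨g'⟩ h
    refine Quotient.sound (QuotientGroup.leftRel_apply.2 (A.mem_stab_one.2 ?_))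
    have h1 : c (g⁻¹ * g') = c g⁻¹ * act g⁻¹ (c g) := by rw [A.cocycle, show c g' = c g from h.symm]
    rw [h1, ← A.cocycle, inv_mul_cancel, A.c_one]
  · exact fun v => (A.surj v).elim fun g hg => ⟨Quotient.mk'' g, hg⟩

theorem pair_coprime (ha : a ≠ 1) : (Nat.card (A.pair a)).Coprime (2 ^ n) := by
  haveI := (A.pair_facts ha).1
  obtain ⟨g, hg⟩ := IsCyclic.exists_generator (α := A.pair a)
  refine Nat.Coprime.pow_right _ (Nat.coprime_two_right.2 ?_)
  rw [← orderOf_eq_card_of_forall_mem_zpowers hg, ← Subgroup.orderOf_coe]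
  exact A.pair_odd ha g.2

/-- Fusion in the pair stabiliser is trivial for an element with a third fixed point. -/
theorem centralizes (ha : a ≠ 1) {y : H} (hy : y ∈ A.pair a) {v : V} (hv1 : v ≠ 1) (hva : v ≠ a)
    (hv : act y v = v) {g : H} (hg : g * y * g⁻¹ ∈ A.pair a) : g * y * g⁻¹ = y := by
  classical
  have hnorm : ∀ {g : H}, g * y * g⁻¹ ∈ A.pair a → g * y * g⁻¹ ∈ zpowers y := fun {g} hg =>
    A.pair_zpowers ha hy hg (SemiconjBy.orderOf_eq g
      (show SemiconjBy g y (g * y * g⁻¹) by rw [SemiconjBy, inv_mul_cancel_right]))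
  have hfixconj : ∀ {g : H}, g * y * g⁻¹ ∈ zpowers y → ∀ {r : V}, P y r = r → P y (P g r) = P g r := by
    intro g hg r hr
    have h1 := A.conj_fix (h := g) hr
    have hsame : zpowers (g * y * g⁻¹) = zpowers y := by
      refine Subgroup.eq_of_le_of_card_ge (zpowers_le.2 hg) ?_
      rw [Nat.card_zpowers, Nat.card_zpowers, SemiconjBy.orderOf_eq g
        (show SemiconjBy g y (g * y * g⁻¹) by rw [SemiconjBy, inv_mul_cancel_right])]
    exact A.stab_zpowers h1 (hsame ▸ mem_zpowers y)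
  have hyc := ((A.mem_pair a).1 hy).1
  have hy1 : P y 1 = 1 := (A.pair_act a hy).1
  have hh : ∀ {h : H}, c h = 1 → h * y * h⁻¹ ∈ zpowers y → h * y = y * h := by
    intro h hc hmem
    obtain ⟨ψ, hψ⟩ := A.exists_proj ha
    have key : ∀ u : A.stab 1, (u : H) ∈ A.pair a → (ψ u : H) = u := fun u hu => A.proj_key ha hψ hu
    let h' : A.stab 1 := ⟨h, A.mem_stab_one.2 hc⟩
    let y' : A.stab 1 := ⟨y, A.mem_stab_one.2 hyc⟩
    have hmem' : ((h' * y' * h'⁻¹ : A.stab 1) : H) ∈ A.pair a := zpowers_le.2 hy hmem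
    have e1 := key _ hmem'
    have e2 : ψ (h' * y' * h'⁻¹) = ψ y' := by
      haveI := (A.pair_facts ha).1
      rw [map_mul, map_mul, map_inv, IsMulCommutative.is_comm.comm (ψ h') (ψ y'), mul_inv_cancel_right]
    rw [e2, key y' hy] at e1
    exact (mul_inv_eq_iff_eq_mul.mp e1.symm)
  have hrot : ∀ {r s : V}, r ≠ 1 → s ≠ 1 → P y r = r → P y s = s →
      ∃ u : H, c u = 1 ∧ u * y = y * u ∧ P u r = s := by
    intro r s hr hs hyr hys
    obtain ⟨i, hi⟩ := A.trans r s hr hs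
    refine ⟨ρ ^ i, A.rho_pow_fix i, ?_, by rw [A.pm_fix (A.rho_pow_fix i), hi]⟩
    have hm : y * ρ ^ i * y⁻¹ ∈ zpowers ρ := A.conj_rho hyc ⟨i, zpow_natCast ρ i⟩
    obtain ⟨j, hj⟩ := (IsOfFinOrder.mem_powers_iff_mem_zpowers (isOfFinOrder_of_finite ρ)).2 hm
    have hj' : ρ ^ j = y * ρ ^ i * y⁻¹ := hj
    have e : act (ρ ^ j) r = act (ρ ^ i) r := by
      rw [hj', ← A.pm_fix (A.mem_stab_one.1 (mul_mem (mul_mem (A.mem_stab_one.2 hyc)
        (A.mem_stab_one.2 (A.rho_pow_fix i))) (inv_mem (A.mem_stab_one.2 hyc)))), A.pm_mul, A.pm_mul]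
      have : P y⁻¹ r = r := A.stab_zpowers hyr (inv_mem (mem_zpowers y))
      rw [this, A.pm_fix (A.rho_pow_fix i), hi, hys]
    have : ρ ^ j = ρ ^ i := by
      refine A.inj (MulEquiv.ext fun w => ?_)
      by_cases hw : w = 1
      · rw [hw, map_one, map_one]
      · obtain ⟨k, rfl⟩ := A.trans r w hr hw
        rw [← MulAut.mul_apply, ← map_mul, ← MulAut.mul_apply, ← map_mul, (Commute.pow_pow_self ρ j k).eq,
          (Commute.pow_pow_self ρ i k).eq, map_mul, MulAut.mul_apply, e, ← MulAut.mul_apply, ← map_mul]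
    rw [hj'] at this
    exact (mul_inv_eq_iff_eq_mul.mp this).symm
  obtain ⟨x, hx1, hxa⟩ := A.exists_pair ha ha
  have hxy : x * y * x⁻¹ ∈ zpowers y := by
    refine hnorm (mem_inf.2 ⟨?_, ?_⟩)
    · have := A.conj_fix (h := x) (A.pair_act a hy).2
      rwa [hxa] at this
    · have := A.conj_fix (h := x) hy1
      rwa [hx1] at this
  -- the centraliser of `y` moves `1`
  have hmove : ∃ z : H, z * y = y * z ∧ P z 1 ≠ 1 := by
    by_contra hcon
    push Not at hcon
    obtain ⟨u, hu, huy, hua⟩ := hrot ha hv1 (A.pair_act a hy).2 (by rw [A.pm_fix hyc, hv])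
    have hz : (x⁻¹ * u * x) * y = y * (x⁻¹ * u * x) := by
      obtain ⟨k, hk⟩ := hxy
      have hk' : y ^ k = x * y * x⁻¹ := hk
      have hc' : Commute u (y ^ k) := Commute.zpow_right (show Commute u y from huy) k
      calc (x⁻¹ * u * x) * y = x⁻¹ * (u * (x * y * x⁻¹)) * x := by group
        _ = x⁻¹ * ((x * y * x⁻¹) * u) * x := by rw [← hk', hc'.eq]
        _ = y * (x⁻¹ * u * x) := by group
    have h2 := hcon _ hz
    rw [A.pm_mul, A.pm_mul, hx1, hua] at h2
    apply hva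
    rw [← A.pm_self_inv x v, h2, hx1]
  obtain ⟨z, hzy, hz1⟩ := hmove
  have hzr : P y (P z 1) = P z 1 := by rw [← A.pm_mul, ← hzy, A.pm_mul, hy1]
  have hg' := hnorm hg
  have hgs : P y (P g 1) = P g 1 := hfixconj hg' hy1
  by_cases hs : P g 1 = 1
  · exact mul_inv_eq_iff_eq_mul.mpr (hh (by rw [← A.pm_at_one, hs]) hg')
  · obtain ⟨u, hu, huy, hur⟩ := hrot hz1 hs hzr hgs
    have hw : c ((u * z)⁻¹ * g) = 1 := by
      rw [← A.pm_at_one, A.pm_mul]
      have : P (u * z) 1 = P g 1 := by rw [A.pm_mul, hur]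
      rw [← this, A.pm_inv_self]
    have huz : Commute (u * z) y := Commute.mul_left huy hzy
    have hwmem : (u * z)⁻¹ * g * y * ((u * z)⁻¹ * g)⁻¹ ∈ zpowers y := by
      obtain ⟨k, hk⟩ := hg'
      have hk' : y ^ k = g * y * g⁻¹ := hk
      refine ⟨k, ?_⟩
      show y ^ k = _
      calc y ^ k = (u * z)⁻¹ * y ^ k * (u * z) := by
            rw [mul_assoc, ← (huz.zpow_right k).eq, ← mul_assoc, inv_mul_cancel, one_mul]
        _ = _ := by rw [hk']; group
    have := hh hw hwmem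
    refine mul_inv_eq_iff_eq_mul.mpr ?_
    calc g * y = (u * z) * (((u * z)⁻¹ * g) * y) := by group
      _ = (u * z) * (y * ((u * z)⁻¹ * g)) := by rw [this]
      _ = (u * z * y) * ((u * z)⁻¹ * g) := by group
      _ = (y * (u * z)) * ((u * z)⁻¹ * g) := by rw [huz.eq]
      _ = y * g := by group

/-- Fusion in a pair stabiliser is not trivial. -/
theorem not_controlled (ha : a ≠ 1)
    (hc : ∀ y ∈ A.pair a, ∀ g : H, g * y * g⁻¹ ∈ A.pair a → g * y * g⁻¹ = y) : False := by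
  classical
  haveI := (A.pair_facts ha).1
  letI : CommGroup (A.pair a) :=
    { (inferInstance : Group (A.pair a)) with mul_comm := IsMulCommutative.is_comm.comm }
  obtain ⟨ψ, hψ⟩ := A.exists_proj ha
  have key : ∀ u : A.stab 1, (u : H) ∈ A.pair a → (ψ u : H) = u := fun u hu => A.proj_key ha hψ hu
  -- `ψ` is invariant under fusion
  have fus : ∀ (u : A.stab 1) (g : H) (hg : g * (u : H) * g⁻¹ ∈ A.stab 1), ψ ⟨_, hg⟩ = ψ u := by
    intro u g hg
    by_cases hg1 : P g 1 = 1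
    · have e : (⟨_, hg⟩ : A.stab 1) = ⟨g, hg1⟩ * u * (⟨g, hg1⟩ : A.stab 1)⁻¹ := Subtype.ext rfl
      rw [e, map_mul, map_mul, map_inv, mul_comm (ψ ⟨g, hg1⟩), mul_inv_cancel_right]
    · have hfix := A.conj_fix (h := g) (show P (u : H) 1 = 1 from u.2)
      obtain ⟨i, hi⟩ := A.trans _ a hg1 ha
      have hi' : P (ρ ^ i) (P g 1) = a := by rw [A.pm_fix (A.rho_pow_fix i)]; exact hi
      let r : A.stab 1 := ⟨ρ ^ i, A.mem_stab_one.2 (A.rho_pow_fix i)⟩
      let w : A.stab 1 := ⟨_, hg⟩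
      have hw : ((r * w * r⁻¹ : A.stab 1) : H) ∈ A.pair a := by
        refine mem_inf.2 ⟨(r * w * r⁻¹).2, ?_⟩
        have := A.conj_fix (h := ρ ^ i) hfix
        rwa [hi'] at this
      have hp2 : P ((ρ ^ i * g)⁻¹) a = 1 := by
        rw [← hi', ← A.pm_mul (ρ ^ i) g, A.pm_inv_self]
      have hp : P (u : H) (P ((ρ ^ i * g)⁻¹) 1) = P ((ρ ^ i * g)⁻¹) 1 := by
        have h1 : P ((r * w * r⁻¹ : A.stab 1) : H) 1 = 1 := (mem_inf.1 hw).1
        have := A.conj_fix (h := (ρ ^ i * g)⁻¹) h1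
        have e : (ρ ^ i * g)⁻¹ * ((r * w * r⁻¹ : A.stab 1) : H) * ((ρ ^ i * g)⁻¹)⁻¹ = (u : H) := by
          show (ρ ^ i * g)⁻¹ * (ρ ^ i * (g * (u : H) * g⁻¹) * (ρ ^ i)⁻¹) * ((ρ ^ i * g)⁻¹)⁻¹ = _
          group
        rwa [e] at this
      have hp1 : P ((ρ ^ i * g)⁻¹) 1 ≠ 1 := fun e => ha (A.pm_inj _ (hp2.trans e.symm))
      obtain ⟨j, hj⟩ := A.trans _ a hp1 ha
      let s : A.stab 1 := ⟨ρ ^ j, A.mem_stab_one.2 (A.rho_pow_fix j)⟩
      have hs : ((s * u * s⁻¹ : A.stab 1) : H) ∈ A.pair a := by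
        refine mem_inf.2 ⟨(s * u * s⁻¹).2, ?_⟩
        have := A.conj_fix (h := ρ ^ j) hp
        rwa [A.pm_fix (A.rho_pow_fix j), hj] at this
      have e := hc _ hs ((r : H) * g * (s : H)⁻¹) (by
        have : (r : H) * g * (s : H)⁻¹ * ((s * u * s⁻¹ : A.stab 1) : H) * ((r : H) * g * (s : H)⁻¹)⁻¹ =
            ((r * w * r⁻¹ : A.stab 1) : H) := by
          show ρ ^ i * g * (ρ ^ j)⁻¹ * (ρ ^ j * (u : H) * (ρ ^ j)⁻¹) * (ρ ^ i * g * (ρ ^ j)⁻¹)⁻¹ =
            ρ ^ i * (g * (u : H) * g⁻¹) * (ρ ^ i)⁻¹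
          group
        rw [this]; exact hw)
      have e' : r * w * r⁻¹ = s * u * s⁻¹ := Subtype.ext (by
        rw [← e]
        show ρ ^ i * (g * (u : H) * g⁻¹) * (ρ ^ i)⁻¹ =
          ρ ^ i * g * (ρ ^ j)⁻¹ * (ρ ^ j * (u : H) * (ρ ^ j)⁻¹) * (ρ ^ i * g * (ρ ^ j)⁻¹)⁻¹
        group)
      have e'' := congrArg ψ e'
      rw [map_mul, map_mul, map_inv, mul_comm (ψ r), mul_inv_cancel_right, map_mul, map_mul, map_inv,
        mul_comm (ψ s), mul_inv_cancel_right] at e''
      exact e''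
  have hτ : ∀ u : A.stab 1, MonoidHom.transfer ψ (u : H) = ψ u ^ (A.stab 1).index := fun u => by
    refine TwoFusion.transfer_eq_pow_of_controlled ψ u fun k g hm => ?_
    rw [← map_pow]
    exact fus (u ^ k) g hm
  have hidx : (A.stab 1).index = 2 ^ n := A.index_stab
  let τ := MonoidHom.transfer ψ
  -- the kernel meets the point stabiliser in `⟨ρ⟩`
  have hK : ∀ {h : H}, c h = 1 → τ h = 1 → h ∈ zpowers ρ := by
    intro h hh hker
    have e := hτ ⟨h, A.mem_stab_one.2 hh⟩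
    rw [show MonoidHom.transfer ψ h = 1 from hker, hidx] at e
    have hone : ψ ⟨h, A.mem_stab_one.2 hh⟩ = 1 := by
      refine TwoFusion.eq_one_of_pow_eq_one_of_coprime e.symm (pow_orderOf_eq_one _)
        (Nat.Coprime.pow_left _ (Nat.coprime_two_left.2 ?_))
      rw [← Subgroup.orderOf_coe]
      exact A.pair_odd ha (ψ _).2
    have := hψ ⟨h, A.mem_stab_one.2 hh⟩
    rwa [hone, Subgroup.coe_one, inv_one, mul_one] at this
  have hsurjτ : ∀ b : A.pair a, ∃ b' : A.pair a, τ (b' : H) = b := by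
    intro b
    haveI : Finite (A.pair a) := Subtype.finite
    obtain ⟨b', hb'⟩ := (powCoprime (A.pair_coprime ha)).surjective b
    let bb' : A.stab 1 := ⟨b', (mem_inf.1 b'.2).1⟩
    refine ⟨b', ?_⟩
    show MonoidHom.transfer ψ (bb' : H) = b
    rw [hτ, show ψ bb' = b' from Subtype.ext (key bb' b'.2), hidx]
    exact hb'
  let K : Subgroup H := τ.ker
  have hρK : ρ ∈ K := by
    show MonoidHom.transfer ψ ((⟨ρ, A.mem_stab_one.2 A.rho_fix⟩ : A.stab 1) : H) = 1
    rw [hτ]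
    have h1 : ((ψ ⟨ρ, A.mem_stab_one.2 A.rho_fix⟩ : A.pair a) : H) = 1 := by
      refine A.rho_zpow_pair ha ?_ (ψ _).2
      have := hψ ⟨ρ, A.mem_stab_one.2 A.rho_fix⟩
      exact inv_mem_iff.1 (((zpowers ρ).mul_mem_cancel_left (mem_zpowers ρ)).1 this)
    rw [show ψ ⟨ρ, A.mem_stab_one.2 A.rho_fix⟩ = 1 from Subtype.ext h1, one_pow]
  -- `K` is transitive
  have hKtrans : ∀ v, ∃ k ∈ K, c k = v := by
    intro v
    obtain ⟨g, hg⟩ := A.surj v
    obtain ⟨b', hb'⟩ := hsurjτ (τ g)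
    refine ⟨g * (b' : H)⁻¹, by rw [MonoidHom.mem_ker, map_mul, map_inv, hb', mul_inv_cancel], ?_⟩
    rw [A.cocycle, A.mem_stab_one.1 (inv_mem (mem_inf.1 b'.2).1), map_one, mul_one, hg]
  let C : Subgroup K := (A.stab 1).subgroupOf K
  have hmemC : ∀ {k : K}, k ∈ C ↔ c (k : H) = 1 := fun {k} => A.mem_stab_one
  have hidxC : C.index = 2 ^ n := by
    rw [← A.card]
    refine Nat.card_eq_of_bijective (Quotient.lift (fun k : K => c (k : H)) ?_) ⟨?_, ?_⟩
    · intro g g' h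
      have h' : c ((g⁻¹ * g' : K) : H) = 1 := hmemC.1 (QuotientGroup.leftRel_apply.1 h)
      rw [Subgroup.coe_mul, Subgroup.coe_inv] at h'
      calc c (g : H) = c (g : H) * act (g : H) (c ((g : H)⁻¹ * g')) := by rw [h', map_one, mul_one]
        _ = c (g' : H) := by rw [← A.cocycle, mul_inv_cancel_left]
    · rintro ⟨g⟩ ⟨g'⟩ h
      refine Quotient.sound (QuotientGroup.leftRel_apply.2 (hmemC.2 ?_))
      have h1 : c ((g : H)⁻¹ * g') = c (g : H)⁻¹ * act (g : H)⁻¹ (c (g : H)) := by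
        rw [A.cocycle, show c (g' : H) = c (g : H) from h.symm]
      rw [Subgroup.coe_mul, Subgroup.coe_inv, h1, ← A.cocycle, inv_mul_cancel, A.c_one]
    · intro v
      obtain ⟨k, hk, e⟩ := hKtrans v
      exact ⟨Quotient.mk'' ⟨k, hk⟩, e⟩
  have hρ1 : ρ ≠ 1 := by
    intro e
    obtain ⟨v, hv1, hva⟩ := A.exists_third a
    obtain ⟨i, hi⟩ := A.trans a v ha hv1
    rw [e, one_pow, map_one, MulAut.one_apply] at hi
    exact hva hi.symm
  have hfrob : Cfsg.IsFrobeniusComplement C := by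
    refine ⟨fun e => hρ1 ?_, fun e => ?_, fun g hg => ?_⟩
    · have h0 : (⟨ρ, hρK⟩ : K) ∈ C := hmemC.2 A.rho_fix
      rw [e, Subgroup.mem_bot] at h0
      exact congrArg (fun z : K => (z : H)) h0
    · have := A.two_le_card
      rw [e, Subgroup.index_top] at hidxC
      omega
    · refine (Subgroup.eq_bot_iff_forall _).2 fun k hk => ?_
      obtain ⟨hk1, hk2⟩ := mem_inf.1 hk
      rw [Frobenius.mem_conj_smul] at hk2
      have hkρ := hK (hmemC.1 hk1) k.2
      obtain ⟨i, hi⟩ := (IsOfFinOrder.mem_powers_iff_mem_zpowers (isOfFinOrder_of_finite ρ)).2 hkρ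
      have hi' : ρ ^ i = (k : H) := hi
      have hfix : act (k : H) (c (g : H)) = c (g : H) := by
        rw [← A.pm_fix (hmemC.1 hk1)]
        have h1 : P ((g⁻¹ * k * g : K) : H) 1 = 1 := by rw [A.pm_at_one]; exact hmemC.1 hk2
        have := A.conj_fix (h := (g : H)) h1
        rw [A.pm_at_one] at this
        simpa [mul_assoc] using this
      rw [← hi'] at hfix
      exact Subtype.ext (hi'.symm.trans (A.rho_regular (fun e => hg (hmemC.2 e)) hfix))
  obtain ⟨N, -, hN, hcompl⟩ := Frobenius.exists_kernel hfrob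
  have hNcard : Nat.card N = 2 ^ n := by rw [← hcompl.index_eq_card, hidxC]
  -- a fixed vector of `N`
  let R : Subgroup H := N.map K.subtype
  have hRcard : Nat.card R = 2 ^ n := by
    rw [Nat.card_congr (N.equivMapOfInjective K.subtype Subtype.val_injective).toEquiv.symm, hNcard]
  letI : MulAction R V :=
    { smul := fun r v => act (r : H) v
      one_smul := fun v => by show act ((1 : R) : H) v = v; simp
      mul_smul := fun r s v => by
        show act ((r * s : R) : H) v = act (r : H) (act (s : H) v)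
        simp }
  haveI : Fact (Nat.Prime 2) := ⟨Nat.prime_two⟩
  have hp : IsPGroup 2 R := IsPGroup.of_card hRcard
  obtain ⟨v, hv, hv1⟩ := hp.exists_fixed_point_of_prime_dvd_card_of_fixed_point V
    (by rw [A.card]; exact dvd_pow_self 2 (by have := A.two_le; omega))
    (show (1 : V) ∈ MulAction.fixedPoints R V from fun r => map_one (act (r : H)))
  have hR1 : ∀ r ∈ R, r = 1 := by
    intro r hr
    refine A.inj (MulEquiv.ext fun w => ?_)
    rw [map_one, MulAut.one_apply]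
    by_cases hw : w = 1
    · rw [hw, map_one]
    · obtain ⟨i, rfl⟩ := A.trans v w (Ne.symm hv1) hw
      have hρi : ρ ^ i ∈ K := K.pow_mem hρK i
      obtain ⟨k, hk, rfl⟩ := hr
      have hmem : (ρ ^ i)⁻¹ * (k : H) * ρ ^ i ∈ R := by
        refine ⟨(⟨ρ ^ i, hρi⟩ : K)⁻¹ * k * ⟨ρ ^ i, hρi⟩, ?_, rfl⟩
        have := hN.conj_mem k hk (⟨ρ ^ i, hρi⟩ : K)⁻¹
        rwa [inv_inv] at this
      have h := hv ⟨_, hmem⟩
      change act ((ρ ^ i)⁻¹ * (k : H) * ρ ^ i) v = v at h
      show act (k : H) (act (ρ ^ i) v) = act (ρ ^ i) v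
      conv_rhs => rw [← h]
      simp only [← MulAut.mul_apply, ← map_mul]
      congr 2
      group
  have : R = ⊥ := (Subgroup.eq_bot_iff_forall R).2 hR1
  rw [this, Subgroup.card_bot] at hRcard
  have := A.two_le_card
  omega

end Affine

end Cfsg.Agent.TwoTimesPSL
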