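import Cfsg.Agent.EqLemmas
import Mathlib.FieldTheory.Finite.Basic
import Mathlib.FieldTheory.Galois.Basic
import Mathlib.RingTheory.LittleWedderburn

/-!
# Automorphisms of an elementary group normalising a transitive cyclic group

`field_facts`: if the powers of `r` are transitive on `V \ {1}` and the group `B` fixes `a` and
normalises `⟨r⟩`, then `B` is cyclic of order dividing `n` (with `|V| = 2 ^ n`), with the fixed points
of a Galois group of a field of order `2 ^ n`.
-/

set_option autoImplicit false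
set_option linter.unusedSectionVars false
set_option linter.style.haveILetI false

open Subgroup

namespace Cfsg.Agent.TwoTimesPSL

variable {V : Type*} [CommGroup V] [Finite V]

/-- An automorphism as an additive endomorphism. -/
def endOf : MulAut V →* AddMonoid.End (Additive V) where
  toFun g := g.toMonoidHom.toAdditive
  map_one' := rfl
  map_mul' _ _ := rfl

theorem endOf_apply (g : MulAut V) (x : Additive V) : endOf g x = Additive.ofMul (g x.toMul) := rfl

theorem endOf_injective : Function.Injective (endOf : MulAut V → AddMonoid.End (Additive V)) := by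
  intro g g' h
  ext v
  exact congrArg Additive.toMul (DFunLike.congr_fun h (Additive.ofMul v))

theorem field_facts {n : ℕ} (hn : 2 ≤ n) (hcard : Nat.card V = 2 ^ n) (hsq : ∀ v : V, v * v = 1)
    (r : MulAut V) {a : V} (ha : a ≠ 1) (htrans : ∀ v : V, v ≠ 1 → ∃ i : ℕ, (r ^ i) a = v)
    (B : Subgroup (MulAut V)) (hBa : ∀ b ∈ B, b a = a) (hBr : ∀ b ∈ B, b * r * b⁻¹ ∈ zpowers r) :
    IsCyclic B ∧ Nat.card B ∣ n ∧
      (∀ b ∈ B, orderOf b < n → ∃ v : V, v ≠ 1 ∧ v ≠ a ∧ b v = v) ∧
      (Nat.card B = n → ∀ v : V, (∀ b ∈ B, b v = v) → v = 1 ∨ v = a) := by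
  classical
  let A : AddMonoid.End (Additive V) := endOf r
  let K : Subring (AddMonoid.End (Additive V)) := Subring.centralizer {A}
  let a' : Additive V := Additive.ofMul a
  have hmemK : ∀ {k : AddMonoid.End (Additive V)}, k ∈ K ↔ k * A = A * k := by
    intro k
    simp only [K, Subring.mem_centralizer_iff, Set.mem_singleton_iff, forall_eq, eq_comm]
  have hpow : ∀ i, A ^ i ∈ K := fun i => hmemK.2 (Commute.pow_self A i).eq
  have hcomm : ∀ k ∈ K, ∀ i, k * A ^ i = A ^ i * k := fun k hk i =>
    (Commute.pow_right (hmemK.1 hk) i).eq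
  have htrans' : ∀ x : Additive V, x ≠ 0 → ∃ i : ℕ, (A ^ i) a' = x := by
    intro x hx
    obtain ⟨i, hi⟩ := htrans x.toMul hx
    refine ⟨i, ?_⟩
    rw [← map_pow, endOf_apply]
    show Additive.ofMul ((r ^ i) a) = x
    rw [hi]
    exact ofMul_toMul x
  have hev : ∀ k ∈ K, ∀ k' ∈ K, k a' = k' a' → k = k' := by
    intro k hk k' hk' h
    refine DFunLike.ext _ _ fun x => ?_
    by_cases hx : x = 0
    · subst hx; rw [map_zero, map_zero]
    · obtain ⟨i, rfl⟩ := htrans' x hx
      have e1 := DFunLike.congr_fun (hcomm k hk i) a'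
      have e2 := DFunLike.congr_fun (hcomm k' hk' i) a'
      simp only [AddMonoid.End.coe_mul, Function.comp_apply] at e1 e2
      rw [e1, e2, h]
  haveI : Finite (AddMonoid.End (Additive V)) :=
    Finite.of_injective (fun f : AddMonoid.End (Additive V) => (f : Additive V → Additive V))
      DFunLike.coe_injective
  haveI : Finite K := Subtype.finite
  let ev : K → Additive V := fun k => k.1 a'
  have evinj : Function.Injective ev := fun k k' h => Subtype.ext (hev _ k.2 _ k'.2 h)
  have evsurj : Function.Surjective ev := by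
    intro x
    by_cases hx : x = 0
    · exact ⟨0, hx.symm⟩
    · obtain ⟨i, hi⟩ := htrans' x hx
      exact ⟨⟨A ^ i, hpow i⟩, hi⟩
  have hKcard : Nat.card K = 2 ^ n := by
    rw [Nat.card_eq_of_bijective ev ⟨evinj, evsurj⟩, ← hcard]
    exact Nat.card_congr Additive.toMul
  haveI : Nontrivial K := Finite.one_lt_card_iff_nontrivial.1 (by
    rw [hKcard]; exact Nat.one_lt_two_pow (by omega))
  haveI : NoZeroDivisors K := ⟨fun {k k'} h => by
    by_contra hc
    push Not at hc
    obtain ⟨hk, hk'⟩ := hc
    have hne : ev k' ≠ 0 := fun e => hk' (evinj (e.trans rfl))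
    obtain ⟨j, hj⟩ := htrans' _ hne
    apply hk
    apply evinj
    show k.1 a' = 0
    have h2 : k.1 (k'.1 a') = 0 := DFunLike.congr_fun (congrArg Subtype.val h) a'
    rw [show k'.1 a' = (A ^ j) a' from hj.symm] at h2
    have e1 := DFunLike.congr_fun (hcomm k.1 k.2 j) a'
    simp only [AddMonoid.End.coe_mul, Function.comp_apply] at e1
    rw [e1, ← map_pow, endOf_apply] at h2
    have h3 : (r ^ j) (k.1 a').toMul = 1 := h2
    exact ((r ^ j).map_eq_one_iff).1 h3⟩
  haveI : IsDomain K := NoZeroDivisors.to_isDomain K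
  letI : Field K := (Finite.isDomain_to_isField K).toField
  haveI : CharP K 2 := CharTwo.of_one_ne_zero_of_two_eq_zero one_ne_zero (by
    apply evinj
    show (((2 : K) : AddMonoid.End (Additive V))) a' = 0
    rw [← one_add_one_eq_two]
    show a' + a' = 0
    exact hsq a)
  letI : Algebra (ZMod 2) K := ZMod.algebra K 2
  haveI : Module.Finite (ZMod 2) K := Module.Finite.of_finite
  have hfin : Module.finrank (ZMod 2) K = n := by
    have h := Module.natCard_eq_pow_finrank (K := ZMod 2) (V := K)
    rw [hKcard, Nat.card_zmod] at h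
    exact (Nat.pow_right_injective le_rfl h).symm
  have hmemB : ∀ b ∈ B, ∀ k ∈ K, endOf b * k * endOf b⁻¹ ∈ K := by
    intro b hb k hk
    obtain ⟨m, hm⟩ : b⁻¹ * r * b ∈ Submonoid.powers r := by
      haveI : Finite (MulAut V) :=
        Finite.of_injective (fun g : MulAut V => (g : V → V)) DFunLike.coe_injective
      rw [IsOfFinOrder.mem_powers_iff_mem_zpowers (isOfFinOrder_of_finite r)]
      simpa using hBr b⁻¹ (B.inv_mem hb)
    rw [hmemK]
    have e1 : endOf b⁻¹ * A = A ^ m * endOf b⁻¹ := by
      rw [← map_pow, ← map_mul, ← map_mul, show r ^ m = b⁻¹ * r * b from hm]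
      congr 1; group
    have e2 : endOf b * A ^ m = A * endOf b := by
      rw [← map_pow, ← map_mul, ← map_mul, show r ^ m = b⁻¹ * r * b from hm]
      congr 1; group
    calc endOf b * k * endOf b⁻¹ * A = endOf b * k * (endOf b⁻¹ * A) := by rw [mul_assoc]
      _ = endOf b * (k * A ^ m) * endOf b⁻¹ := by rw [e1]; simp only [mul_assoc]
      _ = endOf b * A ^ m * k * endOf b⁻¹ := by rw [hcomm k hk]; simp only [mul_assoc]
      _ = A * (endOf b * k * endOf b⁻¹) := by rw [e2]; simp only [mul_assoc]
  have hinv : ∀ b : MulAut V, endOf b⁻¹ * endOf b = 1 := fun b => by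
    rw [← map_mul, inv_mul_cancel, map_one]
  have hinv' : ∀ b : MulAut V, endOf b * endOf b⁻¹ = 1 := fun b => by
    rw [← map_mul, mul_inv_cancel, map_one]
  let φ : B → (K ≃ₐ[ZMod 2] K) := fun b => AlgEquiv.ofRingEquiv (f :=
    { toFun := fun k => ⟨_, hmemB b.1 b.2 k.1 k.2⟩
      invFun := fun k => ⟨_, hmemB b.1⁻¹ (B.inv_mem b.2) k.1 k.2⟩
      left_inv := fun k => Subtype.ext (by
        show endOf b.1⁻¹ * (endOf b.1 * k.1 * endOf b.1⁻¹) * endOf (b.1⁻¹)⁻¹ = k.1
        rw [inv_inv, ← mul_assoc, ← mul_assoc, hinv, one_mul, mul_assoc, hinv, mul_one])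
      right_inv := fun k => Subtype.ext (by
        show endOf b.1 * (endOf b.1⁻¹ * k.1 * endOf (b.1⁻¹)⁻¹) * endOf b.1⁻¹ = k.1
        rw [inv_inv, ← mul_assoc, ← mul_assoc, hinv', one_mul, mul_assoc, hinv', mul_one])
      map_mul' := fun k k' => Subtype.ext (by
        show endOf b.1 * (k.1 * k'.1) * endOf b.1⁻¹ =
          (endOf b.1 * k.1 * endOf b.1⁻¹) * (endOf b.1 * k'.1 * endOf b.1⁻¹)
        simp only [mul_assoc]
        rw [← mul_assoc (endOf b.1⁻¹) (endOf b.1), hinv, one_mul])
      map_add' := fun k k' => Subtype.ext (by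
        show endOf b.1 * (k.1 + k'.1) * endOf b.1⁻¹ = _
        rw [mul_add, add_mul]; rfl) })
    fun z => by
      rcases (show ∀ z : ZMod 2, z = 0 ∨ z = 1 by decide) z with rfl | rfl
      · rw [map_zero, map_zero]
      · rw [map_one, map_one]
  have hφ : ∀ (b : B) (k : K), ((φ b k : K) : AddMonoid.End (Additive V)) =
      endOf b.1 * k.1 * endOf b.1⁻¹ := fun _ _ => rfl
  let ψ : B →* (K ≃ₐ[ZMod 2] K) :=
    { toFun := φ
      map_one' := AlgEquiv.ext fun k => Subtype.ext (by
        rw [hφ, Subgroup.coe_one, inv_one, map_one, one_mul, mul_one]; rfl)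
      map_mul' := fun b b' => AlgEquiv.ext fun k => Subtype.ext (by
        rw [AlgEquiv.mul_apply, hφ, hφ, hφ, Subgroup.coe_mul, mul_inv_rev, map_mul, map_mul]
        simp only [mul_assoc]) }
  have hval : ∀ (b : B) (k : K), ev (ψ b k) = Additive.ofMul (b.1 (ev k).toMul) := by
    intro b k
    show (endOf b.1 * k.1 * endOf b.1⁻¹) a' = _
    simp only [AddMonoid.End.coe_mul, Function.comp_apply, endOf_apply]
    have : (b.1⁻¹) a = a := by
      conv_lhs => rw [← hBa b.1 b.2]
      exact MulAut.inv_apply_self _ _ _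
    show Additive.ofMul (b.1 (k.1 (Additive.ofMul ((b.1⁻¹) a))).toMul) = _
    rw [this]
  have hψ : Function.Injective ψ := by
    intro b b' h
    refine Subtype.ext (MulEquiv.ext fun v => ?_)
    obtain ⟨k, hk⟩ := evsurj (Additive.ofMul v)
    have e := (hval b k).symm.trans ((congrArg (fun f : K ≃ₐ[ZMod 2] K => ev (f k)) h).trans (hval b' k))
    rw [hk] at e
    exact e
  have hG : Nat.card (K ≃ₐ[ZMod 2] K) = n := (IsGalois.card_aut_eq_finrank (ZMod 2) K).trans hfin
  haveI : Finite B := Finite.of_injective ψ hψ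
  refine ⟨isCyclic_of_injective ψ hψ, hG ▸ Subgroup.card_dvd_of_injective ψ hψ, ?_, ?_⟩
  · intro b hb hord
    by_contra hc
    push Not at hc
    let σ := ψ ⟨b, hb⟩
    have hfix : IntermediateField.fixedField (zpowers σ) = ⊥ := by
      refine eq_bot_iff.2 fun k hk => ?_
      rw [IntermediateField.mem_fixedField_iff] at hk
      have e := hk σ (mem_zpowers σ)
      have e' : Additive.ofMul (b (ev k).toMul) = ev k := (hval ⟨b, hb⟩ k).symm.trans (congrArg ev e)
      by_cases h0 : (ev k).toMul = 1
      · have hk0 : k = 0 := evinj (h0.trans rfl)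
        rw [hk0]; exact zero_mem _
      · by_cases h1 : (ev k).toMul = a
        · have hk1 : k = 1 := evinj (h1.trans rfl)
          rw [hk1]; exact one_mem _
        · exact absurd (congrArg Additive.toMul e') (hc _ h0 h1)
    have h := IntermediateField.fixingSubgroup_fixedField (zpowers σ)
    rw [hfix, IntermediateField.fixingSubgroup_bot] at h
    have : orderOf σ = n := by
      rw [← Nat.card_zpowers, ← h, Subgroup.card_top, hG]
    rw [show orderOf σ = orderOf (⟨b, hb⟩ : B) from orderOf_injective ψ hψ _, ← Subgroup.orderOf_coe] at this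
    exact absurd this (ne_of_lt hord)
  · intro hB v hv
    obtain ⟨k, hk⟩ := evsurj (Additive.ofMul v)
    have htop : ψ.range = ⊤ := by
      apply Subgroup.eq_top_of_card_eq
      rw [hG, ← hB]
      exact (Nat.card_congr (MonoidHom.ofInjective hψ).toEquiv).symm
    have hfix : k ∈ IntermediateField.fixedField (⊤ : Subgroup (K ≃ₐ[ZMod 2] K)) := by
      rw [IntermediateField.mem_fixedField_iff]
      intro f hf
      rw [← htop] at hf
      obtain ⟨b, rfl⟩ := hf
      apply evinj
      rw [hval, hk]
      exact congrArg Additive.ofMul (hv _ b.2)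
    rw [← IntermediateField.fixingSubgroup_bot (F := ZMod 2) (E := K), IsGalois.fixedField_fixingSubgroup,
      IntermediateField.mem_bot] at hfix
    obtain ⟨z, hz⟩ := hfix
    rcases (show ∀ z : ZMod 2, z = 0 ∨ z = 1 by decide) z with rfl | rfl
    · left
      rw [map_zero] at hz
      exact congrArg Additive.toMul (hk.symm.trans (congrArg ev hz.symm))
    · right
      rw [map_one] at hz
      exact congrArg Additive.toMul (hk.symm.trans (congrArg ev hz.symm))

end Cfsg.Agent.TwoTimesPSL
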