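import Cfsg.Agent.Lib.TwoTimesPSL.Affine
import Cfsg.Agent.S3214
import Cfsg.Agent.Lib.EPPO.Main
import Cfsg.Agent.Lib.GLOrder.Basic

/-!
# The affine group is `GL(3,2)`

* `Affine.isConj` : one class of involutions
* `Affine.isPGroup_centralizer` : centralizers of involutions are 2-groups
* `Affine.isSimpleGroup`
* `Affine.main` : `n = 3` and `|H| = 168`
-/

set_option autoImplicit false
set_option linter.unusedSectionVars false
set_option linter.style.haveILetI false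

open Subgroup

namespace Cfsg.Agent.TwoTimesPSL

namespace Affine

variable {H V : Type*} [Group H] [Finite H] [CommGroup V] [Finite V]
variable {n : ℕ} {act : H →* MulAut V} {c : H → V} {ρ : H} (A : Affine n act c ρ)
include A

local notation "P" => pm act c

theorem third_of_small {a : V} (ha : a ≠ 1) {y : H} (hy : y ∈ A.pair a) (h : orderOf y < n) :
    ∃ v, v ≠ 1 ∧ v ≠ a ∧ act y v = v :=
  (A.pair_facts ha).2.2.1 y hy h

theorem swap_conj {a : V} {x : H} (hx1 : P x 1 = a) (hxa : P x a = 1) {y : H} (hy : y ∈ A.pair a) :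
    x * y * x⁻¹ ∈ A.pair a := by
  refine mem_inf.2 ⟨?_, ?_⟩
  · have := A.conj_fix (h := x) (A.pair_act a hy).2
    rwa [hxa] at this
  · have := A.conj_fix (h := x) (A.pair_act a hy).1
    rwa [hx1] at this

theorem card_pair {a : V} (ha : a ≠ 1) : Nat.card (A.pair a) = n := by
  by_contra hne
  have hdvd := (A.pair_facts ha).2.1
  refine A.not_controlled ha fun y hy g hg => ?_
  have hlt : orderOf y < n := by
    have h1 : orderOf y ∣ Nat.card (A.pair a) := by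
      rw [← Subgroup.orderOf_mk y hy]
      exact orderOf_dvd_natCard _
    refine lt_of_le_of_lt (Nat.le_of_dvd Nat.card_pos h1)
      (lt_of_le_of_ne (Nat.le_of_dvd ?_ hdvd) hne)
    have := A.two_le; omega
  obtain ⟨v, hv1, hva, hv⟩ := A.third_of_small ha hy hlt
  exact A.centralizes ha hy hv1 hva hv hg

theorem odd_n : Odd n := by
  obtain ⟨a, ha⟩ := A.exists_ne_one
  have h := A.pair_coprime ha
  rw [A.card_pair ha] at h
  exact Nat.coprime_two_right.1 (Nat.Coprime.coprime_dvd_right (dvd_pow_self 2 (by have := A.two_le; omega)) h)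

theorem swap_not_comm {a : V} (ha : a ≠ 1) {x : H} (hx1 : P x 1 = a) (hxa : P x a = 1) :
    ∃ b ∈ A.pair a, x * b * x⁻¹ ≠ b := by
  by_contra hcom
  push Not at hcom
  refine A.not_controlled ha fun y hy g hg => ?_
  by_cases h3 : ∃ v, v ≠ 1 ∧ v ≠ a ∧ act y v = v
  · obtain ⟨v, hv1, hva, hv⟩ := h3
    exact A.centralizes ha hy hv1 hva hv hg
  have honly : ∀ v, P y v = v → v = 1 ∨ v = a := fun v hv => by
    by_contra hc
    push Not at hc
    exact h3 ⟨v, hc.1, hc.2, by rw [← A.pm_fix ((A.mem_pair a).1 hy).1, hv]⟩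
  have hfix : ∀ w, P (g * y * g⁻¹) w = w → P y (P g⁻¹ w) = P g⁻¹ w := fun w hw => by
    have := A.conj_fix (h := g⁻¹) hw
    rwa [show g⁻¹ * (g * y * g⁻¹) * g⁻¹⁻¹ = y by group] at this
  have hcases : g⁻¹ ∈ A.pair a ∨ x * g⁻¹ ∈ A.pair a := by
    rcases honly _ (hfix _ (A.pair_act a hg).1) with e1 | e1 <;>
      rcases honly _ (hfix _ (A.pair_act a hg).2) with e2 | e2
    · exact absurd (A.pm_inj _ (e1.trans e2.symm)) (Ne.symm ha)
    · exact Or.inl (mem_inf.2 ⟨e1, e2⟩)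
    · exact Or.inr (mem_inf.2 ⟨show P (x * g⁻¹) 1 = 1 by rw [A.pm_mul, e1, hxa],
        show P (x * g⁻¹) a = a by rw [A.pm_mul, e2, hx1]⟩)
    · exact absurd (A.pm_inj _ (e1.trans e2.symm)) (Ne.symm ha)
  rcases hcases with h | h
  · have := A.pair_comm ha ((A.pair a).inv_mem h) hy
    rw [inv_inv] at this
    exact mul_inv_eq_iff_eq_mul.2 this
  · have h2 : g = (x * g⁻¹)⁻¹ * x := by group
    calc g * y * g⁻¹ = (x * g⁻¹)⁻¹ * (x * y * x⁻¹) * (x * g⁻¹) := by group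
      _ = y := by
        rw [hcom y hy, ← A.pair_comm ha hy ((A.pair a).inv_mem h), inv_mul_cancel_right]

theorem prime_and_inverts {a : V} (ha : a ≠ 1) {x : H} (hx1 : P x 1 = a) (hxa : P x a = 1) :
    n.Prime ∧ (∀ b ∈ A.pair a, x * b * x⁻¹ = b⁻¹) ∧ x * x = 1 := by
  haveI := (A.pair_facts ha).1
  obtain ⟨g, hg⟩ := IsCyclic.exists_generator (α := A.pair a)
  have hgn : orderOf (g : H) = n := by
    rw [Subgroup.orderOf_coe, orderOf_eq_card_of_forall_mem_zpowers hg, A.card_pair ha]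
  obtain ⟨k, hk⟩ := hg ⟨x * (g : H) * x⁻¹, A.swap_conj hx1 hxa g.2⟩
  have hk' : (g : H) ^ k = x * (g : H) * x⁻¹ := congrArg Subtype.val hk
  have hpow : ∀ i : ℤ, x * (g : H) ^ i * x⁻¹ = (g : H) ^ (k * i) := fun i => by
    rw [← conj_zpow, ← hk', zpow_mul]
  have hne : ¬ (n : ℤ) ∣ k - 1 := by
    intro hd
    rw [← hgn, orderOf_dvd_iff_zpow_eq_one, zpow_sub, zpow_one, mul_inv_eq_one] at hd
    obtain ⟨b, hb, hb'⟩ := A.swap_not_comm ha hx1 hxa
    obtain ⟨i, hi⟩ := hg ⟨b, hb⟩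
    have hi' : (g : H) ^ i = b := congrArg Subtype.val hi
    apply hb'
    rw [← hi', hpow, zpow_mul, hd]
  have hxx : x * x ∈ A.pair a :=
    mem_inf.2 ⟨show P (x * x) 1 = 1 by rw [A.pm_mul, hx1, hxa],
      show P (x * x) a = a by rw [A.pm_mul, hxa, hx1]⟩
  have hk2 : (n : ℤ) ∣ (k - 1) * (k + 1) := by
    rw [← hgn, orderOf_dvd_iff_zpow_eq_one, show (k - 1) * (k + 1) = k * k - 1 by ring, zpow_sub, zpow_one,
      mul_inv_eq_one, ← hpow k, hk']
    calc x * (x * (g : H) * x⁻¹) * x⁻¹ = (x * x) * (g : H) * (x * x)⁻¹ := by group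
      _ = (g : H) := by rw [A.pair_comm ha hxx g.2, mul_inv_cancel_right]
  have hn2 := A.two_le
  have hodd := A.odd_n
  have hprime : n.Prime := by
    by_contra hnp
    have hdiv : ∀ p : ℕ, p.Prime → p ∣ n → (p : ℤ) ∣ k - 1 := by
      intro p hp hpn
      obtain ⟨m, hm⟩ := hpn
      have hm0 : m ≠ 0 := by rintro rfl; omega
      have hord : orderOf ((g : H) ^ m) = p := by
        rw [orderOf_pow' _ hm0, hgn, hm, Nat.gcd_mul_left_left, Nat.mul_div_cancel _ (Nat.pos_of_ne_zero hm0)]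
      have hlt : p < n := lt_of_le_of_ne (Nat.le_of_dvd (by omega) ⟨m, hm⟩) fun e => hnp (e ▸ hp)
      obtain ⟨v, hv1, hva, hv⟩ := A.third_of_small ha ((A.pair a).pow_mem g.2 m) (hord ▸ hlt)
      have e := A.centralizes ha ((A.pair a).pow_mem g.2 m) hv1 hva hv
        (A.swap_conj hx1 hxa ((A.pair a).pow_mem g.2 m))
      rw [← zpow_natCast, hpow, ← mul_inv_eq_one, ← zpow_sub, ← orderOf_dvd_iff_zpow_eq_one, hgn, hm] at e
      push_cast at e
      refine (mul_dvd_mul_iff_right (show (m : ℤ) ≠ 0 by exact_mod_cast hm0)).1 ?_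
      rwa [show (k - 1) * (m : ℤ) = k * m - m by ring]
    have hcop : Nat.Coprime n (k + 1).natAbs := by
      refine Nat.coprime_of_dvd fun p hp h1 h2 => ?_
      have h3 : (p : ℤ) ∣ k + 1 := Int.natCast_dvd.2 h2
      have h4 : (p : ℤ) ∣ 2 := by
        have := dvd_sub h3 (hdiv p hp h1)
        rwa [show k + 1 - (k - 1) = 2 by ring] at this
      have h5 : p = 2 := (Nat.prime_dvd_prime_iff_eq hp Nat.prime_two).1 (by exact_mod_cast h4)
      subst h5
      exact absurd (Nat.even_iff.2 (Nat.mod_eq_zero_of_dvd h1)) (Nat.not_even_iff_odd.2 hodd)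
    refine hne (IsCoprime.dvd_of_dvd_mul_right ?_ hk2)
    rw [Int.isCoprime_iff_gcd_eq_one]
    exact hcop
  have hinv : (n : ℤ) ∣ k + 1 := ((Nat.prime_iff_prime_int.1 hprime).dvd_or_dvd hk2).resolve_left hne
  rw [← hgn, orderOf_dvd_iff_zpow_eq_one, zpow_add, zpow_one, mul_eq_one_iff_eq_inv] at hinv
  have hall : ∀ b ∈ A.pair a, x * b * x⁻¹ = b⁻¹ := by
    intro b hb
    obtain ⟨i, hi⟩ := hg ⟨b, hb⟩
    have hi' : (g : H) ^ i = b := congrArg Subtype.val hi
    rw [← hi', hpow, zpow_mul, hinv, inv_zpow]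
  refine ⟨hprime, hall, ?_⟩
  have h1 := hall _ hxx
  rw [mul_assoc x (x * x) x⁻¹, mul_inv_cancel_right] at h1
  have h2 : (x * x) ^ 2 = 1 := by rw [pow_two]; exact mul_eq_one_iff_eq_inv.2 h1
  exact TwoFusion.eq_one_of_pow_eq_one_of_coprime h2 (pow_orderOf_eq_one _)
    (Nat.coprime_two_left.2 (A.pair_odd ha hxx))

theorem exists_swap {a : V} (ha : a ≠ 1) : ∃ x : H, P x 1 = a ∧ P x a = 1 :=
  A.exists_pair ha ha

theorem prime : n.Prime := by
  obtain ⟨a, ha⟩ := A.exists_ne_one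
  obtain ⟨x, hx1, hxa⟩ := A.exists_swap ha
  exact (A.prime_and_inverts ha hx1 hxa).1

theorem pair_only {a : V} (ha : a ≠ 1) {b : H} (hb : b ∈ A.pair a) (hb1 : b ≠ 1) {v : V}
    (hv : P b v = v) : v = 1 ∨ v = a := by
  refine (A.pair_facts ha).2.2.2 (A.card_pair ha) v fun d hd => ?_
  have hbc := ((A.mem_pair a).1 hb).1
  have hdc := ((A.mem_pair a).1 hd).1
  have hprime := A.prime
  haveI : Fact (Nat.card (A.pair a)).Prime := ⟨(A.card_pair ha).symm ▸ hprime⟩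
  have hd' : (⟨d, hd⟩ : A.pair a) ∈ zpowers (⟨b, hb⟩ : A.pair a) :=
    mem_zpowers_of_prime_card rfl (fun e => hb1 (congrArg Subtype.val e))
  obtain ⟨i, hi⟩ := hd'
  rw [← A.pm_fix hdc]
  exact A.stab_zpowers hv ⟨i, congrArg Subtype.val hi⟩

theorem inv_move {t : H} (ht : orderOf t = 2) (v : V) : P t v ≠ v := by
  intro hv
  obtain ⟨g, hg⟩ := A.surj v
  have hg' : P g 1 = v := by rw [A.pm_at_one, hg]
  have h1 := A.conj_fix (h := g⁻¹) hv
  rw [← hg', A.pm_inv_self] at h1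
  have h2 := A.odd _ (A.mem_stab_one.1 h1)
  rw [← SemiconjBy.orderOf_eq g⁻¹ (show SemiconjBy g⁻¹ t (g⁻¹ * t * g⁻¹⁻¹) by
    rw [SemiconjBy, inv_mul_cancel_right]), ht] at h2
  exact absurd h2 (Nat.not_odd_iff_even.2 even_two)

theorem involution_swap {t : H} (ht : orderOf t = 2) (v : V) : P t (P t v) = v := by
  rw [← A.pm_mul, ← pow_two, ← ht, pow_orderOf_eq_one, A.pm_one]

theorem conj_swap {a : V} (ha : a ≠ 1) {t : H} (ht : orderOf t = 2) (v : V) :
    ∃ h : H, P h 1 = v ∧ P (h⁻¹ * t * h) 1 = a ∧ P (h⁻¹ * t * h) a = 1 := by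
  obtain ⟨h, h1, h2⟩ := A.exists_pair (Ne.symm (A.inv_move ht v)) ha
  refine ⟨h, h1, ?_, ?_⟩
  · rw [A.pm_mul, A.pm_mul, h1, ← h2, A.pm_inv_self]
  · rw [A.pm_mul, A.pm_mul, h2, A.involution_swap ht, ← h1, A.pm_inv_self]

theorem isPGroup_centralizer {t : H} (ht : orderOf t = 2) :
    IsPGroup 2 (centralizer ({t} : Set H)) := by
  haveI : Fact (Nat.Prime 2) := ⟨Nat.prime_two⟩
  rw [IsPGroup.iff_card]
  refine ⟨_, Nat.eq_prime_pow_of_unique_prime_dvd Nat.card_pos.ne' fun {p} hp hpd => ?_⟩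
  haveI : Fact p.Prime := ⟨hp⟩
  by_contra hp2
  obtain ⟨g, hg⟩ := exists_prime_orderOf_dvd_card' p hpd
  have hgo : orderOf (g : H) = p := by rw [Subgroup.orderOf_coe, hg]
  have hcom : (g : H) * t = t * (g : H) := mem_centralizer_singleton_iff.1 g.2
  obtain ⟨v, hv⟩ := A.fix_odd (g := (g : H)) (by rw [hgo]; exact hp.odd_of_ne_two hp2)
  obtain ⟨a, ha⟩ := A.exists_ne_one
  obtain ⟨h, h1, ht1, hta⟩ := A.conj_swap ha ht v
  obtain ⟨hprime, hinv, -⟩ := A.prime_and_inverts ha ht1 hta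
  have hmem : h⁻¹ * (g : H) * h ∈ A.pair a := by
    refine mem_inf.2 ⟨?_, ?_⟩
    · show P _ 1 = 1
      rw [A.pm_mul, A.pm_mul, h1, hv, ← h1, A.pm_inv_self]
    · show P _ a = a
      have e : P (h⁻¹ * t * h) 1 = a := ht1
      rw [← e, ← A.pm_mul, show h⁻¹ * (g : H) * h * (h⁻¹ * t * h) = (h⁻¹ * t * h) * (h⁻¹ * (g : H) * h) by
        calc _ = h⁻¹ * ((g : H) * t) * h := by group
          _ = h⁻¹ * (t * (g : H)) * h := by rw [hcom]
          _ = _ := by group, A.pm_mul]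
      congr 1
      rw [A.pm_mul, A.pm_mul, h1, hv, ← h1, A.pm_inv_self]
  have e := hinv _ hmem
  rw [show h⁻¹ * t * h * (h⁻¹ * (g : H) * h) * (h⁻¹ * t * h)⁻¹ = h⁻¹ * (t * (g : H) * t⁻¹) * h by group,
    ← hcom, mul_inv_cancel_right] at e
  have hsq : (g : H) ^ 2 = 1 := by
    have h3 : h⁻¹ * ((g : H) * (g : H)) * h = 1 := by
      calc _ = (h⁻¹ * (g : H) * h) * (h⁻¹ * (g : H) * h) := by group
        _ = 1 := mul_eq_one_iff_eq_inv.2 e
    rw [pow_two]
    calc (g : H) * (g : H) = h * (h⁻¹ * ((g : H) * (g : H)) * h) * h⁻¹ := by group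
      _ = 1 := by rw [h3]; group
  have : p ∣ 2 := hgo ▸ orderOf_dvd_of_pow_eq_one hsq
  exact hp2 ((Nat.prime_dvd_prime_iff_eq hp Nat.prime_two).1 this)

theorem conj_to_swap {a : V} (ha : a ≠ 1) {x : H} (hx1 : P x 1 = a) (hxa : P x a = 1) {t : H}
    (ht : orderOf t = 2) : IsConj x t := by
  obtain ⟨h, -, ht1, hta⟩ := A.conj_swap ha ht 1
  obtain ⟨-, hinv, hxx⟩ := A.prime_and_inverts ha hx1 hxa
  have hxinv : x⁻¹ = x := inv_eq_of_mul_eq_one_right hxx
  have hb : x * (h⁻¹ * t * h) ∈ A.pair a :=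
    mem_inf.2 ⟨show P _ 1 = 1 by rw [A.pm_mul, ht1, hxa], show P _ a = a by rw [A.pm_mul, hta, hx1]⟩
  haveI : Finite (A.pair a) := Subtype.finite
  obtain ⟨d, hd⟩ := (powCoprime (show (Nat.card (A.pair a)).Coprime 2 by
    rw [A.card_pair ha]; exact Nat.coprime_two_right.2 A.odd_n)).surjective ⟨_, hb⟩
  have hd' : (d : H) * (d : H) = x * (h⁻¹ * t * h) := by
    rw [← pow_two]; exact congrArg Subtype.val hd
  refine isConj_iff.2 ⟨h * (d : H)⁻¹, ?_⟩
  have e1 : (d : H)⁻¹ * x * (d : H) = x * ((d : H) * (d : H)) := by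
    conv_lhs => rw [show (d : H)⁻¹ = x * (d : H) * x⁻¹ from (hinv _ d.2).symm]
    group
  calc h * (d : H)⁻¹ * x * (h * (d : H)⁻¹)⁻¹ = h * ((d : H)⁻¹ * x * (d : H)) * h⁻¹ := by group
    _ = h * (x * (x * (h⁻¹ * t * h))) * h⁻¹ := by rw [e1, hd']
    _ = t := by rw [← mul_assoc x x, hxx]; group

theorem isConj {t t' : H} (ht : orderOf t = 2) (ht' : orderOf t' = 2) : IsConj t t' := by
  obtain ⟨a, ha⟩ := A.exists_ne_one
  obtain ⟨x, hx1, hxa⟩ := A.exists_swap ha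
  exact (A.conj_to_swap ha hx1 hxa ht).symm.trans (A.conj_to_swap ha hx1 hxa ht')

theorem orderOf_rho : orderOf ρ = 2 ^ n - 1 := by
  classical
  haveI := Fintype.ofFinite V
  obtain ⟨a, ha⟩ := A.exists_ne_one
  have : Nat.card (zpowers ρ) = Nat.card {v : V // v ≠ 1} := by
    refine Nat.card_eq_of_bijective (fun u => ⟨act (u : H) a, (act (u : H)).map_ne_one_iff.2 ha⟩) ⟨?_, ?_⟩
    · intro u u' h
      have h' : act (u : H) a = act (u' : H) a := congrArg Subtype.val h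
      refine Subtype.ext (inv_mul_eq_one.1 ?_).symm
      have hmem : (u' : H)⁻¹ * (u : H) ∈ zpowers ρ := mul_mem (inv_mem u'.2) u.2
      obtain ⟨i, hi⟩ := (IsOfFinOrder.mem_powers_iff_mem_zpowers (isOfFinOrder_of_finite ρ)).2 hmem
      have hi' : ρ ^ i = (u' : H)⁻¹ * (u : H) := hi
      rw [← hi']
      refine A.rho_regular ha ?_
      rw [hi', map_mul, MulAut.mul_apply, h', ← MulAut.mul_apply, ← map_mul, inv_mul_cancel, map_one,
        MulAut.one_apply]
    · rintro ⟨v, hv⟩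
      obtain ⟨i, hi⟩ := A.trans a v ha hv
      exact ⟨⟨ρ ^ i, i, zpow_natCast ρ i⟩, Subtype.ext hi⟩
  rw [Nat.card_zpowers] at this
  rw [this, Nat.card_eq_fintype_card, Fintype.card_subtype_compl, ← Nat.card_eq_fintype_card, A.card,
    Fintype.card_subtype_eq]

theorem card_eq : Nat.card H = 2 ^ n * ((2 ^ n - 1) * n) := by
  classical
  obtain ⟨a, ha⟩ := A.exists_ne_one
  obtain ⟨ψ, hψ⟩ := A.exists_proj ha
  have hsurj : Function.Surjective ψ := fun b =>
    ⟨⟨b, (mem_inf.1 b.2).1⟩, Subtype.ext (A.proj_key ha hψ b.2)⟩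
  have hker : ψ.ker = (zpowers ρ).subgroupOf (A.stab 1) := by
    refine Subgroup.ext fun u => ⟨fun hu => ?_, fun hu => ?_⟩
    · have := hψ u
      rwa [MonoidHom.mem_ker.1 hu, Subgroup.coe_one, inv_one, mul_one] at this
    · refine MonoidHom.mem_ker.2 (Subtype.ext (A.rho_zpow_pair ha ?_ (ψ u).2))
      exact inv_mem_iff.1 (((zpowers ρ).mul_mem_cancel_left (mem_subgroupOf.1 hu)).1 (hψ u))
  have hle : zpowers ρ ≤ A.stab 1 := zpowers_le.2 (A.mem_stab_one.2 A.rho_fix)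
  have h1 : Nat.card (A.stab 1) = (2 ^ n - 1) * n := by
    rw [← ψ.ker.card_mul_index, Subgroup.index_ker, MonoidHom.range_eq_top.2 hsurj, Subgroup.card_top,
      A.card_pair ha, hker, Nat.card_congr (Subgroup.subgroupOfEquivOfLe hle).toEquiv, Nat.card_zpowers,
      A.orderOf_rho]
  rw [← (A.stab 1).index_mul_card, A.index_stab, h1]

theorem isSimpleGroup : IsSimpleGroup H ∧ ¬ IsMulCommutative H := by
  classical
  obtain ⟨a, ha⟩ := A.exists_ne_one
  obtain ⟨x, hx1, hxa⟩ := A.exists_swap ha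
  obtain ⟨hprime, hinv, hxx⟩ := A.prime_and_inverts ha hx1 hxa
  obtain ⟨b, hb, hbx⟩ := A.swap_not_comm ha hx1 hxa
  have hb1 : b ≠ 1 := by rintro rfl; exact hbx (by group)
  refine ⟨?_, fun h => hbx (by rw [h.is_comm.comm x b, mul_inv_cancel_right])⟩
  haveI : Nontrivial H := ⟨⟨b, 1, hb1⟩⟩
  refine ⟨fun N hN => ?_⟩
  by_cases hbot : N = ⊥
  · exact Or.inl hbot
  refine Or.inr ?_
  obtain ⟨h, hh, hmove⟩ : ∃ h ∈ N, c h ≠ 1 := by
    by_contra hc
    push Not at hc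
    refine hbot ((Subgroup.eq_bot_iff_forall N).2 fun h hh => A.faithful fun v => ?_)
    obtain ⟨g, hg⟩ := A.surj v
    have h1 : P (g⁻¹ * h * g) 1 = 1 := by
      rw [A.pm_at_one]
      exact hc _ (by simpa using hN.conj_mem h hh g⁻¹)
    have := A.conj_fix (h := g) h1
    rw [A.pm_at_one, hg] at this
    rwa [show g * (g⁻¹ * h * g) * g⁻¹ = h by group] at this
  have htrans : ∀ v, ∃ k ∈ N, c k = v := by
    intro v
    by_cases hv : v = 1
    · exact ⟨1, N.one_mem, hv ▸ A.c_one⟩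
    · obtain ⟨i, hi⟩ := A.trans (c h) v hmove hv
      refine ⟨ρ ^ i * h * (ρ ^ i)⁻¹, hN.conj_mem h hh _, ?_⟩
      rw [← A.pm_at_one, A.pm_mul, A.pm_mul]
      have : P (ρ ^ i)⁻¹ 1 = 1 :=
        A.mem_stab.1 ((A.stab 1).inv_mem (A.mem_stab_one.2 (A.rho_pow_fix i)))
      rw [this, A.pm_at_one, A.pm_fix (A.rho_pow_fix i), hi]
  have hidx : ((A.stab 1).subgroupOf N).index = 2 ^ n := by
    rw [← A.card]
    refine Nat.card_eq_of_bijective (Quotient.lift (fun k : N => c (k : H)) ?_) ⟨?_, ?_⟩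
    · intro g g' h
      have h' : c ((g : H)⁻¹ * (g' : H)) = 1 :=
        A.mem_stab_one.1 (mem_subgroupOf.1 (QuotientGroup.leftRel_apply.1 h))
      calc c (g : H) = c (g : H) * act (g : H) (c ((g : H)⁻¹ * g')) := by rw [h', map_one, mul_one]
        _ = c (g' : H) := by rw [← A.cocycle, mul_inv_cancel_left]
    · rintro ⟨g⟩ ⟨g'⟩ h
      refine Quotient.sound (QuotientGroup.leftRel_apply.2 (mem_subgroupOf.2 (A.mem_stab_one.2 ?_)))
      have h1 : c ((g : H)⁻¹ * g') = c (g : H)⁻¹ * act (g : H)⁻¹ (c (g : H)) := by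
        rw [A.cocycle, show c (g' : H) = c (g : H) from h.symm]
      show c ((g : H)⁻¹ * g') = 1
      rw [h1, ← A.cocycle, inv_mul_cancel, A.c_one]
    · intro v
      obtain ⟨k, hk, e⟩ := htrans v
      exact ⟨Quotient.mk'' ⟨k, hk⟩, e⟩
  have h2 : 2 ∣ Nat.card N :=
    (dvd_pow_self 2 (by have := A.two_le; omega : n ≠ 0)).trans (hidx ▸ Subgroup.index_dvd_card _)
  haveI : Fact (Nat.Prime 2) := ⟨Nat.prime_two⟩
  obtain ⟨t, ht⟩ := exists_prime_orderOf_dvd_card' 2 h2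
  have hinvN : ∀ {s : H}, orderOf s = 2 → s ∈ N := by
    intro s hs
    obtain ⟨u, hu⟩ := isConj_iff.1 (A.isConj (t := (t : H)) (by rw [Subgroup.orderOf_coe, ht]) hs)
    exact hu ▸ hN.conj_mem _ t.2 u
  have hxo : ∀ d ∈ A.pair a, orderOf (x * d) = 2 := by
    intro d hd
    refine orderOf_eq_prime ?_ fun e => ?_
    · calc (x * d) ^ 2 = x * d * x⁻¹ * (x * x) * d := by rw [pow_two]; group
        _ = 1 := by rw [hinv d hd, hxx]; group
    · have := A.pm_one 1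
      rw [← e, A.pm_mul, (A.pair_act a hd).1, hx1] at this
      exact ha this
  have hBN : ∀ d ∈ A.pair a, d ∈ N := fun d hd => by
    have h1 := N.mul_mem (N.inv_mem (hinvN (hxo 1 (one_mem _)))) (hinvN (hxo d hd))
    simpa [mul_assoc] using h1
  have hbc := ((A.mem_pair a).1 hb).1
  let f : zpowers ρ → zpowers ρ := fun u => ⟨(u : H) * (b * (u : H)⁻¹ * b⁻¹),
    mul_mem u.2 (A.conj_rho hbc (inv_mem u.2))⟩
  have hf : Function.Injective f := by
    intro u u' h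
    have h' : (u : H) * (b * (u : H)⁻¹ * b⁻¹) = (u' : H) * (b * (u' : H)⁻¹ * b⁻¹) := congrArg Subtype.val h
    refine Subtype.ext (inv_mul_eq_one.1 ?_).symm
    have hw : (u' : H)⁻¹ * (u : H) ∈ zpowers ρ := mul_mem (inv_mem u'.2) u.2
    refine A.rho_zpow_pair ha hw ?_
    have hcom : ((u' : H)⁻¹ * (u : H)) * b = b * ((u' : H)⁻¹ * (u : H)) := by
      calc ((u' : H)⁻¹ * (u : H)) * b
          = (u' : H)⁻¹ * ((u : H) * (b * (u : H)⁻¹ * b⁻¹)) * (b * (u : H)) := by group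
        _ = (u' : H)⁻¹ * ((u' : H) * (b * (u' : H)⁻¹ * b⁻¹)) * (b * (u : H)) := by rw [h']
        _ = b * ((u' : H)⁻¹ * (u : H)) := by group
    have hwc : c ((u' : H)⁻¹ * (u : H)) = 1 :=
      A.mem_stab_one.1 (zpowers_le.2 (A.mem_stab_one.2 A.rho_fix) hw)
    refine (A.mem_pair a).2 ⟨hwc, ?_⟩
    have hfix : P b (act ((u' : H)⁻¹ * (u : H)) a) = act ((u' : H)⁻¹ * (u : H)) a := by
      rw [← A.pm_fix hwc, ← A.pm_mul, ← hcom, A.pm_mul, (A.pair_act a hb).2]
    exact (A.pair_only ha hb hb1 hfix).resolve_left ((act _).map_ne_one_iff.2 ha)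
  have hρN : ∀ i : ℕ, ρ ^ i ∈ N := by
    intro i
    obtain ⟨u, hu⟩ := (Finite.injective_iff_surjective.1 hf) ⟨ρ ^ i, i, zpow_natCast ρ i⟩
    have hu' : (u : H) * (b * (u : H)⁻¹ * b⁻¹) = ρ ^ i := congrArg Subtype.val hu
    rw [← hu', ← mul_assoc, ← mul_assoc]
    exact N.mul_mem (hN.conj_mem b (hBN b hb) _) (N.inv_mem (hBN b hb))
  refine eq_top_iff.2 fun g _ => ?_
  obtain ⟨k, hk, hkc⟩ := htrans (c g)
  have hst : c (k⁻¹ * g) = 1 := by
    rw [A.cocycle, ← hkc, ← A.cocycle, inv_mul_cancel, A.c_one]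
  obtain ⟨i, d, hd, e⟩ := A.decomp ha hst
  rw [show g = k * (k⁻¹ * g) by group, e]
  exact N.mul_mem hk (N.mul_mem (hρN i) (hBN d hd))

omit A in
theorem two_part {i j u v : ℕ} (hu : Odd u) (hv : Odd v) (h : 2 ^ i * u = 2 ^ j * v) : i = j := by
  have key : ∀ {i j u v : ℕ}, Odd v → 2 ^ i * u = 2 ^ j * v → i ≤ j := fun {i j u v} hv h =>
    (Nat.pow_dvd_pow_iff_le_right (by norm_num : 1 < 2)).1
      ((Nat.Coprime.pow_left i (Nat.coprime_two_left.2 hv)).dvd_of_dvd_mul_right ⟨u, h.symm⟩)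
  exact le_antisymm (key hv h) (key hu h.symm)

omit A in
theorem psl_arith {n r : ℕ} (hn : n.Prime) (hodd : Odd n) (hr : 3 < r) (hrodd : Odd r)
    (h : 2 * (2 ^ n * ((2 ^ n - 1) * n)) = r * (r ^ 2 - 1)) : n = 3 := by
  have hn3 : 3 ≤ n := by
    rcases hodd with ⟨k, rfl⟩
    have := hn.two_le; omega
  obtain ⟨s, rfl⟩ := hrodd
  obtain ⟨m, rfl⟩ := Nat.exists_eq_add_of_le hn3
  have e : (2 * s + 1) ^ 2 - 1 = 4 * (s * (s + 1)) := by
    rw [show (2 * s + 1) ^ 2 = 4 * (s * (s + 1)) + 1 by ring, Nat.add_sub_cancel]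
  rw [e] at h
  have hQ : 2 ^ (3 + m) = 2 * 2 ^ (2 + m) := by rw [← pow_succ']; congr 1; omega
  have hQ8 : 8 ≤ 2 ^ (3 + m) := le_trans (le_of_eq (by norm_num : 8 = 2 ^ 3)) (Nat.pow_le_pow_right two_pos (by omega))
  have hlt : 3 + m < 2 ^ (3 + m) := Nat.lt_two_pow_self
  have hdvd : 2 ^ (2 + m) ∣ s * (s + 1) := by
    refine (Nat.Coprime.pow_left _ (Nat.coprime_two_left.2 ⟨s, rfl⟩)).dvd_of_dvd_mul_left (k := 2 ^ (2 + m))
      (m := 2 * s + 1) ?_
    refine ⟨(2 ^ (3 + m) - 1) * (3 + m), ?_⟩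
    rw [hQ] at h ⊢
    linarith
  have hup : 2 * (2 ^ (3 + m) * ((2 ^ (3 + m) - 1) * (3 + m))) < 16 * (2 ^ (2 + m)) ^ 3 := by
    have h1 : (2 ^ (3 + m) - 1) * (3 + m) < 2 ^ (3 + m) * 2 ^ (3 + m) :=
      Nat.mul_lt_mul_of_le_of_lt (Nat.sub_le _ _) hlt (Nat.two_pow_pos _)
    calc 2 * (2 ^ (3 + m) * ((2 ^ (3 + m) - 1) * (3 + m)))
        < 2 * (2 ^ (3 + m) * (2 ^ (3 + m) * 2 ^ (3 + m))) := by
          exact Nat.mul_lt_mul_of_pos_left (Nat.mul_lt_mul_of_pos_left h1 (Nat.two_pow_pos _)) two_pos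
      _ = 16 * (2 ^ (2 + m)) ^ 3 := by rw [hQ]; ring
  have hlow : 2 * 2 ^ (2 + m) ≤ s + 1 → 24 * (2 ^ (2 + m)) ^ 3 ≤ (2 * s + 1) * (4 * (s * (s + 1))) := by
    intro h2
    have hQ1 : 1 ≤ 2 ^ (2 + m) := Nat.one_le_two_pow
    calc 24 * (2 ^ (2 + m)) ^ 3
        = (3 * 2 ^ (2 + m)) * (4 * (2 ^ (2 + m) * (2 * 2 ^ (2 + m)))) := by ring
      _ ≤ _ := Nat.mul_le_mul (by omega) (Nat.mul_le_mul_left _ (Nat.mul_le_mul (by omega) h2))
  have hpp : IsPrimePow (2 ^ (2 + m)) := Nat.prime_two.isPrimePow.pow (by omega)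
  rcases (Nat.Coprime.isPrimePow_dvd_mul (by simp) hpp).1 hdvd with ⟨k, hk⟩ | ⟨k, hk⟩
  · -- `r - 1 = q k`
    exfalso
    have hk1 : k = 1 := by
      rcases k with _ | _ | k
      · omega
      · rfl
      · exfalso
        have h2 : 2 * 2 ^ (2 + m) ≤ s := by
          have : 2 ^ (2 + m) * 2 ≤ 2 ^ (2 + m) * (k + 1 + 1) := Nat.mul_le_mul_left _ (by omega)
          omega
        have := hlow (by omega)
        omega
    subst hk1
    rw [mul_one] at hk
    subst hk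
    rw [hQ] at h hQ8 hlt
    obtain ⟨w, hw⟩ : ∃ w, 2 * 2 ^ (2 + m) = w + 1 := ⟨_, (Nat.succ_pred_eq_of_pos (by omega)).symm⟩
    rw [hw, Nat.add_sub_cancel] at h
    rw [hw] at hQ8 hlt
    have e4 : 4 * (2 ^ (2 + m) * (2 ^ (2 + m) + 1)) = (w + 1) * (w + 3) := by
      rw [show w + 3 = (w + 1) + 2 by omega, ← hw]; ring
    rw [e4] at h
    have h2 : (w + 1) * ((w + 2) * (w + 3)) = (w + 1) * (2 * ((3 + m) * w)) := by linarith
    have h3 := Nat.eq_of_mul_eq_mul_left (by omega) h2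
    have h6 : w ∣ 6 := by
      have h7 : w ∣ w * (w + 5) + 6 := ⟨2 * (3 + m), by linarith⟩
      exact (Nat.dvd_add_right (dvd_mul_right w _)).1 h7
    have := Nat.le_of_dvd (by norm_num) h6
    omega
  · -- `r + 1 = q k`
    have hk1 : k = 1 := by
      rcases k with _ | _ | k
      · omega
      · rfl
      · exfalso
        have h2 : 2 * 2 ^ (2 + m) ≤ s + 1 := by
          have : 2 ^ (2 + m) * 2 ≤ 2 ^ (2 + m) * (k + 1 + 1) := Nat.mul_le_mul_left _ (by omega)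
          omega
        have := hlow (by omega)
        omega
    subst hk1
    rw [mul_one] at hk
    obtain rfl : s = 2 ^ (2 + m) - 1 := by omega
    obtain ⟨w, hw⟩ : ∃ w, 2 ^ (2 + m) = w + 1 := ⟨_, (Nat.succ_pred_eq_of_pos (Nat.two_pow_pos _)).symm⟩
    rw [hw, Nat.add_sub_cancel] at h
    rw [hQ, hw, show 2 * (w + 1) - 1 = 2 * w + 1 by omega] at h
    have h2 : 4 * ((2 * w + 1) * (w + 1)) * (3 + m) = 4 * ((2 * w + 1) * (w + 1)) * w := by linarith
    have h3 := Nat.eq_of_mul_eq_mul_left (by positivity) h2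
    rcases m with _ | _ | m
    · rfl
    · exfalso; norm_num at hw; omega
    · exfalso
      have h4 : ∀ j, j + 6 < 2 ^ (2 + (j + 1 + 1)) := fun j => by
        induction j with
        | zero => norm_num
        | succ j ih =>
          rw [show 2 + (j + 1 + 1 + 1) = (2 + (j + 1 + 1)) + 1 by omega, pow_succ]
          omega
      have := h4 m
      omega

theorem main : n = 3 ∧ Nat.card H = 168 := by
  suffices hn : n = 3 by
    refine ⟨hn, ?_⟩
    rw [A.card_eq, hn]; norm_num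
  obtain ⟨hs, hna⟩ := A.isSimpleGroup
  haveI := hs
  have hI : ∀ t : H, orderOf t = 2 →
      Cfsg.HasNormalPComplement 2 (centralizer ({t} : Set H)) := by
    intro t ht
    haveI : Fact (Nat.Prime 2) := ⟨Nat.prime_two⟩
    have h2 := A.isPGroup_centralizer ht
    obtain ⟨W⟩ := (inferInstance : Nonempty (Sylow 2 (centralizer ({t} : Set H))))
    have htop : (W : Subgroup (centralizer ({t} : Set H))) = ⊤ :=
      (W.3 (h2.to_subgroup ⊤) le_top).symm
    exact ⟨W, ⊥, inferInstance, htop ▸ Subgroup.isComplement'_bot_top⟩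
  have hodd := A.odd_n
  have hcard := A.card_eq
  have hoddq : Odd ((2 ^ n - 1) * n) := by
    refine Nat.odd_mul.2 ⟨?_, hodd⟩
    exact Nat.Even.sub_odd Nat.one_le_two_pow (even_two.pow_of_ne_zero (by have := A.two_le; omega)) odd_one
  rcases S3214.result hna hI with ⟨F, iF, iFt, hF, ⟨e⟩⟩ | hS | ⟨⟨e⟩⟩ | ⟨F, iF, iFt, hF, ⟨e⟩⟩
  · rw [Fintype.card_eq_nat_card] at hF
    rcases Nat.even_or_odd (Nat.card F) with he | ho
    · exfalso
      have h := GLOrder.card_PSL_two_of_even he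
      rw [← Nat.card_congr e.toEquiv, hcard] at h
      obtain ⟨p, i, hp, hi, hpi⟩ := FiniteField.isPrimePow_card F
      rw [← Nat.prime_iff] at hp
      rw [← Nat.card_eq_fintype_card] at hpi
      obtain rfl : p = 2 := ((Nat.prime_dvd_prime_iff_eq Nat.prime_two hp).1
        (Nat.prime_two.dvd_of_dvd_pow (hpi ▸ even_iff_two_dvd.1 he))).symm
      rw [← hpi] at h
      have hin : n = i := two_part hoddq (Nat.Even.sub_odd (Nat.one_le_pow _ _ (Nat.two_pow_pos i))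
        ((even_two.pow_of_ne_zero hi.ne').pow_of_ne_zero two_ne_zero) odd_one) h
      subst hin
      have h2 := Nat.eq_of_mul_eq_mul_left (Nat.two_pow_pos n) h
      rw [show (2 ^ n) ^ 2 - 1 = (2 ^ n - 1) * (2 ^ n + 1) by
        rw [show (2 ^ n) ^ 2 - 1 = (2 ^ n) ^ 2 - 1 ^ 2 by norm_num, Nat.sq_sub_sq]; ring] at h2
      have := Nat.eq_of_mul_eq_mul_left (by have := A.two_le_card; omega) h2
      have := Nat.lt_two_pow_self (n := n)
      omega
    · have h := GLOrder.card_PSL_two_of_odd ho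
      rw [← Nat.card_congr e.toEquiv, hcard] at h
      exact psl_arith A.prime hodd hF ho h
  · exfalso
    obtain ⟨F, iF, iFt, m, hm, hF, ⟨e⟩⟩ := hS
    have h := hcard
    rw [Nat.card_congr e.toEquiv, EPPO.card_lieSz hm hF rfl, ← pow_mul, mul_assoc] at h
    have hq : Even (2 ^ (2 * m + 1)) := even_two.pow_of_ne_zero (by omega)
    have := two_part (Nat.odd_mul.2 ⟨(even_two.pow_of_ne_zero (show (2 * m + 1) * 2 ≠ 0 by omega)).add_one,
      Nat.Even.sub_odd Nat.one_le_two_pow hq odd_one⟩) hoddq h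
    rw [← this, Nat.odd_iff] at hodd
    omega
  · exfalso
    have h := hcard
    rw [Nat.card_congr e.toEquiv, nat_card_alternatingGroup, Nat.card_fin,
      show (Nat.factorial 7) / 2 = 2 ^ 3 * 315 by decide] at h
    have := two_part (by decide : Odd 315) hoddq h
    subst this
    norm_num at h
  · exfalso
    have h := hcard
    rw [Nat.card_congr e.toEquiv, EPPO.card_pslThree_four hF, show (20160 : ℕ) = 2 ^ 6 * 315 by norm_num] at h
    have := two_part (by decide : Odd 315) hoddq h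
    subst this
    exact absurd hodd (by decide)

end Affine

end Cfsg.Agent.TwoTimesPSL
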