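import Cfsg.Agent.EqLemmas

/-!
# Two-groups of automorphisms of an elementary group of order eight

`eight_squares`: two elements of a 2-group of automorphisms whose squares are non-trivial are equal or
inverse.
-/

set_option autoImplicit false
set_option linter.style.haveILetI false

open Subgroup

namespace Cfsg.Agent.TwoTimesPSL

theorem eight_squares {V : Type*} [CommGroup V] [Finite V] (hcard : Nat.card V = 8)
    (hsq : ∀ v : V, v * v = 1) {S : Subgroup (MulAut V)} (hS : IsPGroup 2 S)
    {x y : MulAut V} (hx : x ∈ S) (hy : y ∈ S) (hx2 : x * x ≠ 1) (hy2 : y * y ≠ 1) :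
    y = x ∨ y = x⁻¹ := by
  classical
  haveI : Fact (Nat.Prime 2) := ⟨Nat.prime_two⟩
  letI : MulAction S V :=
    { smul := fun s v => (s : MulAut V) v
      one_smul := fun _ => rfl
      mul_smul := fun _ _ _ => rfl }
  obtain ⟨v1, hv1, hv11⟩ := hS.exists_fixed_point_of_prime_dvd_card_of_fixed_point V
    (by rw [hcard]; norm_num) (show (1 : V) ∈ MulAction.fixedPoints S V from fun s => map_one (s : MulAut V))
  have hf1 : ∀ s ∈ S, s v1 = v1 := fun s hs => hv1 ⟨s, hs⟩
  let Z := zpowers v1
  have hZ : ∀ {v}, v ∈ Z ↔ v = 1 ∨ v = v1 := by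
    intro v
    constructor
    · rintro ⟨k, rfl⟩
      rcases Int.even_or_odd k with ⟨m, rfl⟩ | ⟨m, rfl⟩
      · left; show v1 ^ (m + m) = 1; rw [zpow_add, hsq]
      · right; show v1 ^ (2 * m + 1) = v1
        rw [zpow_add, zpow_one, two_mul, zpow_add, hsq, one_mul]
    · rintro (h | h)
      · rw [h]; exact Z.one_mem
      · rw [h]; exact mem_zpowers v1
  have hord1 : orderOf v1 = 2 := orderOf_eq_prime (by rw [pow_two]; exact hsq v1) (Ne.symm hv11)
  have hW : Nat.card (V ⧸ Z) = 4 := by
    have h := Z.card_eq_card_quotient_mul_card_subgroup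
    rw [hcard, Nat.card_zpowers, hord1] at h
    omega
  have hle : ∀ s : S, Z ≤ Z.comap (s : MulAut V).toMonoidHom := fun s v hv => by
    rcases hZ.1 hv with h | h <;> rw [h]
    · exact Subgroup.one_mem _
    · show (s : MulAut V) v1 ∈ Z
      rw [hf1 s s.2]
      exact mem_zpowers v1
  letI : MulAction S (V ⧸ Z) :=
    { smul := fun s w => QuotientGroup.map Z Z (s : MulAut V).toMonoidHom (hle s) w
      one_smul := fun w => QuotientGroup.induction_on w fun _ => rfl
      mul_smul := fun _ _ w => QuotientGroup.induction_on w fun _ => rfl }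
  obtain ⟨w2, hw2, hw21⟩ := hS.exists_fixed_point_of_prime_dvd_card_of_fixed_point (V ⧸ Z)
    (by rw [hW]; norm_num)
    (show (1 : V ⧸ Z) ∈ MulAction.fixedPoints S (V ⧸ Z) from fun s =>
      map_one (QuotientGroup.map Z Z (s : MulAut V).toMonoidHom (hle s)))
  obtain ⟨v2, rfl⟩ := QuotientGroup.mk_surjective w2
  have hv2Z : v2 ∉ Z := fun h => hw21 ((QuotientGroup.eq_one_iff v2).2 h).symm
  have hf2 : ∀ s ∈ S, s v2 = v2 ∨ s v2 = v2 * v1 := by
    intro s hs
    have h : ((s v2 : V) : V ⧸ Z) = (v2 : V ⧸ Z) := hw2 ⟨s, hs⟩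
    rcases hZ.1 (QuotientGroup.eq.1 h.symm) with h' | h'
    · exact Or.inl (inv_mul_eq_one.1 h').symm
    · exact Or.inr (eq_mul_of_inv_mul_eq h')
  let K := Z ⊔ zpowers v2
  have hK : ∀ {v}, v ∈ K ↔ v = 1 ∨ v = v1 ∨ v = v2 ∨ v = v2 * v1 := by
    intro v
    constructor
    · intro hv
      obtain ⟨z, hz, u, ⟨k, rfl⟩, rfl⟩ := Subgroup.mem_sup.1 hv
      have hu : v2 ^ k = 1 ∨ v2 ^ k = v2 := by
        rcases Int.even_or_odd k with ⟨m, rfl⟩ | ⟨m, rfl⟩
        · left; rw [zpow_add, hsq]
        · right; rw [zpow_add, zpow_one, two_mul, zpow_add, hsq, one_mul]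
      show z * v2 ^ k = 1 ∨ z * v2 ^ k = v1 ∨ z * v2 ^ k = v2 ∨ z * v2 ^ k = v2 * v1
      rcases hZ.1 hz with hz' | hz' <;> rcases hu with h | h <;> rw [h, hz'] <;> simp [mul_comm v1 v2]
    · rintro (h | h | h | h) <;> rw [h]
      · exact K.one_mem
      · exact mem_sup_left (mem_zpowers v1)
      · exact mem_sup_right (mem_zpowers v2)
      · exact K.mul_mem (mem_sup_right (mem_zpowers v2)) (mem_sup_left (mem_zpowers v1))
  have hKne : K ≠ ⊤ := by
    intro h
    haveI := Fintype.ofFinite V
    have hsub : (Finset.univ : Finset V) ⊆ {1, v1, v2, v2 * v1} := fun v _ => by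
      simpa using hK.1 (h ▸ mem_top v)
    have h2 := (Finset.card_le_card hsub).trans Finset.card_le_four
    rw [Finset.card_univ, ← Nat.card_eq_fintype_card, hcard] at h2
    omega
  obtain ⟨v3, hv3⟩ : ∃ v, v ∉ K := by
    by_contra h
    push Not at h
    exact hKne (eq_top_iff.2 fun v _ => h v)
  have hKidx : K.index = 2 := by
    haveI := Fintype.ofFinite V
    have hv1' : v1 ≠ 1 := Ne.symm hv11
    have hv2' : v2 ≠ 1 := fun h => hv2Z (h ▸ Z.one_mem)
    have hv21 : v2 ≠ v1 := fun h => hv2Z (h ▸ mem_zpowers v1)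
    have h4 : 4 ≤ Nat.card K := by
      have hsub : ({1, v1, v2, v2 * v1} : Finset V) ⊆ Finset.univ.filter fun v => v ∈ K := fun v hv => by
        simp only [Finset.mem_filter, Finset.mem_univ, true_and]
        exact hK.2 (by simpa using hv)
      have hc : ({1, v1, v2, v2 * v1} : Finset V).card = 4 := by
        rw [Finset.card_insert_of_notMem, Finset.card_insert_of_notMem, Finset.card_insert_of_notMem,
          Finset.card_singleton]
        · simp [Ne.symm, hv1']
        · simp only [Finset.mem_insert, Finset.mem_singleton, not_or]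
          exact ⟨Ne.symm hv21, fun h => hv2' (mul_eq_right.1 h.symm)⟩
        · simp only [Finset.mem_insert, Finset.mem_singleton, not_or]
          refine ⟨hv11, Ne.symm hv2', fun h => hv21 ?_⟩
          rw [mul_eq_one_iff_eq_inv.1 h.symm, inv_eq_of_mul_eq_one_right (hsq v1)]
      have := Finset.card_le_card hsub
      rw [hc, ← Fintype.card_subtype, ← Nat.card_eq_fintype_card] at this
      exact this
    have h := K.card_mul_index
    have hne : K.index ≠ 1 := fun e => hKne (Subgroup.index_eq_one.1 e)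
    rw [hcard] at h
    have hpos : K.index ≠ 0 := Subgroup.index_ne_zero_of_finite
    have hle2 : 4 * K.index ≤ 8 := h ▸ Nat.mul_le_mul_right _ h4
    omega
  have hsplit : ∀ v, v ∈ K ∨ v3 * v ∈ K := fun v => by
    by_cases hv : v ∈ K
    · exact Or.inl hv
    · exact Or.inr ((Subgroup.mul_mem_iff_of_index_two hKidx).2 (iff_of_false hv3 hv))
  have hext : ∀ s s' : MulAut V, s v1 = s' v1 → s v2 = s' v2 → s v3 = s' v3 → s = s' := by
    intro s s' h1 h2 h3
    have hk : ∀ k ∈ K, s k = s' k := fun k hk => by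
      rcases hK.1 hk with h | h | h | h <;> rw [h]
      · rw [map_one, map_one]
      · exact h1
      · exact h2
      · rw [map_mul, map_mul, h1, h2]
    refine MulEquiv.ext fun v => ?_
    rcases hsplit v with hv | hv
    · exact hk v hv
    · have := hk _ hv
      rw [map_mul, map_mul, h3] at this
      exact mul_left_cancel this
  have hSK : ∀ s ∈ S, ∀ k ∈ K, s k ∈ K := fun s hs k hk => by
    rcases hK.1 hk with e | e | e | e <;> rw [e]
    · rw [map_one]; exact K.one_mem
    · rw [hf1 s hs]; exact hK.2 (Or.inr (Or.inl rfl))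
    · rcases hf2 s hs with h | h <;> rw [h]
      · exact hK.2 (Or.inr (Or.inr (Or.inl rfl)))
      · exact hK.2 (Or.inr (Or.inr (Or.inr rfl)))
    · rw [map_mul, hf1 s hs]
      rcases hf2 s hs with h | h <;> rw [h]
      · exact hK.2 (Or.inr (Or.inr (Or.inr rfl)))
      · rw [mul_assoc, hsq, mul_one]; exact hK.2 (Or.inr (Or.inr (Or.inl rfl)))
  -- the shape of an element with non-trivial square
  have hshape : ∀ s ∈ S, s * s ≠ 1 →
      s v2 = v2 * v1 ∧ ∃ k, (k = v2 ∨ k = v2 * v1) ∧ s v3 = v3 * k := by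
    intro s hs hs2
    have hk : v3 * s v3 ∈ K := by
      refine (Subgroup.mul_mem_iff_of_index_two hKidx).2 (iff_of_false hv3 fun h => hv3 ?_)
      have := hSK _ (S.inv_mem hs) _ h
      rwa [MulAut.inv_apply_self] at this
    have e3 : s v3 = v3 * (v3 * s v3) := by rw [← mul_assoc, hsq, one_mul]
    generalize hk' : v3 * s v3 = k at hk e3
    clear hk'
    have hfix : s k = k → False := fun hfix => by
      refine hs2 (hext _ _ ?_ ?_ ?_)
      · rw [MulAut.mul_apply, hf1 s hs, hf1 s hs]; rfl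
      · rw [MulAut.mul_apply]
        rcases hf2 s hs with h | h <;> rw [h]
        · exact h
        · rw [map_mul, h, hf1 s hs, mul_assoc, hsq, mul_one]; rfl
      · rw [MulAut.mul_apply, e3, map_mul, e3, hfix, mul_assoc, hsq, mul_one]; rfl
    have h2 : s v2 = v2 * v1 := (hf2 s hs).resolve_left fun h => hfix (by
      rcases hK.1 hk with e | e | e | e <;> rw [e]
      · exact map_one s
      · exact hf1 s hs
      · exact h
      · rw [map_mul, h, hf1 s hs])
    refine ⟨h2, k, ?_, e3⟩
    rcases hK.1 hk with h | h | h | h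
    · exact absurd (by rw [h]; exact map_one s) hfix
    · exact absurd (by rw [h]; exact hf1 s hs) hfix
    · exact Or.inl h
    · exact Or.inr h
  obtain ⟨hx2', k, hk, hx3⟩ := hshape x hx hx2
  obtain ⟨hy2', k', hk', hy3⟩ := hshape y hy hy2
  have hsame : k = k' → y = x := fun h => hext _ _ (by rw [hf1 x hx, hf1 y hy]) (by rw [hx2', hy2'])
    (by rw [hx3, hy3, h])
  have hdiff : k * x k' = 1 → y = x⁻¹ := fun h => by
    refine eq_inv_of_mul_eq_one_right (hext _ _ ?_ ?_ ?_)
    · rw [MulAut.mul_apply, hf1 y hy, hf1 x hx]; rfl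
    · rw [MulAut.mul_apply, hy2', map_mul, hx2', hf1 x hx, mul_assoc, hsq, mul_one]; rfl
    · rw [MulAut.mul_apply, hy3, map_mul, hx3, mul_assoc, h, mul_one]; rfl
  rcases hk with h | h <;> rcases hk' with h' | h'
  · exact Or.inl (hsame (h.trans h'.symm))
  · refine Or.inr (hdiff ?_)
    rw [h, h', map_mul, hx2', hf1 x hx, mul_assoc v2 v1 v1, hsq, mul_one, hsq]
  · refine Or.inr (hdiff ?_)
    rw [h, h', hx2', hsq]
  · exact Or.inl (hsame (h.trans h'.symm))

end Cfsg.Agent.TwoTimesPSL
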