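import Cfsg.Agent.Lib.TwoTimesPSL.ChainLayer
import Cfsg.Agent.Lib.TwoTimesPSL.AffineMain
import Cfsg.Agent.Lib.TwoTimesPSL.Eight

/-!
# The elementary situation is impossible

* `Elem.Layer.grow` : a translation inside the kernel of the action gives a larger stage
* `Elem.Layer.dead_end` : without translations there is a contradiction
* `Elem.absurd`
-/

set_option autoImplicit false
set_option linter.unusedSectionVars false
set_option linter.style.haveILetI false

open Subgroup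

namespace Cfsg.Agent.TwoTimesPSL

theorem exists_index_two {Q : Type*} [Group Q] [Finite Q] (K : Subgroup Q) (hsq : ∀ x : Q, x * x ∈ K)
    {t : Q} (ht : t ∉ K) : ∃ M : Subgroup Q, M.index = 2 ∧ K ≤ M ∧ t ∉ M := by
  classical
  obtain ⟨M, ⟨hKM, htM⟩, hmax⟩ :=
    (Set.toFinite {M : Subgroup Q | K ≤ M ∧ t ∉ M}).exists_maximal ⟨K, le_rfl, ht⟩
  have hsqM : ∀ x : Q, x * x ∈ M := fun x => hKM (hsq x)
  have hcomm : ∀ x y : Q, x * y * x⁻¹ * y⁻¹ ∈ M := fun x y => by
    have e : x * y * x⁻¹ * y⁻¹ = (x * x) * ((x⁻¹ * y) * (x⁻¹ * y)) * (y⁻¹ * y⁻¹) := by group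
    rw [e]
    exact mul_mem (mul_mem (hsqM _) (hsqM _)) (hsqM _)
  have hconj : ∀ x : Q, ∀ m ∈ M, x * m * x⁻¹ ∈ M := fun x m hm => by
    have := M.mul_mem (hcomm x m) hm
    rwa [inv_mul_cancel_right] at this
  refine ⟨M, Subgroup.index_eq_two_iff.2 ⟨t, fun b => ?_⟩, hKM, htM⟩
  by_cases hb : b ∈ M
  · exact Or.inr ⟨hb, fun h => htM ((M.mul_mem_cancel_left hb).1 h)⟩
  refine Or.inl ⟨?_, hb⟩
  let M' : Subgroup Q :=
    { carrier := {z | z ∈ M ∨ b⁻¹ * z ∈ M}
      one_mem' := Or.inl M.one_mem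
      mul_mem' := by
        rintro x y (hx | hx) (hy | hy)
        · exact Or.inl (M.mul_mem hx hy)
        · refine Or.inr ?_
          rw [show b⁻¹ * (x * y) = (b⁻¹ * x * b⁻¹⁻¹) * (b⁻¹ * y) by group]
          exact M.mul_mem (hconj _ _ hx) hy
        · refine Or.inr ?_
          rw [← mul_assoc]
          exact M.mul_mem hx hy
        · refine Or.inl ?_
          rw [show x * y = (b * b) * (b⁻¹ * (b⁻¹ * x) * b⁻¹⁻¹) * (b⁻¹ * y) by group]
          exact M.mul_mem (M.mul_mem (hsqM b) (hconj _ _ hx)) hy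
      inv_mem' := by
        rintro x (hx | hx)
        · exact Or.inl (M.inv_mem hx)
        · refine Or.inr ?_
          rw [show b⁻¹ * x⁻¹ = (b⁻¹ * (b⁻¹ * x)⁻¹ * b⁻¹⁻¹) * (b⁻¹ * b⁻¹) by group]
          exact M.mul_mem (hconj _ _ (M.inv_mem hx)) (hsqM b⁻¹) }
  have hle : M ≤ M' := fun z hz => Or.inl hz
  have hbM' : b ∈ M' := Or.inr (by rw [inv_mul_cancel]; exact M.one_mem)
  have ht' : t ∈ M' := by
    by_contra h
    exact hb (hmax (show K ≤ M' ∧ t ∉ M' from ⟨hKM.trans hle, h⟩) hle hbM')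
  rcases ht' with h | h
  · exact absurd h htM
  · rw [show b * t = (b * b) * (b⁻¹ * t) by group]
    exact M.mul_mem (hsqM b) h

variable {G : Type*} [Group G] [Finite G] {n : ℕ} {t k : G} {E : Subgroup G} {A : Elem n t k E}
  {P : Subgroup G} {k' : G}

namespace Elem

theorem cent_le (A : Elem n t k E) {g : G} {X : Subgroup G} (hX : IsPGroup 2 X)
    (hcom : ∀ x ∈ X, x * (g * t * g⁻¹) = g * t * g⁻¹ * x) : Nat.card X ≤ 2 ^ (n + 1) := by
  let f : G →* G := (MulAut.conj g⁻¹).toMonoidHom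
  rw [show Nat.card X = Nat.card (X.map f) from
    Nat.card_congr (X.equivMapOfInjective f (MulAut.conj g⁻¹).injective).toEquiv]
  refine A.maxT _ (hX.map f) ?_
  rintro _ ⟨x, hx, rfl⟩
  show g⁻¹ * x * g⁻¹⁻¹ * t = t * (g⁻¹ * x * g⁻¹⁻¹)
  calc g⁻¹ * x * g⁻¹⁻¹ * t = g⁻¹ * (x * (g * t * g⁻¹)) * g := by group
    _ = g⁻¹ * ((g * t * g⁻¹) * x) * g := by rw [hcom x hx]
    _ = t * (g⁻¹ * x * g⁻¹⁻¹) := by group

namespace Layer

variable {S : Stage A P k'} {R : Subgroup P} (L : Layer S R)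
include L

/-- A translation in the kernel gives a larger stage. -/
theorem grow (hd : ∃ d, L.act d = 1 ∧ L.cV d ≠ 1) :
    ∃ (P1 : Subgroup G) (k1 : G), Stage A P1 k1 ∧ P < P1 := by
  classical
  haveI : Fact (Nat.Prime 2) := ⟨Nat.prime_two⟩
  obtain ⟨d0, hd0, hd0c⟩ := hd
  let N : Subgroup G := normalizer (P : Set G)
  let D : Subgroup N := L.act.ker
  haveI : D.Normal := MonoidHom.normal_ker _
  let κ : N := ⟨k', S.k'_mem⟩
  have hκt : ∀ i : ℕ, L.cV (κ ^ i) = 1 := fun i => L.cV_fix (by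
    rw [SubmonoidClass.coe_pow]; exact Commute.pow_left S.k'_t i)
  have hκt' : ∀ i : ℕ, L.cV (κ ^ i)⁻¹ = 1 := fun i => L.cV_fix (by
    rw [Subgroup.coe_inv, SubmonoidClass.coe_pow]; exact (Commute.pow_left S.k'_t i).inv_left)
  have hactD : ∀ d : D, L.act (d : N) = 1 := fun d => d.2
  let cD : D →* vec R := MonoidHom.mk' (fun d => L.cV (d : N)) fun d e => by
    show L.cV ((d : N) * (e : N)) = _
    rw [L.cV_mul, hactD, MulAut.one_apply]
  have hsurj : Function.Surjective cD := by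
    intro v
    by_cases hv : v = 1
    · exact ⟨1, by rw [map_one, hv]⟩
    · obtain ⟨i, hi⟩ := L.trans_vec _ v hd0c hv
      refine ⟨⟨κ ^ i * d0 * (κ ^ i)⁻¹,
        (inferInstance : D.Normal).conj_mem d0 (MonoidHom.mem_ker.2 hd0) (κ ^ i)⟩, ?_⟩
      show L.cV (κ ^ i * d0 * (κ ^ i)⁻¹) = v
      rw [L.cV_mul, L.cV_mul, hκt', hκt, map_one, mul_one, one_mul, hi]
  let Pn : Subgroup N := P.subgroupOf N
  have hPn : Pn ≤ D := fun g hg => MonoidHom.mem_ker.2 (L.act_P hg)
  have hPd : IsPGroup 2 (Pn.subgroupOf D) :=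
    (S.pgroup.comap_subtype (K := N)).comap_subtype (K := D)
  obtain ⟨Q, hQ⟩ := hPd.exists_le_sylow
  have htop : ((Q.mapSurjective hsurj : Sylow 2 (vec R)) : Subgroup (vec R)) = ⊤ :=
    ((Q.mapSurjective hsurj).3
      (IsPGroup.to_subgroup (fun v => ⟨1, by rw [pow_one, pow_two]; exact L.sq_vec v⟩) ⊤) le_top).symm
  rw [Sylow.coe_mapSurjective] at htop
  have hQsurj : ∀ v, ∃ q : D, q ∈ (Q : Subgroup D) ∧ L.cV (q : N) = v := fun v => by
    obtain ⟨q, hq, e⟩ : v ∈ (Q : Subgroup D).map cD := htop ▸ mem_top v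
    exact ⟨q, hq, e⟩
  let QN : Subgroup N := (Q : Subgroup D).map D.subtype
  have hPQ : ∀ g : N, (g : G) ∈ P → g ∈ QN := fun g hg => ⟨⟨g, hPn hg⟩, hQ hg, rfl⟩
  -- the Frattini argument
  have hsup := Sylow.normalizer_sup_eq_top Q
  obtain ⟨a, ha, d, hd, had⟩ : ∃ a ∈ normalizer (QN : Set N), ∃ d ∈ D, a * d = κ := by
    have h : κ ∈ (normalizer (QN : Set N) ⊔ D : Subgroup N) := by
      rw [show (normalizer (QN : Set N) ⊔ D : Subgroup N) = ⊤ from hsup]; exact mem_top _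
    rw [← SetLike.mem_coe, Subgroup.mul_normal, Set.mem_mul] at h
    exact h
  obtain ⟨q, hq, hqc⟩ := hQsurj (L.cV a)
  have hqa : L.cV ((q : N) * a) = 1 := by
    rw [L.cV_mul, hqc, hactD, MulAut.one_apply, L.sq_vec]
  obtain ⟨p, hp⟩ := L.stab hqa
  let pN : N := ⟨(p : G), P.le_normalizer p.2⟩
  let m : N := pN⁻¹ * ((q : N) * a)
  have hmt : (m : G) * t = t * (m : G) := hp
  have hactm : L.act m = L.act κ := by
    rw [← had, map_mul, map_mul, map_mul, map_inv, L.act_P (g := pN) p.2, hactD,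
      MonoidHom.mem_ker.1 hd]
    simp
  have hsame : ∀ x ∈ E ⊔ zpowers t, (m : G) * x * (m : G)⁻¹ = k * x * k⁻¹ := by
    intro x hx
    have hδt : ((m * κ⁻¹ : N) : G) * t = t * ((m * κ⁻¹ : N) : G) := by
      rw [Subgroup.coe_mul, Subgroup.coe_inv]
      exact (Commute.mul_left hmt (Commute.inv_left S.k'_t) : Commute ((m : G) * k'⁻¹) t)
    have h := L.ker_centralises hδt (by rw [map_mul, map_inv, hactm, mul_inv_cancel]) (A.k_T_norm hx)
    rw [← S.same x hx, Subgroup.coe_mul, Subgroup.coe_inv] at h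
    rw [← S.same x hx]
    conv_rhs => rw [← h]
    show (m : G) * x * (m : G)⁻¹ = (m : G) * k'⁻¹ * (k' * x * k'⁻¹) * ((m : G) * k'⁻¹)⁻¹
    group
  have hmQ : m ∈ normalizer (QN : Set N) :=
    mul_mem (inv_mem (QN.le_normalizer (hPQ pN p.2))) (mul_mem (QN.le_normalizer ⟨q, hq, rfl⟩) ha)
  obtain ⟨j, hodd, -⟩ := S.split m.2 hmt
  have hpowm : ∀ (i : ℕ) (x : G), x ∈ E ⊔ zpowers t →
      (m : G) ^ i * x * ((m : G) ^ i)⁻¹ = k ^ i * x * (k ^ i)⁻¹ := by
    intro i
    induction i with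
    | zero => intro x _; simp
    | succ i ih =>
      intro x hx
      calc (m : G) ^ (i + 1) * x * ((m : G) ^ (i + 1))⁻¹
          = (m : G) ^ i * ((m : G) * x * (m : G)⁻¹) * ((m : G) ^ i)⁻¹ := by rw [pow_succ]; group
        _ = k ^ i * (k * x * k⁻¹) * (k ^ i)⁻¹ := by rw [hsame x hx, ih _ (A.k_T_norm hx)]
        _ = _ := by rw [pow_succ]; group
  let P1 : Subgroup G := QN.map N.subtype
  refine ⟨P1, ((m ^ 2 ^ (n * j) : N) : G), ?_, ?_⟩
  · refine ⟨((Q.2.map D.subtype).map N.subtype),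
      fun x hx => ⟨⟨x, P.le_normalizer (S.le hx)⟩, hPQ _ (S.le hx), rfl⟩, ?_, ?_, ?_, ?_⟩
    · rintro _ ⟨x, hx, rfl⟩
      refine ⟨m ^ 2 ^ (n * j) * x * (m ^ 2 ^ (n * j))⁻¹,
        (Subgroup.mem_normalizer_iff.1 ((normalizer (QN : Set N)).pow_mem hmQ _) x).1 hx, ?_⟩
      simp
    · rw [SubmonoidClass.coe_pow]; exact Commute.pow_left hmt _
    · have hle : j ≤ n * j := Nat.le_mul_of_pos_left j (by have := A.two_le; omega)
      have e : 2 ^ (n * j) = 2 ^ j * 2 ^ (n * j - j) := by rw [← pow_add, Nat.add_sub_cancel' hle]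
      rw [SubmonoidClass.coe_pow, e, pow_mul]
      exact hodd.of_dvd_nat (orderOf_pow_dvd _)
    · intro x hx
      rw [SubmonoidClass.coe_pow, hpowm _ x hx]
      obtain ⟨s, hs⟩ : (2 ^ n - 1) ∣ 2 ^ (n * j) - 1 := by
        have := Nat.sub_dvd_pow_sub_pow (2 ^ n) 1 j
        rwa [one_pow, ← pow_mul] at this
      have e : 2 ^ (n * j) = 1 + (2 ^ n - 1) * s := by
        rw [← hs, Nat.add_sub_cancel' Nat.one_le_two_pow]
      have hc : Commute (k ^ (2 ^ n - 1)) x := mul_inv_eq_iff_eq_mul.1 (A.T_order hx)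
      rw [e, pow_add, pow_one, pow_mul]
      calc k * (k ^ (2 ^ n - 1)) ^ s * x * (k * (k ^ (2 ^ n - 1)) ^ s)⁻¹
          = k * ((k ^ (2 ^ n - 1)) ^ s * x * ((k ^ (2 ^ n - 1)) ^ s)⁻¹) * k⁻¹ := by group
        _ = k * x * k⁻¹ := by rw [(hc.pow_left s).eq, mul_inv_cancel_right]
  · refine lt_of_le_of_ne (fun x hx => ⟨⟨x, P.le_normalizer hx⟩, hPQ _ hx, rfl⟩) fun heq => ?_
    obtain ⟨q', hq', hq'c⟩ := hQsurj (L.cV d0)
    refine hd0c ?_
    rw [← hq'c]
    exact L.cV_P (heq.ge ⟨(q' : N), ⟨q', hq', rfl⟩, rfl⟩)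

/-- Without translations in the kernel there is a contradiction. -/
theorem dead_end (hD : ∀ d, L.act d = 1 → L.cV d = 1) : False := by
  classical
  haveI : Fact (Nat.Prime 2) := ⟨Nat.prime_two⟩
  let N : Subgroup G := normalizer (P : Set G)
  let H : Subgroup (MulAut (vec R)) := L.act.range
  let rr : N →* H := L.act.rangeRestrict
  have hrr : Function.Surjective rr := L.act.rangeRestrict_surjective
  have hval : ∀ g : N, ((rr g : H) : MulAut (vec R)) = L.act g := fun _ => rfl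
  let c' : H → vec R := fun h => L.cV (Classical.choose (hrr h))
  have hc' : ∀ g : N, c' (rr g) = L.cV g := by
    intro g
    set g0 := Classical.choose (hrr (rr g)) with hg0
    have e : rr g0 = rr g := Classical.choose_spec (hrr (rr g))
    have e' : L.act g0 = L.act g := congrArg Subtype.val e
    have h1 : L.cV (g0⁻¹ * g) = 1 := hD _ (by rw [map_mul, map_inv, e', inv_mul_cancel])
    show L.cV g0 = L.cV g
    calc L.cV g0 = L.cV g0 * L.act g0 (L.cV (g0⁻¹ * g)) := by rw [h1, map_one, mul_one]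
      _ = L.cV g := by rw [← L.cV_mul, mul_inv_cancel_left]
  let κ : N := ⟨k', S.k'_mem⟩
  haveI : Finite H := Finite.of_surjective rr hrr
  have hfix : ∀ {g : N}, L.cV g = 1 →
      ∃ m : N, (m : G) * t = t * (m : G) ∧ L.act m = L.act g ∧ ∃ p : P, (m : G) = (p : G)⁻¹ * (g : G) := by
    intro g hg
    obtain ⟨p, hp⟩ := L.stab hg
    refine ⟨⟨(p : G), P.le_normalizer p.2⟩⁻¹ * g, hp, ?_, p, rfl⟩
    rw [map_mul, map_inv, L.act_P (g := ⟨(p : G), _⟩) p.2, inv_one, one_mul]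
  have Aff : Affine n H.subtype c' (rr κ) := by
    refine ⟨A.two_le, L.card_vec, L.sq_vec, Subtype.val_injective, ?_, ?_, ?_, ?_, ?_, ?_⟩
    · intro g h
      obtain ⟨g, rfl⟩ := hrr g
      obtain ⟨h, rfl⟩ := hrr h
      rw [← map_mul, hc', hc', hc', L.cV_mul]
      rfl
    · intro v
      obtain ⟨g, hg⟩ := L.cV_surjective v
      exact ⟨rr g, by rw [hc', hg]⟩
    · intro h hh
      obtain ⟨g, rfl⟩ := hrr h
      obtain ⟨m, hmt, hm, -⟩ := hfix ((hc' g).symm.trans hh)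
      rw [← Subgroup.orderOf_coe, hval, ← hm]
      exact L.odd_act hmt
    · rw [hc']; exact L.cV_fix S.k'_t
    · intro a b ha hb
      obtain ⟨i, hi⟩ := L.trans_vec a b ha hb
      refine ⟨i, ?_⟩
      rw [Subgroup.coe_subtype, ← map_pow, hval]
      exact hi
    · intro h hh
      obtain ⟨g, rfl⟩ := hrr h
      obtain ⟨m, hmt, hm, -⟩ := hfix ((hc' g).symm.trans hh)
      obtain ⟨i, hi⟩ := A.k_normal m hmt (fun x hx => S.T_norm m.2 hmt hx)
      let y : N := (κ ^ i)⁻¹ * (m * κ * m⁻¹)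
      have hminv : ((m⁻¹ : N) : G) * t = t * ((m⁻¹ : N) : G) := by
        rw [Subgroup.coe_inv]; exact Commute.inv_left hmt
      have hyt : (y : G) * t = t * (y : G) := by
        have h1 : Commute (((κ ^ i : N) : G)⁻¹) t := by
          rw [SubmonoidClass.coe_pow]; exact (Commute.pow_left S.k'_t i).inv_left
        simp only [y, Subgroup.coe_mul, Subgroup.coe_inv]
        exact h1.mul_left ((Commute.mul_left hmt S.k'_t).mul_left (Commute.inv_left hmt))
      have hy1 : L.act y = 1 := by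
        refine L.act_eq_one_of_centralises hyt fun x hx => ?_
        have hx' : (m : G)⁻¹ * x * (m : G) ∈ E ⊔ zpowers t := by
          have := S.T_norm (m⁻¹).2 hminv hx
          rwa [Subgroup.coe_inv, inv_inv] at this
        have e1 : (m : G) * k' * (m : G)⁻¹ * x * ((m : G) * k' * (m : G)⁻¹)⁻¹ =
            k' ^ i * x * (k' ^ i)⁻¹ := by
          calc (m : G) * k' * (m : G)⁻¹ * x * ((m : G) * k' * (m : G)⁻¹)⁻¹
              = (m : G) * (k' * ((m : G)⁻¹ * x * (m : G)) * k'⁻¹) * (m : G)⁻¹ := by group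
            _ = (m : G) * (k * ((m : G)⁻¹ * x * (m : G)) * k⁻¹) * (m : G)⁻¹ := by rw [S.same _ hx']
            _ = (m : G) * k * (m : G)⁻¹ * x * ((m : G) * k * (m : G)⁻¹)⁻¹ := by group
            _ = _ := by rw [hi x hx, S.same_pow i hx]
        simp only [y, Subgroup.coe_mul, Subgroup.coe_inv, SubmonoidClass.coe_pow]
        calc (k' ^ i)⁻¹ * ((m : G) * k' * (m : G)⁻¹) * x * ((k' ^ i)⁻¹ * ((m : G) * k' * (m : G)⁻¹))⁻¹
            = (k' ^ i)⁻¹ * ((m : G) * k' * (m : G)⁻¹ * x * ((m : G) * k' * (m : G)⁻¹)⁻¹) * k' ^ i := by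
              group
          _ = x := by rw [e1]; group
      refine ⟨(i : ℤ), Subtype.ext ?_⟩
      show (((rr κ) ^ (i : ℤ) : H) : MulAut (vec R)) = _
      rw [zpow_natCast, ← map_pow, hval, Subgroup.coe_mul, Subgroup.coe_mul, Subgroup.coe_inv, hval, hval,
        ← hm, ← map_inv, ← map_mul, ← map_mul]
      rw [map_mul, map_inv, inv_mul_eq_one] at hy1
      exact hy1
  obtain ⟨hn, -⟩ := Aff.main
  have hV : Nat.card (vec R) = 8 := by rw [L.card_vec, hn]; norm_num
  -- a Sylow subgroup of the normaliser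
  let Pn : Subgroup N := P.subgroupOf N
  obtain ⟨Q, hQ⟩ := IsPGroup.exists_le_sylow (S.pgroup.comap_subtype (K := N))
  let X : Subgroup G := (Q : Subgroup N).map N.subtype
  have hX : IsPGroup 2 X := Q.2.map _
  have hPX : P ≤ X := fun x hx => ⟨⟨x, P.le_normalizer hx⟩, hQ hx, rfl⟩
  have hYp : IsPGroup 2 ((Q : Subgroup N).map L.act) := Q.2.map _
  have hker : ∀ g ∈ (Q : Subgroup N), L.act g = 1 → (g : G) ∈ P := by
    intro g hg hg1
    obtain ⟨m, hmt, -, p, hmp⟩ := hfix (hD g hg1)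
    have hmX : (m : G) ∈ X := by
      rw [hmp]; exact X.mul_mem (X.inv_mem (hPX p.2)) ⟨g, hg, rfl⟩
    have h := P.mul_mem p.2 (S.le (A.inter hX (S.le.trans hPX) hmX hmt))
    rwa [hmp, mul_inv_cancel_left] at h
  let Rn : Subgroup N := (R.map P.subtype).subgroupOf N
  have hRn : ∀ {g : N}, g ∈ Rn ↔ ∃ h : (g : G) ∈ P, (⟨(g : G), h⟩ : P) ∈ R := by
    intro g
    refine ⟨fun ⟨r, hr, e⟩ => ⟨(show (r : G) = (g : G) from e) ▸ r.2, ?_⟩, fun ⟨h, hr⟩ => ⟨_, hr, rfl⟩⟩
    have e' : (⟨(g : G), (show (r : G) = (g : G) from e) ▸ r.2⟩ : P) = r := Subtype.ext e.symm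
    rwa [e']
  haveI hRnorm : Rn.Normal := ⟨fun r hr g => by
    obtain ⟨h, hrR⟩ := hRn.1 hr
    exact ⟨cj g ⟨(r : G), h⟩, L.cj_R g hrR, rfl⟩⟩
  let tn : N := ⟨t, P.le_normalizer S.t_mem⟩
  have htn : tn ∉ Rn := fun h => by
    obtain ⟨h1, h2⟩ := hRn.1 h
    exact L.t_not h2
  have hprod : ∀ {a b : N}, (a : G) ∈ P → (b : G) ∈ P → (a ∈ Rn ↔ b ∈ Rn) → a * b ∈ Rn := by
    intro a b ha hb hab
    have e1 : a ∈ Rn ↔ (⟨_, ha⟩ : P) ∈ R :=
      ⟨fun h => (hRn.1 h).2, fun h => hRn.2 ⟨ha, h⟩⟩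
    have e2 : b ∈ Rn ↔ (⟨_, hb⟩ : P) ∈ R :=
      ⟨fun h => (hRn.1 h).2, fun h => hRn.2 ⟨hb, h⟩⟩
    exact hRn.2 ⟨P.mul_mem ha hb,
      (Subgroup.mul_mem_iff_of_index_two L.index).2 (e1.symm.trans (hab.trans e2))⟩
  have hPsplit : ∀ {a : N}, (a : G) ∈ P → a ∈ Rn ∨ tn⁻¹ * a ∈ Rn := by
    intro a ha
    by_cases h : a ∈ Rn
    · exact Or.inl h
    · refine Or.inr (hprod (P.inv_mem S.t_mem) ha (iff_of_false (fun h' => htn (inv_mem_iff.1 h')) h))
  have hnosq : ∀ x ∈ (Q : Subgroup N), tn⁻¹ * (x * x) ∉ Rn := by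
    intro x hx h
    obtain ⟨h1, h2⟩ := hRn.1 h
    obtain ⟨g, hg⟩ := isConj_iff.1 (L.conj_tR h2)
    have hg' : g * t * g⁻¹ = (x : G) * (x : G) := by
      rw [hg, Subgroup.coe_mul]
      show t * (t⁻¹ * ((x : G) * (x : G))) = _
      rw [mul_inv_cancel_left]
    let y : G := g⁻¹ * (x : G) * g
    have hy : y * y = t := by
      show g⁻¹ * (x : G) * g * (g⁻¹ * (x : G) * g) = t
      calc g⁻¹ * (x : G) * g * (g⁻¹ * (x : G) * g) = g⁻¹ * ((x : G) * (x : G)) * g := by group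
        _ = t := by rw [← hg']; group
    have hyp : IsPGroup 2 (zpowers y) := by
      have hx' : IsPGroup 2 (zpowers (x : G)) := hX.to_le (zpowers_le.2 ⟨x, hx, rfl⟩)
      rw [show zpowers y = (zpowers (x : G)).map (MulAut.conj g⁻¹).toMonoidHom by
        rw [MonoidHom.map_zpowers]; simp [y]]
      exact hx'.map _
    have hyc : Commute y t := by
      have hc : Commute y (y * y) := (Commute.refl y).mul_right (Commute.refl y)
      rwa [hy] at hc
    have h3 := A.two_elem_sq hyp hyc.eq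
    exact A.t_ne (hy.symm.trans h3)
  have hPsq : ∀ x ∈ (Q : Subgroup N), ((x * x : N) : G) ∈ P → x * x ∈ Rn := fun x hx h =>
    (hPsplit h).resolve_right (hnosq x hx)
  have hconjP : ∀ (a d : N), (d : G) ∈ P → ((a⁻¹ * d * a : N) : G) ∈ P := fun a d hd => by
    have := (Subgroup.mem_normalizer_iff.1 (a⁻¹).2 (d : G)).1 hd
    simpa using this
  -- the square class
  obtain ⟨w, hwQ, hww, hwt, hwsq⟩ : ∃ w : N, w ∈ (Q : Subgroup N) ∧ w * w ∈ Rn ∧ w⁻¹ * tn ∉ Rn ∧
      ∀ x ∈ (Q : Subgroup N), x * x ∈ Rn ∨ w⁻¹ * (x * x) ∈ Rn := by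
    by_cases hall : ∀ x ∈ (Q : Subgroup N), x * x ∈ Rn
    · exact ⟨1, one_mem _, by simp, by simpa using htn, fun x hx => Or.inl (hall x hx)⟩
    push Not at hall
    obtain ⟨x0, hx0, hx0n⟩ := hall
    have hne : L.act x0 * L.act x0 ≠ 1 := fun h =>
      hx0n (hPsq x0 hx0 (hker _ (mul_mem hx0 hx0) (by rw [map_mul, h])))
    have hfour : L.act (x0 * x0 * (x0 * x0)) = 1 := by
      rw [map_mul, map_mul]
      by_contra h4
      have hxY : L.act x0 ∈ (Q : Subgroup N).map L.act := ⟨x0, hx0, rfl⟩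
      obtain ⟨b, hb⟩ := IsPGroup.iff_orderOf.1 hYp ⟨_, hxY⟩
      rw [← Subgroup.orderOf_coe] at hb
      apply hne
      rcases eight_squares hV L.sq_vec hYp hxY (mul_mem hxY hxY) hne h4 with h | h
      · rw [mul_eq_left] at h
        rw [h, one_mul]
      · have h3 : (L.act x0) ^ 3 = 1 := by
          rw [pow_succ, pow_two, h, inv_mul_cancel]
        have h1 : L.act x0 = 1 := orderOf_eq_one_iff.1 (Nat.eq_one_of_dvd_coprimes
          (Nat.Coprime.pow_left b (by norm_num : Nat.Coprime 2 3))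
          (show orderOf (L.act x0) ∣ 2 ^ b from hb.dvd) (orderOf_dvd_of_pow_eq_one h3))
        rw [h1, one_mul]
    refine ⟨x0 * x0, mul_mem hx0 hx0,
      hPsq _ (mul_mem hx0 hx0) (hker _ (mul_mem (mul_mem hx0 hx0) (mul_mem hx0 hx0)) hfour), ?_, ?_⟩
    · intro h
      refine hnosq x0 hx0 ?_
      have := Rn.inv_mem h
      rwa [mul_inv_rev, inv_inv] at this
    · intro x hx
      by_cases hxx : L.act x * L.act x = 1
      · exact Or.inl (hPsq x hx (hker _ (mul_mem hx hx) (by rw [map_mul, hxx])))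
      · have hw4 : x0 * x0 * (x0 * x0) ∈ Rn :=
          hPsq _ (mul_mem hx0 hx0) (hker _ (mul_mem (mul_mem hx0 hx0) (mul_mem hx0 hx0)) hfour)
        have key : ∀ a ∈ (Q : Subgroup N), L.act a = L.act x → ∃ e ∈ Rn, x * x = a * a * e := by
          intro a ha hax
          have hd : ((a⁻¹ * x : N) : G) ∈ P :=
            hker _ (mul_mem (inv_mem ha) hx) (by rw [map_mul, map_inv, hax, inv_mul_cancel])
          refine ⟨a⁻¹ * (a⁻¹ * x) * a * (a⁻¹ * x), hprod (hconjP a _ hd) hd ?_, by group⟩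
          constructor
          · intro h
            have := hRnorm.conj_mem _ h a
            simpa [mul_assoc] using this
          · intro h
            have := hRnorm.conj_mem _ h a⁻¹
            rwa [inv_inv] at this
        rcases eight_squares hV L.sq_vec hYp ⟨x0, hx0, rfl⟩ ⟨x, hx, rfl⟩ hne hxx with h | h
        · obtain ⟨e, he, hxe⟩ := key x0 hx0 h.symm
          refine Or.inr ?_
          rw [hxe, inv_mul_cancel_left]
          exact he
        · obtain ⟨e, he, hxe⟩ := key x0⁻¹ (inv_mem hx0) (by rw [map_inv, h])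
          refine Or.inr ?_
          rw [hxe, show (x0 * x0)⁻¹ * (x0⁻¹ * x0⁻¹ * e) = (x0 * x0 * (x0 * x0))⁻¹ * e by group]
          exact Rn.mul_mem (Rn.inv_mem hw4) he
  let K : Subgroup (Q : Subgroup N) :=
    { carrier := {z | (z : N) ∈ Rn ∨ w⁻¹ * (z : N) ∈ Rn}
      one_mem' := Or.inl Rn.one_mem
      mul_mem' := by
        rintro x y (hx | hx) (hy | hy)
        · exact Or.inl (Rn.mul_mem hx hy)
        · refine Or.inr ?_
          rw [Subgroup.coe_mul, show w⁻¹ * ((x : N) * (y : N)) = (w⁻¹ * (x : N) * w⁻¹⁻¹) * (w⁻¹ * (y : N)) by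
            group]
          exact Rn.mul_mem (hRnorm.conj_mem _ hx _) hy
        · refine Or.inr ?_
          rw [Subgroup.coe_mul, ← mul_assoc]
          exact Rn.mul_mem hx hy
        · refine Or.inl ?_
          rw [Subgroup.coe_mul, show (x : N) * (y : N) =
            (w * w) * (w⁻¹ * (w⁻¹ * (x : N)) * w⁻¹⁻¹) * (w⁻¹ * (y : N)) by group]
          exact Rn.mul_mem (Rn.mul_mem hww (hRnorm.conj_mem _ hx _)) hy
      inv_mem' := by
        rintro x (hx | hx)
        · exact Or.inl (Rn.inv_mem hx)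
        · refine Or.inr ?_
          rw [Subgroup.coe_inv, show w⁻¹ * (x : N)⁻¹ = (w⁻¹ * (w⁻¹ * (x : N))⁻¹ * w⁻¹⁻¹) * (w * w)⁻¹ by group]
          exact Rn.mul_mem (hRnorm.conj_mem _ (Rn.inv_mem hx) _) (Rn.inv_mem hww) }
  let tQ : (Q : Subgroup N) := ⟨tn, hQ S.t_mem⟩
  obtain ⟨M, hMi, hKM, htM⟩ := exists_index_two K (fun x => hwsq (x : N) x.2) (t := tQ)
    (fun h => h.elim htn hwt)
  have hRM : ∀ x : (Q : Subgroup N), (x : N) ∈ Rn → x ∈ M := fun x hx => hKM (Or.inl hx)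
  have hPM : ∀ x : (Q : Subgroup N), ((x : N) : G) ∈ P → x ∈ M → (x : N) ∈ Rn := by
    intro x hx hxM
    refine (hPsplit hx).resolve_right fun h => htM ?_
    have h1 : tQ⁻¹ * x ∈ M := hRM _ h
    exact inv_mem_iff.1 ((M.mul_mem_cancel_right hxM).1 h1)
  -- all conjugates of `t` in `Q` lie in `P`
  have hfus : ∀ u ∈ (Q : Subgroup N), IsConj t (u : G) → (u : G) ∈ P := by
    intro u hu hcu
    by_contra huP
    obtain ⟨g0, hg0⟩ := isConj_iff.1 hcu
    have hu2 : u * u = 1 := Subtype.ext (by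
      rw [Subgroup.coe_mul, ← hg0]
      calc g0 * t * g0⁻¹ * (g0 * t * g0⁻¹) = g0 * (t * t) * g0⁻¹ := by group
        _ = ((1 : N) : G) := by rw [A.sq_t, mul_one, mul_inv_cancel]; rfl)
    have hu1 : rr u ≠ 1 := fun h => huP (hker u hu (congrArg Subtype.val h))
    have huo : orderOf (rr u) = 2 :=
      orderOf_eq_prime (by rw [pow_two, ← map_mul, hu2, map_one]) hu1
    let Y : Subgroup H := (Q : Subgroup N).map rr
    haveI : Nontrivial Y := ⟨⟨⟨rr u, u, hu, rfl⟩, 1, fun h => hu1 (congrArg Subtype.val h)⟩⟩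
    haveI := (Q.2.map rr : IsPGroup 2 Y).center_nontrivial
    have h2 : 2 ∣ Nat.card (center Y) := by
      obtain ⟨b, hb⟩ := IsPGroup.iff_card.1 ((Q.2.map rr : IsPGroup 2 Y).to_subgroup (center Y))
      rw [hb]
      refine dvd_pow_self 2 fun h => ?_
      rw [h, pow_zero] at hb
      exact absurd hb (Finite.one_lt_card).ne'
    obtain ⟨z0, hz0⟩ := exists_prime_orderOf_dvd_card' 2 h2
    let z : H := ((z0 : Y) : H)
    have hzo : orderOf z = 2 := by
      show orderOf ((z0 : Y) : H) = 2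
      rw [Subgroup.orderOf_coe, Subgroup.orderOf_coe, hz0]
    obtain ⟨h, hh⟩ := isConj_iff.1 (Aff.isConj huo hzo)
    obtain ⟨g, rfl⟩ := hrr h
    let u1 : N := g * u * g⁻¹
    have hu1z : rr u1 = z := by rw [map_mul, map_mul, map_inv]; exact hh
    let C : Subgroup N := (centralizer ({z} : Set H)).comap rr
    have hQC : (Q : Subgroup N) ≤ C := fun q hq => mem_centralizer_singleton_iff.2
      (congrArg Subtype.val (mem_center_iff.1 z0.2 ⟨rr q, q, hq, rfl⟩))
    have hu1C : u1 ∈ C := mem_centralizer_singleton_iff.2 (by rw [hu1z])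
    have hu11 : (⟨u1, hu1C⟩ : C) * ⟨u1, hu1C⟩ = 1 := Subtype.ext (by
      show g * u * g⁻¹ * (g * u * g⁻¹) = 1
      rw [show g * u * g⁻¹ * (g * u * g⁻¹) = g * (u * u) * g⁻¹ by group, hu2, mul_one, mul_inv_cancel])
    obtain ⟨Q', hQ'⟩ := IsPGroup.exists_le_sylow (p := 2) (P := zpowers (⟨u1, hu1C⟩ : C)) (fun x => ⟨1, by
      obtain ⟨i, hi⟩ := x.2
      refine Subtype.ext ?_
      rw [pow_one, SubmonoidClass.coe_pow, ← hi, pow_two]
      show (⟨u1, hu1C⟩ : C) ^ i * (⟨u1, hu1C⟩ : C) ^ i = 1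
      rw [← (Commute.refl _).mul_zpow, hu11, one_zpow]⟩)
    obtain ⟨g', hg'⟩ := MulAction.exists_smul_eq C Q' (Q.subtype hQC)
    let u2 : N := (g' : N) * u1 * (g' : N)⁻¹
    have hu2Q : u2 ∈ (Q : Subgroup N) := by
      have h1 : g' * ⟨u1, hu1C⟩ * g'⁻¹ ∈ ((Q.subtype hQC : Sylow 2 C) : Subgroup C) := by
        rw [← hg', Sylow.coe_subgroup_smul, Subgroup.mem_smul_pointwise_iff_exists]
        exact ⟨_, hQ' (mem_zpowers _), rfl⟩
      rw [Sylow.coe_subtype] at h1
      exact h1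
    have hu2z : rr u2 = z := by
      rw [map_mul, map_mul, hu1z, map_inv, mem_centralizer_singleton_iff.1 g'.2, mul_inv_cancel_right]
    have hu2conj : IsConj t (u2 : G) := hcu.trans (isConj_iff.2 ⟨((g' : N) * g : N), by
      simp only [u2, u1, Subgroup.coe_mul, Subgroup.coe_inv]
      group⟩)
    let U : (Q : Subgroup N) := ⟨u2, hu2Q⟩
    have hclass : ∀ x : (Q : Subgroup N), ((x * U * x⁻¹ * U⁻¹ : (Q : Subgroup N)) : N) ∈ Rn := by
      intro x
      refine hPM _ (hker _ (x * U * x⁻¹ * U⁻¹).2 ?_) ?_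
      · have hc : rr ((x * U * x⁻¹ * U⁻¹ : (Q : Subgroup N)) : N) = 1 := by
          simp only [Subgroup.coe_mul, Subgroup.coe_inv, map_mul, map_inv]
          rw [show rr (U : N) = z from hu2z, mem_centralizer_singleton_iff.1 (hQC x.2)]
          group
        exact congrArg Subtype.val hc
      · have h1 : ∀ a b : (Q : Subgroup N), a * b ∈ M ↔ (a ∈ M ↔ b ∈ M) := fun a b =>
          Subgroup.mul_mem_iff_of_index_two hMi
        simp only [h1, inv_mem_iff]
        tauto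
    let cls : conjugatesOf U → Rn := fun v => ⟨((v : (Q : Subgroup N)) : N) * (u2)⁻¹, by
      obtain ⟨x, hx⟩ := isConj_iff.1 v.2
      rw [← hx]
      exact hclass x⟩
    have hclsinj : Function.Injective cls := fun v v' h => by
      have h' := congrArg Subtype.val h
      exact Subtype.ext (Subtype.ext (mul_right_cancel h'))
    have hcent : Nat.card (centralizer ({U} : Set (Q : Subgroup N))) ≤ 2 ^ (n + 1) := by
      obtain ⟨g2, hg2⟩ := isConj_iff.1 hu2conj
      rw [Nat.card_congr ((centralizer ({U} : Set (Q : Subgroup N))).equivMapOfInjective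
        (N.subtype.comp (Q : Subgroup N).subtype)
        (Subtype.val_injective.comp Subtype.val_injective)).toEquiv]
      refine A.cent_le (g := g2) ((Q.2.to_subgroup _).map _) ?_
      rintro _ ⟨x, hx, rfl⟩
      rw [hg2]
      have h3 := mem_centralizer_singleton_iff.1 hx
      exact congrArg (fun y : (Q : Subgroup N) => ((y : N) : G)) h3
    have hQcard : 16 * Nat.card Rn ≤ Nat.card (Q : Subgroup N) := by
      obtain ⟨b, hb⟩ := IsPGroup.iff_card.1 S.pgroup
      have hRP : 2 * Nat.card Rn = Nat.card P := by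
        rw [Nat.card_congr (Subgroup.subgroupOfEquivOfLe
            ((Subgroup.map_subtype_le R).trans P.le_normalizer)).toEquiv,
          Nat.card_congr (R.equivMapOfInjective P.subtype Subtype.val_injective).toEquiv.symm,
          ← L.index, mul_comm, R.card_mul_index]
      have hle : Pn ≤ (Aff.stab 1).comap rr := fun x hx =>
        Aff.mem_stab_one.2 ((hc' x).trans (L.cV_P hx))
      have hdvd : 2 ^ (b + 3) ∣ Nat.card N := by
        have hidx8 : ((Aff.stab 1).comap rr).index = 2 ^ 3 := by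
          rw [Subgroup.index_comap_of_surjective _ hrr, Aff.index_stab]
          exact congrArg (2 ^ ·) hn
        rw [← ((Aff.stab 1).comap rr).index_mul_card, hidx8, pow_add, mul_comm]
        refine Nat.mul_dvd_mul_left _ ?_
        rw [← hb, ← Nat.card_congr (Subgroup.subgroupOfEquivOfLe P.le_normalizer).toEquiv]
        exact Subgroup.card_dvd_of_le hle
      have hQ8 : 2 ^ (b + 3) ≤ Nat.card (Q : Subgroup N) :=
        Nat.le_of_dvd Nat.card_pos (Q.pow_dvd_card_of_pow_dvd_card hdvd)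
      rw [pow_add, ← hb, ← hRP] at hQ8
      omega
    have hclscard : Nat.card Rn ≤ Nat.card (conjugatesOf U) := by
      have h1 := (centralizer ({U} : Set (Q : Subgroup N))).card_mul_index
      rw [Setup.index_centralizer] at h1
      have h2 : Nat.card (centralizer ({U} : Set (Q : Subgroup N))) ≤ 16 :=
        hcent.trans (le_of_eq (by rw [hn]; norm_num))
      have h3 := Nat.mul_le_mul_right (Nat.card (conjugatesOf U)) h2
      omega
    have hbij := hclsinj.bijective_of_nat_card_le hclscard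
    apply hu1
    refine (MulEquiv.injective (MulAut.conj (rr g))).eq_iff.1 ?_
    have hu2one : rr u2 = 1 := by
      refine Subtype.ext (MulEquiv.ext fun v => ?_)
      obtain ⟨_, r, hr, rfl⟩ := v
      let rn : N := ⟨(r : G), P.le_normalizer r.2⟩
      obtain ⟨⟨v, hv⟩, hve⟩ := hbij.2 ⟨rn, hRn.2 ⟨r.2, hr⟩⟩
      have hve' : ((v : (Q : Subgroup N)) : N) * u2⁻¹ = rn := congrArg Subtype.val hve
      obtain ⟨x, hx⟩ := isConj_iff.1 hv
      have hUU : u2 * u2 = 1 := by
        simp only [u2, u1]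
        rw [show (g' : N) * (g * u * g⁻¹) * (g' : N)⁻¹ * ((g' : N) * (g * u * g⁻¹) * (g' : N)⁻¹) =
          (g' : N) * g * (u * u) * g⁻¹ * (g' : N)⁻¹ by group, hu2]
        group
      have hvv : (v : N) * (v : N) = 1 := by
        rw [← hx]
        show (x : N) * u2 * (x : N)⁻¹ * ((x : N) * u2 * (x : N)⁻¹) = 1
        rw [show (x : N) * u2 * (x : N)⁻¹ * ((x : N) * u2 * (x : N)⁻¹) = (x : N) * (u2 * u2) * (x : N)⁻¹ by group,
          hUU]
        group
      rw [mul_inv_eq_iff_eq_mul] at hve'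
      rw [hve'] at hvv
      have hinv : cj u2 r = r⁻¹ := Subtype.ext (by
        rw [cj_coe, Subgroup.coe_inv]
        have h' : (r : G) * (u2 : G) * ((r : G) * (u2 : G)) = 1 := congrArg Subtype.val hvv
        have h'' : (u2 : G)⁻¹ = (u2 : G) := inv_eq_of_mul_eq_one_right (congrArg Subtype.val hUU)
        rw [h'']
        refine eq_inv_of_mul_eq_one_right ?_
        calc (r : G) * ((u2 : G) * (r : G) * (u2 : G)) = (r : G) * (u2 : G) * ((r : G) * (u2 : G)) := by group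
          _ = 1 := h')
      refine Subtype.ext ?_
      rw [hval, L.act_of u2 hr, hinv, map_inv, Subgroup.coe_one, MulAut.one_apply]
      have hs := congrArg Subtype.val (L.sq_vec ⟨Abelianization.of r, L.of_mem.2 hr⟩)
      exact inv_eq_of_mul_eq_one_right hs
    rw [hu2z] at hu2one
    rw [map_one, MulAut.conj_apply, hh, hu2one]
  -- hence `Q` is a Sylow subgroup of `G`
  obtain ⟨S0, hS0⟩ := hX.exists_le_sylow
  have hS0eq : (S0 : Subgroup G) = X := by
    refine le_antisymm ?_ hS0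
    by_contra hnle
    haveI := S0.2.isNilpotent
    have hne : X.subgroupOf (S0 : Subgroup G) < ⊤ :=
      lt_top_iff_ne_top.2 fun h => hnle fun x hx =>
        mem_subgroupOf.1 (h ▸ mem_top (⟨x, hx⟩ : (S0 : Subgroup G)))
    obtain ⟨⟨s, hsS⟩, hs, hsX⟩ :=
      SetLike.exists_of_lt (Group.normalizerCondition_of_isNilpotent _ hne)
    have hsmove : ∀ x ∈ P, x ∈ X → IsConj t x → s * x * s⁻¹ ∈ P := by
      intro x _ hxX hxc
      have h1 : s * x * s⁻¹ ∈ X :=
        mem_subgroupOf.1 ((Subgroup.mem_normalizer_iff.1 hs ⟨x, hS0 hxX⟩).1 (mem_subgroupOf.2 hxX))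
      obtain ⟨y, hy, hye⟩ := h1
      rw [← hye]
      refine hfus y hy (hxc.trans (isConj_iff.2 ⟨s, ?_⟩))
      exact hye.symm
    have hsP : ∀ x ∈ P, s * x * s⁻¹ ∈ P := by
      have hst := hsmove t S.t_mem (hPX S.t_mem) (IsConj.refl t)
      have hsr : ∀ r : P, r ∈ R → s * (r : G) * s⁻¹ ∈ P := fun r hr => by
        have h := hsmove _ (tP S * r).2 (hPX (tP S * r).2) (L.conj_tR hr)
        have h2 := P.mul_mem (P.inv_mem hst) h
        rwa [Subgroup.coe_mul, show (s * t * s⁻¹)⁻¹ * (s * (((tP S : P) : G) * (r : G)) * s⁻¹) = s * (r : G) * s⁻¹ by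
          show (s * t * s⁻¹)⁻¹ * (s * (t * (r : G)) * s⁻¹) = _
          group] at h2
      intro x hx
      by_cases hxR : (⟨x, hx⟩ : P) ∈ R
      · exact hsr _ hxR
      · have h := P.mul_mem hst (hsr ((tP S)⁻¹ * ⟨x, hx⟩)
          (L.out_mul (fun h => L.t_not (inv_mem_iff.1 h)) hxR))
        rwa [show s * t * s⁻¹ * (s * (((tP S)⁻¹ * ⟨x, hx⟩ : P) : G) * s⁻¹) = s * x * s⁻¹ by
          show s * t * s⁻¹ * (s * (t⁻¹ * x) * s⁻¹) = _
          group] at h
    let sN : N := ⟨s, mem_normalizer_of hsP⟩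
    have h3 : IsPGroup 2 ((S0 : Subgroup G).subgroupOf N) := S0.2.comap_subtype
    have hle : (Q : Subgroup N) ≤ (S0 : Subgroup G).subgroupOf N := fun q hq => hS0 ⟨q, hq, rfl⟩
    have := Q.3 h3 hle
    exact hsX (mem_subgroupOf.2 ⟨sN, this ▸ hsS, rfl⟩)
  let MG : Subgroup G := (M.map (Q : Subgroup N).subtype).map N.subtype
  have hMG : MG ≤ (S0 : Subgroup G) := by
    rw [hS0eq]
    exact Subgroup.map_mono (Subgroup.map_subtype_le M)
  have hMGi : MG.relIndex (S0 : Subgroup G) = 2 := by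
    rw [hS0eq]
    show ((M.map (Q : Subgroup N).subtype).map N.subtype).relIndex ((Q : Subgroup N).map N.subtype) = 2
    rw [Subgroup.relIndex_map_map_of_injective _ _ N.subtype_injective, Subgroup.relIndex,
      Subgroup.subgroupOf, Subgroup.comap_map_eq_self_of_injective (Q : Subgroup N).subtype_injective, hMi]
  obtain ⟨g, hg, -⟩ := exists_conj_extremal A.nit S0 MG hMG hMGi A.sq_t (E ⊔ zpowers t) A.T_pgroup
    (fun x hx => mem_centralizer_singleton_iff.2 (A.T_cent hx)) A.t_mem_T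
  obtain ⟨_, ⟨x, hx, rfl⟩, hxe⟩ := hg
  have hxe' : ((x : N) : G) = g * t * g⁻¹ := hxe
  have hxP := hfus (x : N) x.2 (hxe' ▸ isConj_iff.2 ⟨g, rfl⟩)
  obtain ⟨h1, h2⟩ := hRn.1 (hPM x hxP hx)
  exact L.not_conj h2 (isConj_iff.2 ⟨g, hxe'.symm⟩)

end Layer

/-- The elementary situation does not occur. -/
theorem absurd (A : Elem n t k E) : False := by
  have key : ∀ (m : ℕ) (P : Subgroup G) (k' : G), Stage A P k' → Nat.card G - Nat.card P = m → False := by
    intro m
    induction m using Nat.strong_induction_on with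
    | _ m ih =>
      intro P k' S hm
      obtain ⟨R, L⟩ := S.exists_layer
      by_cases hd : ∃ d, L.act d = 1 ∧ L.cV d ≠ 1
      · obtain ⟨P1, k1, S1, hlt⟩ := L.grow hd
        refine ih _ ?_ P1 k1 S1 rfl
        have h1 : Nat.card P < Nat.card P1 :=
          lt_of_not_ge fun h => hlt.ne (Subgroup.eq_of_le_of_card_ge hlt.le h)
        have h2 := Subgroup.card_le_card_group P1
        omega
      · exact L.dead_end fun d hd1 => by
          by_contra h
          exact hd ⟨d, hd1, h⟩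
  exact key _ _ _ A.stage_zero rfl

end Elem

end Cfsg.Agent.TwoTimesPSL
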