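import Cfsg.Agent.Lib.TwoTimesPSL.Grow
import Cfsg.Agent.Lib.TwoTimesPSL.Transfer
import Cfsg.Agent.Lib.Coprime.PQ
import Cfsg.Agent.Lib.Coprime.Frattini

/-!
# An elementary Sylow subgroup of an involution centralizer with a Singer element

`Elem n t k E`: `E × ⟨t⟩` is an elementary Sylow 2-subgroup of `C(t)` of order `2 ^ (n + 1)` and `k` is an
element of odd order of `C(t)` acting on `E` as a Singer cycle.

* `Elem.inter` : a 2-group containing `T` meets `C(t)` in `T`
* `Elem.two_elem_sq` : 2-elements of `C(t)` have order at most two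
* `Elem.Stage.setup` : a 2-group containing `T` and invariant under the Singer element is a `Setup`
-/

set_option autoImplicit false
set_option linter.unusedSectionVars false
set_option linter.style.haveILetI false

open Subgroup

namespace Cfsg.Agent.TwoTimesPSL

variable {G : Type*} [Group G] [Finite G]

theorem mem_normalizer_of {P : Subgroup G} {g : G} (h : ∀ x ∈ P, g * x * g⁻¹ ∈ P) :
    g ∈ normalizer (P : Set G) := by
  haveI : Finite (P : Set G) := Subtype.finite
  refine Subgroup.mem_normalizer_iff.2 fun x => ⟨h x, fun hx => ?_⟩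
  let f : P → P := fun y => ⟨g * (y : G) * g⁻¹, h y y.2⟩
  have hf : Function.Injective f := fun a b e => Subtype.ext (by
    have e' : g * (a : G) * g⁻¹ = g * (b : G) * g⁻¹ := congrArg Subtype.val e
    simpa using e')
  obtain ⟨y, hy⟩ := Finite.injective_iff_surjective.1 hf ⟨g * x * g⁻¹, hx⟩
  have e' : g * (y : G) * g⁻¹ = g * x * g⁻¹ := congrArg Subtype.val hy
  rw [mul_left_inj, mul_right_inj] at e'
  exact e' ▸ y.2

theorem isPGroup_sup_zpowers {P : Subgroup G} (hP : IsPGroup 2 P) {g : G} (hg : g ∈ normalizer (P : Set G))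
    (h2 : IsPGroup 2 (zpowers g)) : IsPGroup 2 (P ⊔ zpowers g : Subgroup G) :=
  hP.to_sup_of_normal_left' h2 (zpowers_le.2 hg)

/-- The elementary situation. -/
structure Pre (n : ℕ) (t k : G) (E : Subgroup G) : Prop where
  nit : NoIndexTwo G
  two_le : 2 ≤ n
  sq_t : t * t = 1
  notE : t ∉ E
  cardE : Nat.card E = 2 ^ n
  commE : ∀ e ∈ E, e * t = t * e
  sqE : ∀ e ∈ E, e * e = 1
  maxT : ∀ X : Subgroup G, IsPGroup 2 X → (∀ x ∈ X, x * t = t * x) → Nat.card X ≤ 2 ^ (n + 1)
  k_odd : Odd (orderOf k)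
  k_t : k * t = t * k
  k_norm : ∀ e ∈ E, k * e * k⁻¹ ∈ E
  k_trans : ∀ a ∈ E, a ≠ 1 → ∀ b ∈ E, b ≠ 1 → ∃ i : ℕ, k ^ i * a * (k ^ i)⁻¹ = b
  k_order : ∀ e ∈ E, k ^ (2 ^ n - 1) * e * (k ^ (2 ^ n - 1))⁻¹ = e
  k_normal : ∀ m : G, m * t = t * m → (∀ x ∈ E ⊔ zpowers t, m * x * m⁻¹ ∈ E ⊔ zpowers t) →
    ∃ i : ℕ, ∀ x ∈ E ⊔ zpowers t,
      (m * k * m⁻¹) * x * (m * k * m⁻¹)⁻¹ = k ^ i * x * (k ^ i)⁻¹

/-- The elementary situation with `t` not fused into `E`. -/
structure Elem (n : ℕ) (t k : G) (E : Subgroup G) : Prop extends Pre n t k E where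
  sep : ∀ e ∈ E, ¬ IsConj t e

namespace Pre

variable {n : ℕ} {t k : G} {E : Subgroup G} (A : Pre n t k E)
include A


theorem t_ne : t ≠ 1 := fun h => A.notE (h ▸ E.one_mem)

theorem t_inv : t⁻¹ = t := inv_eq_of_mul_eq_one_right A.sq_t

theorem E_comm {a b : G} (ha : a ∈ E) (hb : b ∈ E) : a * b = b * a := by
  have h := inv_eq_of_mul_eq_one_right (A.sqE _ (E.mul_mem ha hb))
  rwa [mul_inv_rev, inv_eq_of_mul_eq_one_right (A.sqE a ha), inv_eq_of_mul_eq_one_right (A.sqE b hb),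
    eq_comm] at h

theorem mem_T {x : G} : x ∈ E ⊔ zpowers t ↔ ∃ e ∈ E, x = e ∨ x = e * t := by
  constructor
  · intro hx
    let K : Subgroup G :=
      { carrier := {z | ∃ e ∈ E, z = e ∨ z = e * t}
        one_mem' := ⟨1, E.one_mem, Or.inl rfl⟩
        mul_mem' := by
          rintro x y ⟨a, ha, hx⟩ ⟨b, hb, hy⟩
          refine ⟨a * b, E.mul_mem ha hb, ?_⟩
          rcases hx with hx | hx <;> rcases hy with hy | hy <;> rw [hx, hy]
          · exact Or.inl rfl
          · exact Or.inr (mul_assoc _ _ _).symm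
          · exact Or.inr (by rw [mul_assoc, ← A.commE b hb, mul_assoc])
          · exact Or.inl (by
              calc a * t * (b * t) = a * (t * b) * t := by group
                _ = a * b := by rw [← A.commE b hb, mul_assoc, mul_assoc b t t, A.sq_t, mul_one])
        inv_mem' := by
          rintro x ⟨a, ha, hx⟩
          refine ⟨a⁻¹, E.inv_mem ha, ?_⟩
          rcases hx with hx | hx <;> rw [hx]
          · exact Or.inl rfl
          · exact Or.inr (by rw [mul_inv_rev, A.t_inv, ← A.commE _ (E.inv_mem ha)]) }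
    have hle : E ⊔ zpowers t ≤ K := sup_le (fun e he => ⟨e, he, Or.inl rfl⟩)
      (zpowers_le.2 ⟨1, E.one_mem, Or.inr (one_mul t).symm⟩)
    exact hle hx
  · rintro ⟨e, he, h | h⟩ <;> rw [h]
    · exact mem_sup_left he
    · exact mul_mem (mem_sup_left he) (mem_sup_right (mem_zpowers t))

theorem t_mem_T : t ∈ E ⊔ zpowers t := mem_sup_right (mem_zpowers t)

theorem T_comm {x y : G} (hx : x ∈ E ⊔ zpowers t) (hy : y ∈ E ⊔ zpowers t) : x * y = y * x := by
  obtain ⟨a, ha, hx⟩ := A.mem_T.1 hx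
  obtain ⟨b, hb, hy⟩ := A.mem_T.1 hy
  have h1 : Commute a b := A.E_comm ha hb
  have h2 : Commute a t := A.commE a ha
  have h3 : Commute t b := (A.commE b hb).symm
  rcases hx with hx | hx <;> rcases hy with hy | hy <;> rw [hx, hy]
  · exact h1
  · exact h1.mul_right h2
  · exact Commute.mul_left h1 h3
  · exact (h1.mul_right h2).mul_left (h3.mul_right (Commute.refl t))

theorem T_sq {x : G} (hx : x ∈ E ⊔ zpowers t) : x * x = 1 := by
  obtain ⟨a, ha, hx⟩ := A.mem_T.1 hx
  rcases hx with hx | hx <;> rw [hx]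
  · exact A.sqE a ha
  · rw [mul_assoc, ← mul_assoc t a t, ← A.commE a ha, mul_assoc a t t, A.sq_t, mul_one, A.sqE a ha]

theorem T_pgroup : IsPGroup 2 (E ⊔ zpowers t : Subgroup G) := fun x =>
  ⟨1, Subtype.ext (by rw [pow_one, SubmonoidClass.coe_pow, pow_two]; exact A.T_sq x.2)⟩

theorem card_T : Nat.card (E ⊔ zpowers t : Subgroup G) = 2 ^ (n + 1) := by
  classical
  have e : E × Bool ≃ (E ⊔ zpowers t : Subgroup G) := Equiv.ofBijective
    (fun p => ⟨if p.2 then (p.1 : G) * t else p.1, A.mem_T.2 ⟨p.1, p.1.2, by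
      cases p.2
      · exact Or.inl rfl
      · exact Or.inr rfl⟩⟩)
    ⟨by
      rintro ⟨a, i⟩ ⟨b, j⟩ h
      have h' := congrArg Subtype.val h
      cases i <;> cases j <;> simp at h'
      · subst h'; rfl
      · exact absurd (show t ∈ E by
          rw [show t = (b : G)⁻¹ * (a : G) by rw [h']; group]
          exact E.mul_mem (E.inv_mem b.2) a.2) A.notE
      · exact absurd (show t ∈ E by
          rw [show t = (a : G)⁻¹ * (b : G) by rw [← h']; group]
          exact E.mul_mem (E.inv_mem a.2) b.2) A.notE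
      · subst h'; rfl,
    fun x => by
      obtain ⟨e, he, h | h⟩ := A.mem_T.1 x.2
      · exact ⟨(⟨e, he⟩, false), Subtype.ext h.symm⟩
      · exact ⟨(⟨e, he⟩, true), Subtype.ext h.symm⟩⟩
  rw [← Nat.card_congr e, Nat.card_prod, A.cardE, Nat.card_eq_fintype_card, Fintype.card_bool, pow_succ]

theorem T_cent {x : G} (hx : x ∈ E ⊔ zpowers t) : x * t = t * x := A.T_comm hx A.t_mem_T

/-- A 2-group containing `T` meets the centralizer in `T`. -/
theorem inter {X : Subgroup G} (hX : IsPGroup 2 X) (hTX : E ⊔ zpowers t ≤ X) {x : G} (hx : x ∈ X)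
    (hxt : x * t = t * x) : x ∈ E ⊔ zpowers t := by
  let Y := X ⊓ centralizer ({t} : Set G)
  have hle : E ⊔ zpowers t ≤ Y :=
    le_inf hTX fun y hy => mem_centralizer_singleton_iff.2 (A.T_cent hy)
  have hY : Nat.card Y ≤ 2 ^ (n + 1) :=
    A.maxT Y (hX.to_le inf_le_left) fun y hy => mem_centralizer_singleton_iff.1 hy.2
  have heq : (E ⊔ zpowers t : Subgroup G) = Y :=
    Subgroup.eq_of_le_of_card_ge hle (by rw [A.card_T]; exact hY)
  rw [heq]
  exact ⟨hx, mem_centralizer_singleton_iff.2 hxt⟩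

/-- 2-elements of the centralizer square to one. -/
theorem two_elem_sq {x : G} (hx : IsPGroup 2 (zpowers x)) (hxt : x * t = t * x) : x * x = 1 := by
  haveI : Fact (Nat.Prime 2) := ⟨Nat.prime_two⟩
  let C := centralizer ({t} : Set G)
  have hle : E ⊔ zpowers t ≤ C := fun y hy => mem_centralizer_singleton_iff.2 (A.T_cent hy)
  obtain ⟨S0, hS0⟩ := IsPGroup.exists_le_sylow
    ((hx.comap_subtype (K := C)))
  obtain ⟨S1, hS1⟩ := IsPGroup.exists_le_sylow (A.T_pgroup.comap_subtype (K := C))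
  have hS1eq : (S1 : Subgroup C) = (E ⊔ zpowers t).subgroupOf C := by
    refine (Subgroup.eq_of_le_of_card_ge hS1 ?_).symm
    rw [show Nat.card ((E ⊔ zpowers t).comap C.subtype : Subgroup C) = 2 ^ (n + 1) from
      (Nat.card_congr (Subgroup.subgroupOfEquivOfLe hle).toEquiv).trans A.card_T]
    rw [Nat.card_congr ((S1 : Subgroup C).equivMapOfInjective C.subtype Subtype.val_injective).toEquiv]
    refine A.maxT _ (S1.2.map C.subtype) ?_
    rintro _ ⟨y, -, rfl⟩
    exact mem_centralizer_singleton_iff.1 y.2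
  obtain ⟨g, hg⟩ := MulAction.exists_smul_eq C S0 S1
  let xc : C := ⟨x, mem_centralizer_singleton_iff.2 hxt⟩
  have hxS : xc ∈ (S0 : Subgroup C) := hS0 (mem_zpowers x)
  have h1 : g * xc * g⁻¹ ∈ (S1 : Subgroup C) := by
    rw [← hg, Sylow.coe_subgroup_smul, Subgroup.mem_smul_pointwise_iff_exists]
    exact ⟨xc, hxS, rfl⟩
  rw [hS1eq] at h1
  have h2 : ((g : G) * x * (g : G)⁻¹) * ((g : G) * x * (g : G)⁻¹) = 1 := A.T_sq h1
  have h3 : (g : G) * (x * x) * (g : G)⁻¹ = 1 := by rw [← h2]; group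
  exact conj_eq_one_iff.1 h3

end Pre

namespace Elem

variable {n : ℕ} {t k : G} {E : Subgroup G} (A : Elem n t k E)
include A

theorem conj_iter (a : G) (i : ℕ) : (fun x => k * x * k⁻¹)^[i] a = k ^ i * a * (k ^ i)⁻¹ := by
  induction i with
  | zero => simp
  | succ i ih => rw [Function.iterate_succ_apply', ih, pow_succ']; group

theorem k_pow_norm (i : ℕ) {e : G} (he : e ∈ E) : k ^ i * e * (k ^ i)⁻¹ ∈ E := by
  induction i with
  | zero => simpa using he
  | succ i ih =>
    have := A.k_norm _ ih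
    rw [show k ^ (i + 1) * e * (k ^ (i + 1))⁻¹ = k * (k ^ i * e * (k ^ i)⁻¹) * k⁻¹ by
      rw [pow_succ']; group]
    exact this

theorem k_regular {i : ℕ} {e : G} (he : e ∈ E) (he1 : e ≠ 1) (h : k ^ i * e * (k ^ i)⁻¹ = e) :
    (2 ^ n - 1) ∣ i := by
  classical
  let f : G → G := fun x => k * x * k⁻¹
  have h1 : Function.IsPeriodicPt f i e := (A.conj_iter e i).trans h
  have h2 : Function.IsPeriodicPt f (2 ^ n - 1) e := (A.conj_iter e _).trans (A.k_order e he)
  have hpos : 0 < 2 ^ n - 1 := by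
    have := Nat.pow_le_pow_right two_pos A.two_le
    omega
  have hdpos : 0 < Function.minimalPeriod f e := h2.minimalPeriod_pos hpos
  have hdvd : Function.minimalPeriod f e ∣ 2 ^ n - 1 := h2.minimalPeriod_dvd
  haveI := Fintype.ofFinite E
  have hcov : Finset.univ.erase (1 : E) ⊆ (Finset.range (Function.minimalPeriod f e)).image
      fun j => (⟨k ^ j * e * (k ^ j)⁻¹, A.k_pow_norm j he⟩ : E) := by
    intro x hx
    obtain ⟨j, hj⟩ := A.k_trans e he he1 x x.2 fun h => (Finset.mem_erase.1 hx).1 (Subtype.ext h)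
    refine Finset.mem_image.2 ⟨j % Function.minimalPeriod f e,
      Finset.mem_range.2 (Nat.mod_lt _ hdpos), Subtype.ext ?_⟩
    show k ^ (j % Function.minimalPeriod f e) * e * (k ^ (j % Function.minimalPeriod f e))⁻¹ = _
    rw [← A.conj_iter, Function.iterate_mod_minimalPeriod_eq, A.conj_iter, hj]
  have hle := (Finset.card_le_card hcov).trans Finset.card_image_le
  rw [Finset.card_erase_of_mem (Finset.mem_univ _), Finset.card_univ, ← Nat.card_eq_fintype_card, A.cardE,
    Finset.card_range] at hle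
  rw [show 2 ^ n - 1 = Function.minimalPeriod f e from le_antisymm hle (Nat.le_of_dvd hpos hdvd)]
  exact h1.minimalPeriod_dvd

/-- A 2-group containing `T`, invariant under an element acting on `T` as `k`. -/
structure Stage (A : Elem n t k E) (P : Subgroup G) (k' : G) : Prop where
  pgroup : IsPGroup 2 P
  le : E ⊔ zpowers t ≤ P
  norm : ∀ x ∈ P, k' * x * k'⁻¹ ∈ P
  k'_t : k' * t = t * k'
  k'_odd : Odd (orderOf k')
  same : ∀ x ∈ E ⊔ zpowers t, k' * x * k'⁻¹ = k * x * k⁻¹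

theorem stage_zero : Stage A (E ⊔ zpowers t) k where
  pgroup := A.T_pgroup
  le := le_rfl
  norm x hx := by
    obtain ⟨e, he, h | h⟩ := A.mem_T.1 hx <;> rw [h]
    · exact mem_sup_left (A.k_norm e he)
    · exact A.mem_T.2 ⟨_, A.k_norm e he, Or.inr (by
        calc k * (e * t) * k⁻¹ = k * e * (k⁻¹ * k) * t * k⁻¹ := by group
          _ = k * e * k⁻¹ * ((k * t) * k⁻¹) := by group
          _ = k * e * k⁻¹ * t := by rw [A.k_t, mul_inv_cancel_right])⟩
  k'_t := A.k_t
  k'_odd := A.k_odd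
  same _ _ := rfl

theorem k_T_norm {x : G} (hx : x ∈ E ⊔ zpowers t) : k * x * k⁻¹ ∈ E ⊔ zpowers t :=
  A.stage_zero.norm x hx

theorem T_order {x : G} (hx : x ∈ E ⊔ zpowers t) :
    k ^ (2 ^ n - 1) * x * (k ^ (2 ^ n - 1))⁻¹ = x := by
  obtain ⟨e, he, h | h⟩ := A.mem_T.1 hx <;> rw [h]
  · exact A.k_order e he
  · have hc : Commute (k ^ (2 ^ n - 1)) t := Commute.pow_left A.k_t _
    calc k ^ (2 ^ n - 1) * (e * t) * (k ^ (2 ^ n - 1))⁻¹
        = (k ^ (2 ^ n - 1) * e * (k ^ (2 ^ n - 1))⁻¹) * (k ^ (2 ^ n - 1) * t * (k ^ (2 ^ n - 1))⁻¹) := by group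
      _ = e * t := by rw [A.k_order e he, hc.eq, mul_inv_cancel_right]

theorem T_regular {i : ℕ} (hi : ¬ (2 ^ n - 1) ∣ i) {x : G} (hx : x ∈ E ⊔ zpowers t)
    (h : k ^ i * x * (k ^ i)⁻¹ = x) : x = 1 ∨ x = t := by
  obtain ⟨e, he, hxe | hxe⟩ := A.mem_T.1 hx <;> rw [hxe] at h ⊢
  · by_cases he1 : e = 1
    · exact Or.inl he1
    · exact absurd (A.k_regular he he1 h) hi
  · by_cases he1 : e = 1
    · exact Or.inr (by rw [he1, one_mul])
    · refine absurd (A.k_regular he he1 ?_) hi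
      have hc : Commute (k ^ i) t := Commute.pow_left A.k_t _
      have e2 : k ^ i * (e * t) * (k ^ i)⁻¹ = k ^ i * e * (k ^ i)⁻¹ * t := by
        calc k ^ i * (e * t) * (k ^ i)⁻¹ = (k ^ i * e * (k ^ i)⁻¹) * (k ^ i * t * (k ^ i)⁻¹) := by group
          _ = _ := by rw [hc.eq, mul_inv_cancel_right]
      rw [e2] at h
      exact mul_right_cancel h

namespace Stage

variable {A} {P : Subgroup G} {k' : G} (S : Stage A P k')
include S

theorem t_mem : t ∈ P := S.le A.t_mem_T

theorem k'_mem : k' ∈ normalizer (P : Set G) := mem_normalizer_of S.norm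

theorem pow_norm (i : ℕ) {x : G} (hx : x ∈ P) : k' ^ i * x * (k' ^ i)⁻¹ ∈ P :=
  (Subgroup.mem_normalizer_iff.1 ((normalizer (P : Set G)).pow_mem S.k'_mem i) x).1 hx

theorem same_pow (i : ℕ) {x : G} (hx : x ∈ E ⊔ zpowers t) :
    k' ^ i * x * (k' ^ i)⁻¹ = k ^ i * x * (k ^ i)⁻¹ := by
  induction i generalizing x with
  | zero => simp
  | succ i ih =>
    calc k' ^ (i + 1) * x * (k' ^ (i + 1))⁻¹ = k' ^ i * (k' * x * k'⁻¹) * (k' ^ i)⁻¹ := by
          rw [pow_succ]; group
      _ = k ^ i * (k * x * k⁻¹) * (k ^ i)⁻¹ := by rw [S.same x hx, ih (A.k_T_norm hx)]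
      _ = _ := by rw [pow_succ]; group

/-- An element of odd order centralising `T` and normalising `P` centralises `P`. -/
theorem centralises {y : G} (hy : Odd (orderOf y)) (hyP : y ∈ normalizer (P : Set G))
    (hyT : ∀ x ∈ E ⊔ zpowers t, y * x * y⁻¹ = x) {x : G} (hx : x ∈ P) : y * x * y⁻¹ = x := by
  haveI : Fact (Nat.Prime 2) := ⟨Nat.prime_two⟩
  have h := Coprime.thompson_pq 2 (P := zpowers t) (Q := zpowers y) (U := P)
    (IsPGroup.of_card (n := 1) (by
      rw [Nat.card_zpowers, pow_one]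
      exact orderOf_eq_prime (by rw [pow_two]; exact A.sq_t) A.t_ne))
    (by rw [Nat.card_zpowers]; exact Nat.coprime_two_right.2 hy) S.pgroup
    (zpowers_le.2 fun z hz => by
      obtain ⟨i, rfl⟩ := hz
      have hc : Commute y t := mul_inv_eq_iff_eq_mul.1 (hyT t A.t_mem_T)
      exact (hc.zpow_left i).eq)
    (zpowers_le.2 (P.le_normalizer S.t_mem)) (zpowers_le.2 hyP)
    (by
      rintro z ⟨hz, hzc⟩ w ⟨i, rfl⟩
      have hzt : z * t = t * z := (hzc t (mem_zpowers t)).symm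
      have hcomm : Commute y z := mul_inv_eq_iff_eq_mul.1 (hyT z (A.inter S.pgroup S.le hz hzt))
      exact (hcomm.zpow_left i).eq)
  have hc := h (mem_zpowers y) x hx
  rw [← hc, mul_inv_cancel_right]

/-- The automorphism of `P` induced by `k'`. -/
noncomputable def auto : MulAut P := P.normalizerMonoidHom ⟨k', S.k'_mem⟩

theorem auto_pow (i : ℕ) (x : P) : (((S.auto ^ i) x : P) : G) = k' ^ i * (x : G) * (k' ^ i)⁻¹ := by
  rw [auto, ← map_pow]
  rfl

theorem map_centralizer :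
    (centralizer ({⟨t, S.t_mem⟩} : Set P)).map P.subtype = E ⊔ zpowers t := by
  refine le_antisymm ?_ ?_
  · rintro _ ⟨x, hx, rfl⟩
    exact A.inter S.pgroup S.le x.2 (congrArg Subtype.val (mem_centralizer_singleton_iff.1 hx))
  · intro x hx
    exact ⟨⟨x, S.le hx⟩, mem_centralizer_singleton_iff.2 (Subtype.ext (A.T_cent hx)), rfl⟩

theorem setup : Setup n S.auto (⟨t, S.t_mem⟩ : P) where
  two_le := A.two_le
  pgroup := S.pgroup
  ne_one h := A.t_ne (congrArg Subtype.val h)
  sq := Subtype.ext A.sq_t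
  card_cent := by
    rw [Nat.card_congr ((centralizer ({⟨t, S.t_mem⟩} : Set P)).equivMapOfInjective P.subtype
      Subtype.val_injective).toEquiv, S.map_centralizer, A.card_T]
  comm x hx y hy := Subtype.ext (A.T_comm (S.map_centralizer ▸ ⟨x, hx, rfl⟩)
    (S.map_centralizer ▸ ⟨y, hy, rfl⟩))
  fix_t := Subtype.ext (by
    have h := S.auto_pow 1 ⟨t, S.t_mem⟩
    simp only [pow_one] at h
    rw [h, S.k'_t, mul_inv_cancel_right])
  order := by
    refine MulEquiv.ext fun x => Subtype.ext ?_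
    rw [S.auto_pow, MulAut.one_apply]
    refine S.centralises ?_ ((normalizer (P : Set G)).pow_mem S.k'_mem _)
      (fun y hy => by rw [S.same_pow _ hy, A.T_order hy]) x.2
    exact (S.k'_odd).of_dvd_nat (orderOf_pow_dvd _)
  reg i hi x hx h := by
    have h' : k' ^ i * (x : G) * (k' ^ i)⁻¹ = (x : G) := by rw [← S.auto_pow, h]
    have hxT : (x : G) ∈ E ⊔ zpowers t := S.map_centralizer ▸ ⟨x, hx, rfl⟩
    rw [S.same_pow i hxT] at h'
    rcases A.T_regular hi hxT h' with e | e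
    · exact Or.inl (Subtype.ext e)
    · exact Or.inr (Subtype.ext e)

/-- A normalising element of `C(t)` : odd part and 2-part. -/
theorem split {m : G} (hm : m ∈ normalizer (P : Set G)) (hmt : m * t = t * m) :
    ∃ j : ℕ, Odd (orderOf (m ^ 2 ^ j)) ∧ m ^ orderOf (m ^ 2 ^ j) ∈ E ⊔ zpowers t := by
  haveI : Fact (Nat.Prime 2) := ⟨Nat.prime_two⟩
  obtain ⟨j, o, ho, he⟩ := Nat.exists_eq_two_pow_mul_odd (n := orderOf m) (orderOf_pos m).ne'
  have hord : orderOf (m ^ 2 ^ j) = o := by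
    rw [orderOf_pow' _ (pow_ne_zero _ two_ne_zero), he, Nat.gcd_mul_right_left,
      Nat.mul_div_cancel_left _ (Nat.two_pow_pos j)]
  refine ⟨j, by rw [hord]; exact ho, ?_⟩
  rw [hord]
  have h2 : IsPGroup 2 (zpowers (m ^ o)) := by
    refine IsPGroup.of_card (n := j) ?_
    rw [Nat.card_zpowers, orderOf_pow' _ (by rintro rfl; simp at ho), he, Nat.gcd_mul_left_left,
      Nat.mul_div_cancel _ (Nat.pos_of_ne_zero (by rintro rfl; simp at ho))]
  exact A.inter (isPGroup_sup_zpowers S.pgroup ((normalizer (P : Set G)).pow_mem hm o) h2)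
    (le_sup_of_le_left S.le) (mem_sup_right (mem_zpowers _)) (Commute.pow_left hmt o)

theorem T_norm {m : G} (hm : m ∈ normalizer (P : Set G)) (hmt : m * t = t * m) {x : G}
    (hx : x ∈ E ⊔ zpowers t) : m * x * m⁻¹ ∈ E ⊔ zpowers t := by
  refine A.inter S.pgroup S.le ((Subgroup.mem_normalizer_iff.1 hm x).1 (S.le hx)) ?_
  have hc : Commute m⁻¹ t := Commute.inv_left hmt
  calc m * x * m⁻¹ * t = m * (x * (m⁻¹ * t)) := by group
    _ = m * ((x * t) * m⁻¹) := by rw [hc.eq, ← mul_assoc x t]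
    _ = m * ((t * x) * m⁻¹) := by rw [A.T_cent hx]
    _ = (m * t) * x * m⁻¹ := by group
    _ = t * (m * x * m⁻¹) := by rw [hmt]; group

end Stage

end Elem

end Cfsg.Agent.TwoTimesPSL
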