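import Cfsg.Agent.Lib.TwoTimesPSL.ChainBasic

/-!
# One layer: the normaliser of an invariant 2-group acts affinely on `R / P'`

* `Layer` : the subgroup `R` given by `Setup.exists_R`
* `Layer.trans` : the normaliser of `P` is transitive on `t R`
* `Layer.act`, `Layer.cV` : the affine action on the image of `R` in the abelianisation
-/

set_option autoImplicit false
set_option linter.unusedSectionVars false
set_option linter.style.haveILetI false

open Subgroup

namespace Cfsg.Agent.TwoTimesPSL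

variable {G : Type*} [Group G] [Finite G] {n : ℕ} {t k : G} {E : Subgroup G} {A : Elem n t k E}
  {P : Subgroup G} {k' : G}

namespace Elem

/-- The layer below a stage. -/
structure Layer (S : Stage A P k') (R : Subgroup P) : Prop where
  index : R.index = 2
  comm_le : commutator P ≤ R
  t_not : (⟨t, S.t_mem⟩ : P) ∉ R
  inv : ∀ x ∈ R, S.auto x ∈ R
  rel : (commutator P).relIndex R = 2 ^ n
  sq : ∀ x ∈ R, x * x ∈ commutator P
  trans : ∀ x ∈ R, x ∉ commutator P → ∀ y ∈ R, y ∉ commutator P →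
    ∃ i : ℕ, ((S.auto ^ i) x)⁻¹ * y ∈ commutator P
  cls : ∀ c ∈ commutator P, IsConj (⟨t, S.t_mem⟩ : P) (⟨t, S.t_mem⟩ * c)

theorem Stage.exists_layer (S : Stage A P k') : ∃ R : Subgroup P, Layer S R := by
  obtain ⟨R, h1, h2, h3, h4, h5, h6, h7, h8⟩ := S.setup.exists_R
  exact ⟨R, h1, h2, h3, h4, h5, h6, h7, h8⟩

namespace Layer

variable {S : Stage A P k'} {R : Subgroup P} (L : Layer S R)
include L

omit L in
/-- The element `t` of `P`. -/
def tP (S : Stage A P k') : P := ⟨t, S.t_mem⟩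

theorem not_conj {r : P} (hr : r ∈ R) : ¬ IsConj t (r : G) := by
  intro hc
  obtain ⟨g, hg⟩ := isConj_iff.1 hc
  haveI : Fact (Nat.Prime 2) := ⟨Nat.prime_two⟩
  have hrr : r * r = 1 := Subtype.ext (by
    rw [Subgroup.coe_mul, ← hg, Subgroup.coe_one]
    calc g * t * g⁻¹ * (g * t * g⁻¹) = g * (t * t) * g⁻¹ := by group
      _ = 1 := by rw [A.sq_t, mul_one, mul_inv_cancel])
  -- the centralizer of `r` in `P` is small
  have hsmall : Nat.card (centralizer ({r} : Set P)) ≤ 2 ^ (n + 1) := by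
    let f : G →* G := (MulAut.conj g⁻¹).toMonoidHom
    let X : Subgroup G := ((centralizer ({r} : Set P)).map P.subtype).map f
    have hX : Nat.card X = Nat.card (centralizer ({r} : Set P)) := by
      rw [← Nat.card_congr (((centralizer ({r} : Set P)).map P.subtype).equivMapOfInjective f
        (MulAut.conj g⁻¹).injective).toEquiv,
        ← Nat.card_congr ((centralizer ({r} : Set P)).equivMapOfInjective P.subtype
          Subtype.val_injective).toEquiv]
    rw [← hX]
    refine A.maxT X (((S.pgroup.to_subgroup _).map P.subtype).map f) ?_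
    rintro _ ⟨_, ⟨x, hx, rfl⟩, rfl⟩
    have hxr : (x : G) * (r : G) = (r : G) * x :=
      congrArg Subtype.val (mem_centralizer_singleton_iff.1 hx)
    show g⁻¹ * (x : G) * g⁻¹⁻¹ * t = t * (g⁻¹ * (x : G) * g⁻¹⁻¹)
    rw [← hg] at hxr
    calc g⁻¹ * (x : G) * g⁻¹⁻¹ * t = g⁻¹ * ((x : G) * (g * t * g⁻¹)) * g := by group
      _ = g⁻¹ * ((g * t * g⁻¹) * (x : G)) * g := by rw [hxr]
      _ = t * (g⁻¹ * (x : G) * g⁻¹⁻¹) := by group
  have hcard := S.setup.small L.index L.comm_le L.rel L.sq L.trans hr hrr hsmall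
  -- so `P = T` and `R = E`
  have hPT : E ⊔ zpowers t = P := Subgroup.eq_of_le_of_card_ge S.le (by rw [A.card_T, hcard])
  have hEP : E ≤ P := le_sup_left.trans S.le
  let E' : Subgroup P := E.subgroupOf P
  have hcomm : commutator P = ⊥ := by
    rw [Subgroup.eq_bot_iff_forall]
    intro c hc
    have hab : ∀ x y : P, x * y = y * x := fun x y =>
      Subtype.ext (A.T_comm (by rw [hPT]; exact x.2) (by rw [hPT]; exact y.2))
    have : commutator P ≤ ⊥ := by
      rw [_root_.commutator_def, Subgroup.commutator_le]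
      intro x _ y _
      rw [Subgroup.mem_bot, commutatorElement_eq_one_iff_mul_comm]
      exact hab x y
    exact this hc
  obtain ⟨e0, he0R, he0, he01⟩ : ∃ e : P, e ∈ R ∧ (e : G) ∈ E ∧ e ≠ 1 := by
    classical
    by_contra hno
    push Not at hno
    have hsmallE : ∀ a b : E', a ≠ 1 → b ≠ 1 → a = b := fun a b ha hb => by
      have haR : (a : P) ∉ R := fun h => ha (Subtype.ext (hno a h a.2))
      have hbR : (b : P) ∉ R := fun h => hb (Subtype.ext (hno b h b.2))
      have := hno _ ((Subgroup.mul_mem_iff_of_index_two L.index).2 (iff_of_false haR hbR))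
        (E'.mul_mem a.2 b.2)
      have e : (a : P)⁻¹ = (b : P) := inv_eq_of_mul_eq_one_right this
      refine Subtype.ext ?_
      rw [← e]
      exact Subtype.ext (inv_eq_of_mul_eq_one_right (A.sqE _ a.2)).symm
    have h4 : 4 ≤ Nat.card E' := by
      rw [Nat.card_congr (Subgroup.subgroupOfEquivOfLe hEP).toEquiv, A.cardE]
      exact le_trans (le_of_eq (by norm_num : (4 : ℕ) = 2 ^ 2)) (Nat.pow_le_pow_right two_pos A.two_le)
    haveI := Fintype.ofFinite E'
    have h2 : (Finset.univ.erase (1 : E')).card ≤ 1 := Finset.card_le_one.2 fun a ha b hb =>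
      hsmallE a b (Finset.mem_erase.1 ha).1 (Finset.mem_erase.1 hb).1
    rw [Finset.card_erase_of_mem (Finset.mem_univ _), Finset.card_univ, ← Nat.card_eq_fintype_card] at h2
    omega
  have hle : E' ≤ R := by
    intro e he
    by_cases he1 : e = 1
    · rw [he1]; exact R.one_mem
    · obtain ⟨i, hi⟩ := A.k_trans (e0 : G) he0 (fun h => he01 (Subtype.ext h)) (e : G) he
        (fun h => he1 (Subtype.ext h))
      have hmem : (S.auto ^ i) e0 ∈ R := by
        clear hi
        induction i with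
        | zero => exact he0R
        | succ i ih => rw [pow_succ', MulAut.mul_apply]; exact L.inv _ ih
      have e2 : (S.auto ^ i) e0 = e := Subtype.ext (by
        rw [S.auto_pow, S.same_pow i (mem_sup_left he0), hi])
      rwa [e2] at hmem
  have hRE : R = E' := by
    refine (Subgroup.eq_of_le_of_card_ge hle ?_).symm
    rw [Nat.card_congr (Subgroup.subgroupOfEquivOfLe hEP).toEquiv, A.cardE]
    have h := R.card_mul_index
    rw [L.index, hcard, pow_succ] at h
    omega
  rw [hRE] at hr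
  exact A.sep _ hr hc

theorem coset {u : P} (hu : IsConj t (u : G)) : (tP S)⁻¹ * u ∈ R :=
  (Subgroup.mul_mem_iff_of_index_two L.index).2
    (iff_of_false (fun h => L.t_not (inv_mem_iff.1 h)) fun h => L.not_conj h hu)

theorem out_mul {u v : P} (hu : u ∉ R) (hv : v ∉ R) : u * v ∈ R :=
  (Subgroup.mul_mem_iff_of_index_two L.index).2 (iff_of_false hu hv)

theorem conj_comm {c : P} (hc : c ∈ commutator P) :
    ∃ p : P, (p : G) * t * (p : G)⁻¹ = t * (c : G) := by
  obtain ⟨p, hp⟩ := isConj_iff.1 (L.cls c hc)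
  exact ⟨p, congrArg Subtype.val hp⟩

omit L in
/-- Conjugation by an element of the normaliser. -/
def cj (g : normalizer (P : Set G)) : MulAut P := P.normalizerMonoidHom g

omit L in
theorem cj_coe (g : normalizer (P : Set G)) (x : P) :
    ((cj g x : P) : G) = (g : G) * (x : G) * (g : G)⁻¹ := rfl

omit L in
theorem cj_comm (g : normalizer (P : Set G)) {c : P} (hc : c ∈ commutator P) :
    cj g c ∈ commutator P := by
  have h : (commutator P).map (cj g).toMonoidHom = commutator P :=
    Subgroup.characteristic_iff_map_eq.1 (inferInstance : (commutator P).Characteristic) (cj g)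
  rw [← h]
  exact ⟨c, hc, rfl⟩

/-- Some element of the normaliser moves `t` out of its class. -/
theorem move : ∃ g : normalizer (P : Set G), (tP S)⁻¹ * cj g (tP S) ∉ commutator P := by
  haveI : Fact (Nat.Prime 2) := ⟨Nat.prime_two⟩
  obtain ⟨Q, hQ⟩ := S.pgroup.exists_le_sylow
  rcases eq_or_lt_of_le hQ with heq | hlt
  · exfalso
    obtain ⟨g, hg, -⟩ := exists_conj_extremal A.nit Q (R.map P.subtype)
      (heq ▸ Subgroup.map_subtype_le R)
      (by rw [← heq, Subgroup.relIndex, Subgroup.subgroupOf, Subgroup.comap_map_eq_self_of_injective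
        Subtype.val_injective, L.index]) A.sq_t (E ⊔ zpowers t) A.T_pgroup
      (fun x hx => mem_centralizer_singleton_iff.2 (A.T_cent hx)) A.t_mem_T
    obtain ⟨r, hr, hre⟩ := hg
    exact L.not_conj hr (isConj_iff.2 ⟨g, hre.symm⟩)
  · haveI := Q.2.isNilpotent
    have hne : P.subgroupOf (Q : Subgroup G) < ⊤ := by
      refine lt_top_iff_ne_top.2 fun h => hlt.ne (le_antisymm hQ fun x hx => ?_)
      exact mem_subgroupOf.1 (h ▸ mem_top (⟨x, hx⟩ : (Q : Subgroup G)))
    obtain ⟨⟨s, hsQ⟩, hs, hsP⟩ :=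
      SetLike.exists_of_lt (Group.normalizerCondition_of_isNilpotent _ hne)
    have hsN : s ∈ normalizer (P : Set G) := mem_normalizer_of fun x hx =>
      mem_subgroupOf.1 ((Subgroup.mem_normalizer_iff.1 hs ⟨x, hQ hx⟩).1 (mem_subgroupOf.2 hx))
    refine ⟨⟨s, hsN⟩, fun hc => hsP (mem_subgroupOf.2 ?_)⟩
    obtain ⟨p, hp⟩ := L.conj_comm hc
    have hp' : (p : G) * t * (p : G)⁻¹ = s * t * s⁻¹ := by
      rw [hp]
      show t * (((tP S)⁻¹ * cj ⟨s, hsN⟩ (tP S) : P) : G) = s * t * s⁻¹
      rw [Subgroup.coe_mul, Subgroup.coe_inv, cj_coe]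
      exact mul_inv_cancel_left _ _
    have hcomm : ((p : G)⁻¹ * s) * t = t * ((p : G)⁻¹ * s) := by
      calc ((p : G)⁻¹ * s) * t = (p : G)⁻¹ * (s * t * s⁻¹) * s := by group
        _ = (p : G)⁻¹ * ((p : G) * t * (p : G)⁻¹) * s := by rw [hp']
        _ = t * ((p : G)⁻¹ * s) := by group
    have h := A.inter Q.2 (S.le.trans hQ)
      ((Q : Subgroup G).mul_mem ((Q : Subgroup G).inv_mem (hQ p.2)) hsQ) hcomm
    show s ∈ P
    have := P.mul_mem p.2 (S.le h)
    rwa [mul_inv_cancel_left] at this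

/-- The normaliser of `P` is transitive on `t R`. -/
theorem trans_tR {r : P} (hr : r ∈ R) :
    ∃ g : normalizer (P : Set G), cj g (tP S) = tP S * r := by
  by_cases hrc : r ∈ commutator P
  · obtain ⟨p, hp⟩ := L.conj_comm hrc
    exact ⟨⟨p, P.le_normalizer p.2⟩, Subtype.ext hp⟩
  · obtain ⟨g, hg⟩ := L.move
    set r0 : P := (tP S)⁻¹ * cj g (tP S) with hr0
    have hr0R : r0 ∈ R := L.coset (u := cj g (tP S)) (isConj_iff.2 ⟨g, rfl⟩)
    obtain ⟨i, hi⟩ := L.trans r0 hr0R hg r hr hrc
    let g' : normalizer (P : Set G) := ⟨k' ^ i, (normalizer (P : Set G)).pow_mem S.k'_mem i⟩ * g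
    have h1 : cj g' (tP S) = tP S * (S.auto ^ i) r0 := by
      refine Subtype.ext ?_
      rw [Subgroup.coe_mul, S.auto_pow, hr0, Subgroup.coe_mul, Subgroup.coe_inv, cj_coe, cj_coe]
      show k' ^ i * (g : G) * t * (k' ^ i * (g : G))⁻¹ =
        t * (k' ^ i * (t⁻¹ * ((g : G) * t * (g : G)⁻¹)) * (k' ^ i)⁻¹)
      have hc : Commute (k' ^ i) t := Commute.pow_left S.k'_t i
      calc k' ^ i * (g : G) * t * (k' ^ i * (g : G))⁻¹
          = k' ^ i * ((g : G) * t * (g : G)⁻¹) * (k' ^ i)⁻¹ := by group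
        _ = t * (k' ^ i * (t⁻¹ * ((g : G) * t * (g : G)⁻¹)) * (k' ^ i)⁻¹) := by
          rw [← mul_assoc (k' ^ i) t⁻¹, hc.inv_right.eq]; group
    set c := ((S.auto ^ i) r0)⁻¹ * r with hc
    obtain ⟨p, hp⟩ := L.conj_comm (cj_comm g'⁻¹ hi)
    refine ⟨g' * ⟨p, P.le_normalizer p.2⟩, Subtype.ext ?_⟩
    have e1 : ((cj g' (tP S) : P) : G) * (c : G) = ((tP S * r : P) : G) := by
      rw [h1, ← Subgroup.coe_mul, hc]
      congr 1
      group
    rw [← e1, cj_coe, cj_coe]
    have e2 : ((cj g'⁻¹ c : P) : G) = (g' : G)⁻¹ * (c : G) * (g' : G) := by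
      rw [cj_coe]; simp
    rw [e2] at hp
    show (g' : G) * (p : G) * t * ((g' : G) * (p : G))⁻¹ = (g' : G) * t * (g' : G)⁻¹ * (c : G)
    calc (g' : G) * (p : G) * t * ((g' : G) * (p : G))⁻¹
        = (g' : G) * ((p : G) * t * (p : G)⁻¹) * (g' : G)⁻¹ := by group
      _ = (g' : G) * (t * ((g' : G)⁻¹ * (c : G) * (g' : G))) * (g' : G)⁻¹ := by rw [hp]
      _ = (g' : G) * t * (g' : G)⁻¹ * (c : G) := by group

theorem conj_tR {r : P} (hr : r ∈ R) : IsConj t ((tP S * r : P) : G) := by
  obtain ⟨g, hg⟩ := L.trans_tR hr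
  exact isConj_iff.2 ⟨g, congrArg Subtype.val hg⟩

theorem cj_R (g : normalizer (P : Set G)) {r : P} (hr : r ∈ R) : cj g r ∈ R := by
  have ht : cj g (tP S) ∉ R := fun h => L.not_conj h (isConj_iff.2 ⟨g, rfl⟩)
  have htr : cj g (tP S * r) ∉ R := fun h =>
    L.not_conj h ((L.conj_tR hr).trans (isConj_iff.2 ⟨g, rfl⟩))
  have h := L.out_mul (fun h => ht (inv_mem_iff.1 h)) htr
  rwa [map_mul, inv_mul_cancel_left] at h

omit L in
/-- The image of `R` in the abelianisation. -/
def vec (R : Subgroup P) : Subgroup (Abelianization P) := R.map Abelianization.of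

theorem of_mem {x : P} : Abelianization.of x ∈ vec R ↔ x ∈ R := by
  refine ⟨?_, fun h => ⟨x, h, rfl⟩⟩
  rintro ⟨r, hr, hre⟩
  have hc : r⁻¹ * x ∈ commutator P := by
    rw [← of_eq_one_iff, map_mul, map_inv, hre, inv_mul_cancel]
  have := R.mul_mem hr (L.comm_le hc)
  rwa [mul_inv_cancel_left] at this

omit L in
/-- The action on the abelianisation. -/
noncomputable def ab (g : normalizer (P : Set G)) : MulAut (Abelianization P) := (cj g).abelianizationCongr

omit L in
theorem ab_of (g : normalizer (P : Set G)) (x : P) : ab g (Abelianization.of x) = Abelianization.of (cj g x) :=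
  rfl

omit L in
theorem ab_mul (g h : normalizer (P : Set G)) (v : Abelianization P) : ab (g * h) v = ab g (ab h v) := by
  obtain ⟨x, rfl⟩ := of_surjective v
  rw [ab_of, ab_of, ab_of]
  refine congrArg Abelianization.of (Subtype.ext ?_)
  rw [cj_coe, cj_coe, cj_coe, Subgroup.coe_mul]
  group

omit L in
theorem ab_one (v : Abelianization P) : ab (1 : normalizer (P : Set G)) v = v := by
  obtain ⟨x, rfl⟩ := of_surjective v
  rw [ab_of]
  refine congrArg Abelianization.of (Subtype.ext ?_)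
  rw [cj_coe]
  simp

theorem ab_vec (g : normalizer (P : Set G)) {v : Abelianization P} (hv : v ∈ vec R) : ab g v ∈ vec R := by
  obtain ⟨x, hx, rfl⟩ := hv
  exact ⟨cj g x, L.cj_R g hx, rfl⟩

/-- The linear part. -/
noncomputable def act : normalizer (P : Set G) →* MulAut (vec R) where
  toFun g :=
    { toFun := fun v => ⟨ab g v.1, L.ab_vec g v.2⟩
      invFun := fun v => ⟨ab g⁻¹ v.1, L.ab_vec g⁻¹ v.2⟩
      left_inv := fun v => Subtype.ext (by
        show ab g⁻¹ (ab g v.1) = v.1
        rw [← ab_mul, inv_mul_cancel, ab_one])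
      right_inv := fun v => Subtype.ext (by
        show ab g (ab g⁻¹ v.1) = v.1
        rw [← ab_mul, mul_inv_cancel, ab_one])
      map_mul' := fun v w => Subtype.ext (map_mul (ab g) v.1 w.1) }
  map_one' := MulEquiv.ext fun v => Subtype.ext (ab_one v.1)
  map_mul' g h := MulEquiv.ext fun v => Subtype.ext (ab_mul g h v.1)

theorem act_of (g : normalizer (P : Set G)) {x : P} (hx : x ∈ R) :
    ((L.act g ⟨Abelianization.of x, L.of_mem.2 hx⟩ : vec R) : Abelianization P) =
      Abelianization.of (cj g x) := rfl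

/-- The translation part. -/
noncomputable def cV (g : normalizer (P : Set G)) : vec R :=
  ⟨Abelianization.of ((tP S)⁻¹ * cj g (tP S)),
    L.of_mem.2 (L.coset (isConj_iff.2 ⟨g, rfl⟩))⟩

theorem cV_mul (g h : normalizer (P : Set G)) : L.cV (g * h) = L.cV g * L.act g (L.cV h) := by
  refine Subtype.ext ?_
  show Abelianization.of ((tP S)⁻¹ * cj (g * h) (tP S)) =
    Abelianization.of ((tP S)⁻¹ * cj g (tP S)) * Abelianization.of (cj g ((tP S)⁻¹ * cj h (tP S)))
  rw [← map_mul]
  refine congrArg Abelianization.of (Subtype.ext ?_)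
  simp only [Subgroup.coe_mul, Subgroup.coe_inv, cj_coe]
  group

theorem cV_eq_one {g : normalizer (P : Set G)} :
    L.cV g = 1 ↔ (tP S)⁻¹ * cj g (tP S) ∈ commutator P := by
  rw [← of_eq_one_iff]
  exact ⟨fun h => congrArg Subtype.val h, fun h => Subtype.ext h⟩

theorem stab {g : normalizer (P : Set G)} (hg : L.cV g = 1) :
    ∃ p : P, ((p : G)⁻¹ * (g : G)) * t = t * ((p : G)⁻¹ * (g : G)) := by
  obtain ⟨p, hp⟩ := L.conj_comm (L.cV_eq_one.1 hg)
  refine ⟨p, ?_⟩
  have e : t * (((tP S)⁻¹ * cj g (tP S) : P) : G) = (g : G) * t * (g : G)⁻¹ := by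
    rw [Subgroup.coe_mul, Subgroup.coe_inv, cj_coe]
    exact mul_inv_cancel_left _ _
  rw [e] at hp
  calc ((p : G)⁻¹ * (g : G)) * t = (p : G)⁻¹ * ((g : G) * t * (g : G)⁻¹) * (g : G) := by group
    _ = (p : G)⁻¹ * ((p : G) * t * (p : G)⁻¹) * (g : G) := by rw [hp]
    _ = t * ((p : G)⁻¹ * (g : G)) := by group

theorem cV_fix {g : normalizer (P : Set G)} (hg : (g : G) * t = t * (g : G)) : L.cV g = 1 := by
  refine L.cV_eq_one.2 ?_
  have : cj g (tP S) = tP S := Subtype.ext (by
    rw [cj_coe]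
    show (g : G) * t * (g : G)⁻¹ = t
    rw [hg, mul_inv_cancel_right])
  rw [this, inv_mul_cancel]
  exact one_mem _

theorem act_P {g : normalizer (P : Set G)} (hg : (g : G) ∈ P) : L.act g = 1 := by
  refine MulEquiv.ext fun v => Subtype.ext ?_
  show ab g v.1 = v.1
  obtain ⟨x, hx⟩ := of_surjective v.1
  rw [← hx, ab_of, show cj g x = ⟨(g : G), hg⟩ * x * (⟨(g : G), hg⟩ : P)⁻¹ from Subtype.ext rfl, map_mul,
    map_mul, map_inv, mul_comm (Abelianization.of _), mul_inv_cancel_right]

theorem cV_P {g : normalizer (P : Set G)} (hg : (g : G) ∈ P) : L.cV g = 1 := by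
  rw [L.cV_eq_one, ← of_eq_one_iff, map_mul, ← ab_of]
  have h : ab g (Abelianization.of (tP S)) = Abelianization.of (tP S) := by
    rw [ab_of, show cj g (tP S) = ⟨(g : G), hg⟩ * tP S * (⟨(g : G), hg⟩ : P)⁻¹ from Subtype.ext rfl,
      map_mul, map_mul, map_inv, mul_comm (Abelianization.of _), mul_inv_cancel_right]
  rw [h, map_inv, inv_mul_cancel]

theorem sq_vec (v : vec R) : v * v = 1 := by
  obtain ⟨x, hx, e⟩ := v.2
  refine Subtype.ext ?_
  rw [Subgroup.coe_mul, ← e, ← map_mul]
  exact of_eq_one_iff.2 (L.sq x hx)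

theorem card_vec : Nat.card (vec R) = 2 ^ n := by
  have h := Subgroup.relIndex_ker R (Abelianization.of : P →* Abelianization P)
  rw [show (Abelianization.of : P →* Abelianization P).ker = commutator P from
    Subgroup.ext fun x => of_eq_one_iff, L.rel] at h
  rw [h]
  rfl

theorem cV_surjective : Function.Surjective L.cV := by
  rintro ⟨_, r, hr, rfl⟩
  obtain ⟨g, hg⟩ := L.trans_tR hr
  refine ⟨g, Subtype.ext ?_⟩
  show Abelianization.of ((tP S)⁻¹ * cj g (tP S)) = _
  rw [hg, inv_mul_cancel_left]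

theorem act_k' (i : ℕ) {x : P} (hx : x ∈ R) :
    (L.act (⟨k', S.k'_mem⟩ ^ i) ⟨Abelianization.of x, L.of_mem.2 hx⟩ : vec R) =
      (Abelianization.of ((S.auto ^ i) x) : Abelianization P) := by
  rw [L.act_of _ hx]
  refine congrArg Abelianization.of (Subtype.ext ?_)
  rw [cj_coe, S.auto_pow, SubmonoidClass.coe_pow]

theorem trans_vec (a b : vec R) (ha : a ≠ 1) (hb : b ≠ 1) :
    ∃ i : ℕ, L.act (⟨k', S.k'_mem⟩ ^ i) a = b := by
  obtain ⟨_, x, hx, rfl⟩ := a
  obtain ⟨_, y, hy, rfl⟩ := b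
  have hxc : x ∉ commutator P := fun h => ha (Subtype.ext (of_eq_one_iff.2 h))
  have hyc : y ∉ commutator P := fun h => hb (Subtype.ext (of_eq_one_iff.2 h))
  obtain ⟨i, hi⟩ := L.trans x hx hxc y hy hyc
  refine ⟨i, Subtype.ext ?_⟩
  rw [L.act_k' i hx]
  have := of_eq_one_iff.2 hi
  rwa [map_mul, map_inv, inv_mul_eq_one] at this

theorem act_eq_one_of_centralises {m : normalizer (P : Set G)} (hmt : (m : G) * t = t * (m : G))
    (hT : ∀ x ∈ E ⊔ zpowers t, (m : G) * x * (m : G)⁻¹ = x) : L.act m = 1 := by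
  obtain ⟨j, hodd, h2⟩ := S.split m.2 hmt
  set o := orderOf ((m : G) ^ 2 ^ j) with ho
  have h1 : L.act (m ^ 2 ^ j) = 1 := by
    refine MulEquiv.ext fun v => Subtype.ext ?_
    show ab (m ^ 2 ^ j) v.1 = v.1
    obtain ⟨x, hx⟩ := of_surjective v.1
    rw [← hx, ab_of]
    refine congrArg Abelianization.of (Subtype.ext ?_)
    rw [cj_coe, SubmonoidClass.coe_pow]
    refine S.centralises hodd ((normalizer (P : Set G)).pow_mem m.2 _) (fun y hy => ?_) x.2
    have hc : Commute (m : G) y := mul_inv_eq_iff_eq_mul.1 (hT y hy)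
    rw [(hc.pow_left _).eq, mul_inv_cancel_right]
  have h3 : L.act (m ^ o) = 1 := L.act_P (by rw [SubmonoidClass.coe_pow]; exact S.le h2)
  rw [map_pow] at h1 h3
  exact orderOf_eq_one_iff.1 (Nat.eq_one_of_dvd_coprimes
    (Nat.Coprime.pow_left j (Nat.coprime_two_left.2 hodd))
    (orderOf_dvd_of_pow_eq_one h1) (orderOf_dvd_of_pow_eq_one h3))

theorem odd_act {m : normalizer (P : Set G)} (hmt : (m : G) * t = t * (m : G)) :
    Odd (orderOf (L.act m)) := by
  obtain ⟨j, hodd, h2⟩ := S.split m.2 hmt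
  have h3 : L.act (m ^ orderOf ((m : G) ^ 2 ^ j)) = 1 :=
    L.act_P (by rw [SubmonoidClass.coe_pow]; exact S.le h2)
  rw [map_pow] at h3
  exact hodd.of_dvd_nat (orderOf_dvd_of_pow_eq_one h3)

/-- Elements of the kernel fixing `t` centralise `T`. -/
theorem ker_centralises {m : normalizer (P : Set G)} (hmt : (m : G) * t = t * (m : G))
    (hm : L.act m = 1) {x : G} (hx : x ∈ E ⊔ zpowers t) : (m : G) * x * (m : G)⁻¹ = x := by
  haveI : Fact (Nat.Prime 2) := ⟨Nat.prime_two⟩
  obtain ⟨j, hodd, h2⟩ := S.split m.2 hmt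
  let y : normalizer (P : Set G) := m ^ 2 ^ j
  have hy : L.act y = 1 := by rw [map_pow, hm, one_pow]
  have hyt : (y : G) * t = t * (y : G) := by
    rw [SubmonoidClass.coe_pow]; exact Commute.pow_left hmt _
  have hle : zpowers (y : G) ≤ centralizer (P : Set G) := by
    refine Coprime.le_centralizer_of_forall_mem_frattini (zpowers_le.2 y.2) ?_ ?_
    · obtain ⟨a, ha⟩ := IsPGroup.iff_card.1 (S.pgroup.to_subgroup (frattini P))
      rw [ha, Nat.card_zpowers, SubmonoidClass.coe_pow]
      exact Nat.Coprime.pow_right _ (Nat.coprime_two_right.2 hodd)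
    · rintro a ⟨i, rfl⟩ z hz
      let yi : normalizer (P : Set G) := y ^ i
      have hyi : L.act yi = 1 := by rw [map_zpow, hy, one_zpow]
      have hyit : (yi : G) * t = t * (yi : G) := by
        show ((y ^ i : normalizer (P : Set G)) : G) * t = t * _
        rw [SubgroupClass.coe_zpow]; exact Commute.zpow_left hyt i
      let zP : P := ⟨z, hz⟩
      have hfix : ∀ w : P, Abelianization.of (cj yi w) = Abelianization.of w := by
        have hR : ∀ w : P, w ∈ R → Abelianization.of (cj yi w) = Abelianization.of w := fun w hw => by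
          rw [← L.act_of yi hw, hyi]; rfl
        have ht : cj yi (tP S) = tP S := Subtype.ext (by
          rw [cj_coe]
          show (yi : G) * t * (yi : G)⁻¹ = t
          rw [hyit, mul_inv_cancel_right])
        intro w
        by_cases hw : w ∈ R
        · exact hR w hw
        · have h := hR _ (L.out_mul (fun h => L.t_not (inv_mem_iff.1 h)) hw : (tP S)⁻¹ * w ∈ R)
          rw [map_mul, map_inv, ht, map_mul, map_mul] at h
          exact mul_left_cancel h
      have hmem : cj yi zP * zP⁻¹ ∈ commutator P := by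
        rw [← of_eq_one_iff, map_mul, map_inv, hfix, mul_inv_cancel]
      refine ⟨cj yi zP * zP⁻¹, PGroup.commutator_le_frattini S.pgroup hmem, ?_⟩
      show (((cj yi zP * zP⁻¹ : P)) : G) = (y : G) ^ i * z * ((y : G) ^ i)⁻¹ * z⁻¹
      rw [Subgroup.coe_mul, Subgroup.coe_inv, cj_coe]
      show ((y ^ i : normalizer (P : Set G)) : G) * z * _ * _ = _
      rw [SubgroupClass.coe_zpow]
  set o := orderOf ((m : G) ^ 2 ^ j) with ho
  have h1 : Commute ((m : G) ^ 2 ^ j) x := by
    have h := hle (mem_zpowers (y : G)) x (S.le hx)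
    rw [SubmonoidClass.coe_pow] at h
    exact h.symm
  have h3 : Commute ((m : G) ^ o) x := A.T_comm h2 hx
  have hcm : Commute (m : G) x := by
    have hcop : Nat.Coprime (2 ^ j) o := Nat.Coprime.pow_left j (Nat.coprime_two_left.2 hodd)
    have hb := Nat.gcd_eq_gcd_ab (2 ^ j) o
    rw [hcop.gcd_eq_one, Nat.cast_one] at hb
    rw [← zpow_one (m : G), hb, zpow_add, zpow_mul, zpow_natCast, zpow_mul, zpow_natCast]
    exact (h1.zpow_left _).mul_left (h3.zpow_left _)
  rw [hcm.eq, mul_inv_cancel_right]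

end Layer

end Elem

end Cfsg.Agent.TwoTimesPSL
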