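import Cfsg.Agent.Lib.TwoTimesPSL.Transfer
import Cfsg.Agent.Lib.TwoFusion.Transfer

/-!
# The dihedral situation is impossible

`Dih m t z D`: `⟨t⟩ × D` is a Sylow 2-subgroup of `C(t)`, `D` has `z` as its only central involution, which
is a square, all involutions of `D` are conjugate to `z` in `C(t)`, their number is one modulo four, `D` is
generated by them and every square root of `z` in `D` is inverted by one of them.

* `Dih.absurd`
-/

set_option autoImplicit false
set_option linter.unusedSectionVars false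
set_option linter.style.haveILetI false

open Subgroup

namespace Cfsg.Agent.TwoTimesPSL

variable {G : Type*} [Group G] [Finite G]

/-- A 2-element of `C(t)` has a conjugate under `C(t)` in a subgroup of maximal 2-power order. -/
theorem conj_into {m : ℕ} {t : G} {T : Subgroup G} (hT : IsPGroup 2 T) (hTc : ∀ x ∈ T, x * t = t * x)
    (hcard : Nat.card T = 2 ^ m)
    (hmax : ∀ X : Subgroup G, IsPGroup 2 X → (∀ x ∈ X, x * t = t * x) → Nat.card X ≤ 2 ^ m)
    {x : G} (hx : IsPGroup 2 (zpowers x)) (hxt : x * t = t * x) :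
    ∃ g : G, g * t = t * g ∧ g * x * g⁻¹ ∈ T := by
  haveI : Fact (Nat.Prime 2) := ⟨Nat.prime_two⟩
  let C := centralizer ({t} : Set G)
  have hle : T ≤ C := fun y hy => mem_centralizer_singleton_iff.2 (hTc y hy)
  obtain ⟨S0, hS0⟩ := IsPGroup.exists_le_sylow ((hx.comap_subtype (K := C)))
  obtain ⟨S1, hS1⟩ := IsPGroup.exists_le_sylow (hT.comap_subtype (K := C))
  have hS1eq : (S1 : Subgroup C) = T.subgroupOf C := by
    refine (Subgroup.eq_of_le_of_card_ge hS1 ?_).symm
    rw [show Nat.card (T.comap C.subtype : Subgroup C) = 2 ^ m from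
      (Nat.card_congr (Subgroup.subgroupOfEquivOfLe hle).toEquiv).trans hcard,
      Nat.card_congr ((S1 : Subgroup C).equivMapOfInjective C.subtype Subtype.val_injective).toEquiv]
    refine hmax _ (S1.2.map C.subtype) ?_
    rintro _ ⟨y, -, rfl⟩
    exact mem_centralizer_singleton_iff.1 y.2
  obtain ⟨g, hg⟩ := MulAction.exists_smul_eq C S0 S1
  let xc : C := ⟨x, mem_centralizer_singleton_iff.2 hxt⟩
  have hxS : xc ∈ (S0 : Subgroup C) := hS0 (mem_zpowers x)
  have h1 : g * xc * g⁻¹ ∈ (S1 : Subgroup C) := by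
    rw [← hg, Sylow.coe_subgroup_smul, Subgroup.mem_smul_pointwise_iff_exists]
    exact ⟨xc, hxS, rfl⟩
  rw [hS1eq] at h1
  exact ⟨g, mem_centralizer_singleton_iff.1 g.2, h1⟩

theorem zpowers_isPGroup_of_sq {x : G} (hx : x * x = 1) : IsPGroup 2 (zpowers x) := fun y => ⟨1, by
  obtain ⟨i, hi⟩ := y.2
  refine Subtype.ext ?_
  rw [pow_one, SubmonoidClass.coe_pow, ← hi, pow_two]
  show x ^ i * x ^ i = 1
  rw [← (Commute.refl x).mul_zpow, hx, one_zpow]⟩

/-- The dihedral situation. -/
structure Dih (m : ℕ) (t z : G) (D : Subgroup G) : Prop where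
  nit : NoIndexTwo G
  sq_t : t * t = 1
  notD : t ∉ D
  commD : ∀ d ∈ D, d * t = t * d
  z_mem : z ∈ D
  z_ne : z ≠ 1
  sq_z : z * z = 1
  z_comm : ∀ d ∈ D, d * z = z * d
  z_sq : ∃ c ∈ D, c * c = z
  cen : ∀ x ∈ D, x * x = 1 → (∀ d ∈ D, x * d = d * x) → x = 1 ∨ x = z
  cardT : Nat.card (D ⊔ zpowers t : Subgroup G) = 2 ^ m
  maxT : ∀ X : Subgroup G, IsPGroup 2 X → (∀ x ∈ X, x * t = t * x) → Nat.card X ≤ 2 ^ m
  conjD : ∀ d ∈ D, d * d = 1 → d ≠ 1 → ∃ g : G, g * t = t * g ∧ g * z * g⁻¹ = d
  count : Nat.card {d : G // d ∈ D ∧ d * d = 1 ∧ d ≠ 1} % 4 = 1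
  inverting : ∀ x ∈ D, x * x = z → ∃ b ∈ D, b * b = 1 ∧ b * x * b = x⁻¹
  gen : D ≤ closure {d | d ∈ D ∧ d * d = 1}

namespace Dih

variable {m : ℕ} {t z : G} {D : Subgroup G} (A : Dih m t z D)
include A

theorem t_ne : t ≠ 1 := fun h => A.notD (h ▸ D.one_mem)

theorem t_inv : t⁻¹ = t := inv_eq_of_mul_eq_one_right A.sq_t

theorem z_inv : z⁻¹ = z := inv_eq_of_mul_eq_one_right A.sq_z

theorem mem_T {x : G} : x ∈ D ⊔ zpowers t ↔ x ∈ D ∨ x * t ∈ D := by
  constructor
  · intro hx
    let K : Subgroup G :=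
      { carrier := {x | x ∈ D ∨ x * t ∈ D}
        one_mem' := Or.inl D.one_mem
        mul_mem' := by
          rintro x y (hx | hx) (hy | hy)
          · exact Or.inl (D.mul_mem hx hy)
          · exact Or.inr (by rw [mul_assoc]; exact D.mul_mem hx hy)
          · refine Or.inr ?_
            rw [mul_assoc, A.commD y hy, ← mul_assoc]
            exact D.mul_mem hx hy
          · refine Or.inl ?_
            have h := D.mul_mem hx hy
            rwa [show x * t * (y * t) = x * (t * (y * t)) by group,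
              ← A.commD _ hy, mul_assoc y t t, A.sq_t, mul_one] at h
        inv_mem' := by
          rintro x (hx | hx)
          · exact Or.inl (D.inv_mem hx)
          · refine Or.inr ?_
            have h := D.inv_mem hx
            rw [mul_inv_rev, A.t_inv] at h
            have hc := A.commD _ hx
            have hxt : x * t = t * x := by
              calc x * t = (x * t) * (t * t) := by rw [A.sq_t, mul_one]
                _ = (x * t * t) * t := by group
                _ = (t * (x * t)) * t := by rw [hc]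
                _ = t * x := by rw [mul_assoc, mul_assoc x t t, A.sq_t, mul_one]
            have hxt' : x⁻¹ * t = t * x⁻¹ := (Commute.inv_left hxt : Commute x⁻¹ t).eq
            rwa [hxt'] }
    exact (sup_le (fun d hd => Or.inl hd) (zpowers_le.2 (Or.inr (by rw [A.sq_t]; exact D.one_mem))) :
      D ⊔ zpowers t ≤ K) hx
  · rintro (hx | hx)
    · exact mem_sup_left hx
    · rw [show x = x * t * t by rw [mul_assoc, A.sq_t, mul_one]]
      exact mul_mem (mem_sup_left hx) (mem_sup_right (mem_zpowers t))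

theorem t_mem_T : t ∈ D ⊔ zpowers t := mem_sup_right (mem_zpowers t)

theorem mem_T' {x : G} (hx : x ∈ D ⊔ zpowers t) : ∃ d ∈ D, x = d ∨ x = d * t := by
  rcases A.mem_T.1 hx with h | h
  · exact ⟨x, h, Or.inl rfl⟩
  · exact ⟨x * t, h, Or.inr (by rw [mul_assoc, A.sq_t, mul_one])⟩

theorem T_cent {x : G} (hx : x ∈ D ⊔ zpowers t) : x * t = t * x := by
  obtain ⟨d, hd, h | h⟩ := A.mem_T' hx <;> rw [h]
  · exact A.commD d hd
  · rw [mul_assoc, A.sq_t, mul_one, ← mul_assoc, ← A.commD d hd, mul_assoc, A.sq_t, mul_one]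

theorem sq_mem {x : G} (hx : x ∈ D ⊔ zpowers t) : x * x ∈ D := by
  obtain ⟨d, hd, h | h⟩ := A.mem_T' hx <;> rw [h]
  · exact D.mul_mem hd hd
  · rw [mul_assoc, ← mul_assoc t d t, ← A.commD d hd, mul_assoc d t t, A.sq_t, mul_one]
    exact D.mul_mem hd hd

theorem T_pgroup : IsPGroup 2 (D ⊔ zpowers t : Subgroup G) := IsPGroup.of_card A.cardT

theorem inter {X : Subgroup G} (hX : IsPGroup 2 X) (hTX : D ⊔ zpowers t ≤ X) {x : G} (hx : x ∈ X)
    (hxt : x * t = t * x) : x ∈ D ⊔ zpowers t := by
  let Y := X ⊓ centralizer ({t} : Set G)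
  have hle : D ⊔ zpowers t ≤ Y :=
    le_inf hTX fun y hy => mem_centralizer_singleton_iff.2 (A.T_cent hy)
  have hY : Nat.card Y ≤ 2 ^ m :=
    A.maxT Y (hX.to_le inf_le_left) fun y hy => mem_centralizer_singleton_iff.1 hy.2
  have heq : (D ⊔ zpowers t : Subgroup G) = Y :=
    Subgroup.eq_of_le_of_card_ge hle (by rw [A.cardT]; exact hY)
  rw [heq]
  exact ⟨hx, mem_centralizer_singleton_iff.2 hxt⟩

theorem tz_sq : (t * z) * (t * z) = 1 := by
  rw [mul_assoc, ← mul_assoc z t z, A.commD z A.z_mem, mul_assoc t z z, A.sq_z, mul_one, A.sq_t]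

/-- Central involutions of `T`. -/
theorem central_T {x : G} (hx : x ∈ D ⊔ zpowers t) (h2 : x * x = 1) (hx1 : x ≠ 1)
    (hc : ∀ d ∈ D, x * d = d * x) : x = t ∨ x = z ∨ x = t * z := by
  obtain ⟨d, hd, h | h⟩ := A.mem_T' hx
  · subst h
    rcases A.cen x hd h2 hc with e | e
    · exact absurd e hx1
    · exact Or.inr (Or.inl e)
  · have hd2 : d * d = 1 := by
      rw [h, mul_assoc, ← mul_assoc t d t, ← A.commD d hd, mul_assoc d t t, A.sq_t, mul_one] at h2
      exact h2
    have hdc : ∀ e ∈ D, d * e = e * d := fun e he => by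
      have h' := hc e he
      rw [h, mul_assoc, ← A.commD e he, ← mul_assoc, ← mul_assoc] at h'
      exact mul_right_cancel h'
    rcases A.cen d hd hd2 hdc with e | e
    · exact Or.inl (by rw [h, e, one_mul])
    · exact Or.inr (Or.inr (by rw [h, e, A.commD z A.z_mem]))

/-- An element normalising `T` fixes `z`. -/
theorem z_fixed {g : G} (hg : ∀ x ∈ D ⊔ zpowers t, g * x * g⁻¹ ∈ D ⊔ zpowers t)
    (hg' : ∀ x ∈ D ⊔ zpowers t, g⁻¹ * x * g ∈ D ⊔ zpowers t) : g * z * g⁻¹ = z := by
  obtain ⟨c, hc, hcc⟩ := A.z_sq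
  have hgz : g * z * g⁻¹ = (g * c * g⁻¹) * (g * c * g⁻¹) := by rw [← hcc]; group
  have hmem : g * z * g⁻¹ ∈ D := hgz ▸ A.sq_mem (hg c (mem_sup_left hc))
  refine (A.cen _ hmem (by rw [conj_mul, A.sq_z, mul_one, mul_inv_cancel]) fun d hd => ?_).resolve_left
    (fun h => A.z_ne (conj_eq_one_iff.1 h))
  have h1 := hg' d (mem_sup_left hd)
  obtain ⟨e, he, hde⟩ := A.mem_T' h1
  have hcomm : (g⁻¹ * d * g) * z = z * (g⁻¹ * d * g) := by
    rcases hde with h | h <;> rw [h]
    · exact A.z_comm e he
    · rw [mul_assoc, ← A.commD z A.z_mem, ← mul_assoc, A.z_comm e he, mul_assoc]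
  calc g * z * g⁻¹ * d = g * (z * (g⁻¹ * d * g)) * g⁻¹ := by group
    _ = g * ((g⁻¹ * d * g) * z) * g⁻¹ := by rw [hcomm]
    _ = d * (g * z * g⁻¹) := by group

theorem conj_td {d : G} (hd : d ∈ D) (h2 : d * d = 1) (hd1 : d ≠ 1) : IsConj (t * z) (d * t) := by
  obtain ⟨g, hgt, hgz⟩ := A.conjD d hd h2 hd1
  refine isConj_iff.2 ⟨g, ?_⟩
  calc g * (t * z) * g⁻¹ = (g * t) * g⁻¹ * (g * z * g⁻¹) := by group
    _ = d * t := by rw [hgt, mul_inv_cancel_right, hgz, A.commD d hd]

theorem conj_d {d : G} (hd : d ∈ D) (h2 : d * d = 1) (hd1 : d ≠ 1) : IsConj z d := by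
  obtain ⟨g, -, hgz⟩ := A.conjD d hd h2 hd1
  exact isConj_iff.2 ⟨g, hgz⟩

/-- `T` is not a Sylow subgroup of `G`. -/
theorem not_sylow (S : Sylow 2 G) (hS : (S : Subgroup G) = D ⊔ zpowers t) : False := by
  haveI : Fact (Nat.Prime 2) := ⟨Nat.prime_two⟩
  have hcent : ∀ x ∈ ({t, z, t * z} : Set G), x ∈ centralizer ((S : Subgroup G) : Set G) := by
    intro x hx y hy
    rw [SetLike.mem_coe, hS] at hy
    have hyt := A.T_cent hy
    have hyz : y * z = z * y := by
      obtain ⟨d, hd, h | h⟩ := A.mem_T' hy <;> rw [h]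
      · exact A.z_comm d hd
      · rw [mul_assoc, ← A.commD z A.z_mem, ← mul_assoc, A.z_comm d hd, mul_assoc]
    rcases hx with rfl | rfl | rfl
    · exact hyt
    · exact hyz
    · rw [← mul_assoc, hyt, mul_assoc, hyz, mul_assoc]
  -- `t` is not fused to `z` or `t z`
  have hno : ∀ u ∈ ({z, t * z} : Set G), ¬ IsConj t u := by
    intro u hu hc
    obtain ⟨g, hg⟩ := isConj_iff.1 hc
    obtain ⟨n, hn, hne⟩ := S.conj_eq_normalizer_conj_of_mem_centralizer t g⁻¹ (hcent t (Or.inl rfl))
      (by rw [inv_inv, hg]; exact hcent u (Or.inr hu))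
    rw [inv_inv, hg] at hne
    have hfix : ∀ k ∈ normalizer ((S : Subgroup G) : Set G), k * z * k⁻¹ = z := by
      intro k hk
      refine A.z_fixed (fun x hx => ?_) (fun x hx => ?_)
      · have := (Subgroup.mem_normalizer_iff.1 hk x).1 (by rw [hS]; exact hx)
        rwa [hS] at this
      · have := (Subgroup.mem_normalizer_iff.1 ((normalizer _).inv_mem hk) x).1 (by rw [hS]; exact hx)
        rw [hS, inv_inv] at this
        exact this
    have hnz := hfix n hn
    rcases hu with rfl | rfl
    · apply A.notD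
      have ht : t = n * u * n⁻¹ := by rw [hne]; group
      rw [ht, hnz]; exact A.z_mem
    · obtain ⟨j, o, ho, he⟩ := Nat.exists_eq_two_pow_mul_odd (n := orderOf n) (orderOf_pos n).ne'
      have hz' : Commute n⁻¹ z := by
        have h : n * z = z * n := mul_inv_eq_iff_eq_mul.1 hnz
        exact Commute.inv_left h
      have hpow : ∀ i : ℕ, (n⁻¹) ^ i * t * ((n⁻¹) ^ i)⁻¹ = t * z ^ i := by
        intro i
        induction i with
        | zero => simp
        | succ i ih =>
          calc (n⁻¹) ^ (i + 1) * t * ((n⁻¹) ^ (i + 1))⁻¹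
              = n⁻¹ * ((n⁻¹) ^ i * t * ((n⁻¹) ^ i)⁻¹) * n⁻¹⁻¹ := by rw [pow_succ']; group
            _ = (n⁻¹ * t * n) * (n⁻¹ * z ^ i * n⁻¹⁻¹) := by rw [ih]; group
            _ = t * z ^ (i + 1) := by
              rw [← hne, (hz'.pow_right i).eq, mul_inv_cancel_right, pow_succ', mul_assoc]
      have h2 : IsPGroup 2 (zpowers ((n⁻¹) ^ o)) := by
        refine IsPGroup.of_card (n := j) ?_
        rw [Nat.card_zpowers, inv_pow, orderOf_inv, orderOf_pow' _ (by rintro rfl; simp at ho), he,
          Nat.gcd_mul_left_left, Nat.mul_div_cancel _ (Nat.pos_of_ne_zero (by rintro rfl; simp at ho))]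
      have hmem : (n⁻¹) ^ o ∈ (S : Subgroup G) := by
        have hN : (n⁻¹) ^ o ∈ normalizer ((S : Subgroup G) : Set G) :=
          (normalizer _).pow_mem ((normalizer _).inv_mem hn) o
        have hp : IsPGroup 2 ((S : Subgroup G) ⊔ zpowers ((n⁻¹) ^ o) : Subgroup G) :=
          S.2.to_sup_of_normal_left' h2 (zpowers_le.2 hN)
        rw [← S.3 hp le_sup_left]
        exact mem_sup_right (mem_zpowers _)
      rw [hS] at hmem
      have h := hpow o
      rw [A.T_cent hmem, mul_inv_cancel_right] at h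
      obtain ⟨i, rfl⟩ := ho
      rw [pow_succ, pow_mul, pow_two, A.sq_z, one_pow, one_mul, left_eq_mul] at h
      exact A.z_ne h
  obtain ⟨g, hg, -⟩ := exists_conj_extremal A.nit S D (hS ▸ le_sup_left)
    (by
      rw [hS, Subgroup.relIndex, Subgroup.index_eq_two_iff]
      refine ⟨⟨t, A.t_mem_T⟩, fun b => ?_⟩
      rw [mem_subgroupOf, mem_subgroupOf]
      obtain ⟨d, hd, h | h⟩ := A.mem_T' b.2
      · refine Or.inr ⟨h ▸ hd, fun h' => A.notD ?_⟩
        rw [Subgroup.coe_mul, h] at h'
        have := D.mul_mem (D.inv_mem hd) h'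
        rwa [inv_mul_cancel_left] at this
      · refine Or.inl ⟨?_, fun h' => A.notD ?_⟩
        · rw [Subgroup.coe_mul, h]
          show d * t * t ∈ D
          rwa [mul_assoc, A.sq_t, mul_one]
        · rw [h] at h'
          have := D.mul_mem (D.inv_mem hd) h'
          rwa [inv_mul_cancel_left] at this)
    A.sq_t (D ⊔ zpowers t) A.T_pgroup (fun x hx => mem_centralizer_singleton_iff.2 (A.T_cent hx)) A.t_mem_T
  refine hno z (Or.inl rfl) (IsConj.trans (isConj_iff.2 ⟨g, rfl⟩) (A.conj_d hg ?_ ?_).symm)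
  · rw [conj_mul, A.sq_t, mul_one, mul_inv_cancel]
  · exact fun h => A.t_ne (conj_eq_one_iff.1 h)

/-- The dihedral situation does not occur. -/
theorem absurd : False := by
  classical
  haveI : Fact (Nat.Prime 2) := ⟨Nat.prime_two⟩
  set T : Subgroup G := D ⊔ zpowers t with hTdef
  obtain ⟨S, hTS⟩ := A.T_pgroup.exists_le_sylow
  rcases eq_or_lt_of_le hTS with heq | hlt
  · exact A.not_sylow S heq.symm
  -- an element moving `t` to `t z`
  haveI := S.2.isNilpotent
  have hne : T.subgroupOf (S : Subgroup G) < ⊤ := by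
    refine lt_top_iff_ne_top.2 fun h => hlt.ne (le_antisymm hTS fun x hx => ?_)
    exact mem_subgroupOf.1 (h ▸ mem_top (⟨x, hx⟩ : (S : Subgroup G)))
  obtain ⟨⟨s, hsS⟩, hs, hsT'⟩ := SetLike.exists_of_lt (Group.normalizerCondition_of_isNilpotent _ hne)
  have hsT : s ∉ T := fun h => hsT' (mem_subgroupOf.2 h)
  have hsN : ∀ x ∈ T, s * x * s⁻¹ ∈ T := fun x hx =>
    mem_subgroupOf.1 ((Subgroup.mem_normalizer_iff.1 hs ⟨x, hTS hx⟩).1 (mem_subgroupOf.2 hx))
  have hsN' : ∀ x ∈ T, s⁻¹ * x * s ∈ T := fun x hx => by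
    have := mem_subgroupOf.1 ((Subgroup.mem_normalizer_iff.1 ((normalizer _).inv_mem hs) ⟨x, hTS hx⟩).1
      (mem_subgroupOf.2 hx))
    simpa using this
  have hsz : s * z * s⁻¹ = z := A.z_fixed hsN hsN'
  have hst : s * t * s⁻¹ ≠ t := fun h =>
    hsT (A.inter S.2 hTS hsS (mul_inv_eq_iff_eq_mul.1 h))
  have hstz : s * t * s⁻¹ = t * z := by
    rcases A.central_T (hsN t A.t_mem_T) (by rw [conj_mul, A.sq_t, mul_one, mul_inv_cancel])
      (fun h => A.t_ne (conj_eq_one_iff.1 h)) (fun d hd => by
        have h1 := A.T_cent (hsN' d (mem_sup_left hd))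
        calc s * t * s⁻¹ * d = s * (t * (s⁻¹ * d * s)) * s⁻¹ := by group
          _ = s * ((s⁻¹ * d * s) * t) * s⁻¹ := by rw [h1]
          _ = d * (s * t * s⁻¹) := by group) with h | h | h
    · exact Not.elim hst h
    · refine Not.elim A.notD ?_
      have : t = z := by
        have h' : s * t * s⁻¹ = s * z * s⁻¹ := h.trans hsz.symm
        simpa using h'
      rw [this]; exact A.z_mem
    · exact h
  have htz : IsConj t (t * z) := isConj_iff.2 ⟨s, hstz⟩
  -- `z` is central in `S`
  have hzS : ∀ x ∈ (S : Subgroup G), x * z = z * x := by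
    haveI : Nontrivial (S : Subgroup G) :=
      ⟨⟨⟨t, hTS A.t_mem_T⟩, 1, fun h => A.t_ne (congrArg Subtype.val h)⟩⟩
    haveI := S.2.center_nontrivial
    obtain ⟨b, hb⟩ := IsPGroup.iff_card.1 (S.2.to_subgroup (center (S : Subgroup G)))
    obtain ⟨w, hw⟩ := exists_prime_orderOf_dvd_card' 2 (show 2 ∣ Nat.card (center (S : Subgroup G)) by
      rw [hb]
      refine dvd_pow_self 2 fun h => ?_
      rw [h, pow_zero] at hb
      exact Not.elim (Finite.one_lt_card).ne' hb)
    let w' : G := ((w : (S : Subgroup G)) : G)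
    have hwc : ∀ x ∈ (S : Subgroup G), x * w' = w' * x := fun x hx =>
      congrArg Subtype.val (mem_center_iff.1 w.2 ⟨x, hx⟩)
    have hwo : orderOf w' = 2 := by
      show orderOf ((w : (S : Subgroup G)) : G) = 2
      rw [Subgroup.orderOf_coe, Subgroup.orderOf_coe, hw]
    have hw2 : w' * w' = 1 := by rw [← pow_two, ← hwo, pow_orderOf_eq_one]
    have hwT : w' ∈ T := A.inter S.2 hTS (w : (S : Subgroup G)).2 (hwc t (hTS A.t_mem_T)).symm
    rcases A.central_T hwT hw2 (fun h => by rw [h, orderOf_one] at hwo; omega)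
      (fun d hd => (hwc d (hTS (mem_sup_left hd))).symm) with h | h | h
    · refine Not.elim hst ?_
      rw [← h, hwc s hsS, mul_inv_cancel_right]
    · exact h ▸ hwc
    · refine Not.elim hst ?_
      have h1 : s * (t * z) * s⁻¹ = t * z := by rw [← h, hwc s hsS, mul_inv_cancel_right]
      have h2 : s * (t * z) * s⁻¹ = t := by
        calc s * (t * z) * s⁻¹ = (s * t * s⁻¹) * (s * z * s⁻¹) := by group
          _ = t := by rw [hstz, hsz, mul_assoc, A.sq_z, mul_one]
      rw [hstz, ← h1, h2]
  have hTcard := A.cardT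
  have hzt : ¬ IsConj t z := by
    intro h
    obtain ⟨g, hg⟩ := isConj_iff.1 h.symm
    have h1 : Nat.card ((S : Subgroup G).map (MulAut.conj g).toMonoidHom) ≤ 2 ^ m := by
      refine A.maxT _ (S.2.map _) ?_
      rintro _ ⟨x, hx, rfl⟩
      show g * x * g⁻¹ * t = t * (g * x * g⁻¹)
      rw [← hg]
      calc g * x * g⁻¹ * (g * z * g⁻¹) = g * (x * z) * g⁻¹ := by group
        _ = g * (z * x) * g⁻¹ := by rw [hzS x hx]
        _ = g * z * g⁻¹ * (g * x * g⁻¹) := by group
    rw [← Nat.card_congr ((S : Subgroup G).equivMapOfInjective _ (MulAut.conj g).injective).toEquiv,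
      ← hTcard] at h1
    exact hlt.ne (Subgroup.eq_of_le_of_card_ge hTS h1)
  have hclassD : ∀ d ∈ D, d * d = 1 → ¬ IsConj t d := by
    intro d hd h2 hc
    by_cases hd1 : d = 1
    · obtain ⟨g, hg⟩ := isConj_iff.1 hc
      exact A.t_ne (conj_eq_one_iff.1 (hg.trans hd1))
    · exact hzt (hc.trans (A.conj_d hd h2 hd1).symm)
  have hclassDt : ∀ d ∈ D, d * d = 1 → IsConj t (d * t) := by
    intro d hd h2
    by_cases hd1 : d = 1
    · rw [hd1, one_mul]
    · exact htz.trans (A.conj_td hd h2 hd1)
  have hdt_sq : ∀ d ∈ D, (d * t) * (d * t) = d * d := fun d hd => by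
    rw [mul_assoc, ← mul_assoc t d t, ← A.commD d hd, mul_assoc d t t, A.sq_t, mul_one]
  -- exactly one of `w`, `u w` is conjugate to `t`
  have hopp : ∀ u w : G, IsConj t u → w * w = 1 → w ≠ 1 → w ≠ u → w * u = u * w →
      (IsConj t (u * w) ↔ ¬ IsConj t w) := by
    intro u w hu hw hw1 hwu hcomm
    obtain ⟨g, hg⟩ := isConj_iff.1 hu.symm
    have hwt : (g * w * g⁻¹) * t = t * (g * w * g⁻¹) := by
      rw [← hg]
      calc g * w * g⁻¹ * (g * u * g⁻¹) = g * (w * u) * g⁻¹ := by group
        _ = g * (u * w) * g⁻¹ := by rw [hcomm]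
        _ = g * u * g⁻¹ * (g * w * g⁻¹) := by group
    obtain ⟨h, hht, hhT⟩ := conj_into A.T_pgroup (fun x hx => A.T_cent hx) A.cardT A.maxT
      (zpowers_isPGroup_of_sq (x := g * w * g⁻¹) (by rw [conj_mul, hw, mul_one, mul_inv_cancel])) hwt
    set w' := h * (g * w * g⁻¹) * h⁻¹ with hw'
    have hc1 : IsConj w w' := isConj_iff.2 ⟨h * g, by rw [hw']; group⟩
    have hc2 : IsConj (u * w) (t * w') := isConj_iff.2 ⟨h * g, by
      calc h * g * (u * w) * (h * g)⁻¹ = h * (g * u * g⁻¹) * (g * w * g⁻¹) * h⁻¹ := by group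
        _ = h * t * h⁻¹ * (h * (g * w * g⁻¹) * h⁻¹) := by rw [hg]; group
        _ = t * w' := by rw [hht, mul_inv_cancel_right, hw']⟩
    have hw'2 : w' * w' = 1 := by rw [hw', conj_mul, conj_mul, hw]; group
    have hw'1 : w' ≠ 1 := fun e => hw1 (conj_eq_one_iff.1 (conj_eq_one_iff.1 e))
    have hw't : w' ≠ t := fun e => hwu (by
      have e1 : g * w * g⁻¹ = t := by
        calc g * w * g⁻¹ = h⁻¹ * w' * h := by rw [hw']; group
          _ = h⁻¹ * (t * h) := by rw [e]; group
          _ = t := by rw [← hht, inv_mul_cancel_left]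
      rw [← hg] at e1
      simpa using e1)
    rcases A.mem_T' hhT with ⟨d, hd, e | e⟩
    · rw [← e] at hd
      refine iff_of_true ?_ fun h' => hclassD _ hd hw'2 (h'.trans hc1)
      exact (show IsConj t (t * w') by rw [← A.commD _ hd]; exact hclassDt _ hd hw'2).trans hc2.symm
    · have hd2 : d * d = 1 := by rw [← hdt_sq d hd, ← e]; exact hw'2
      have e2 : t * w' = d := by
        rw [show w' = d * t from e, A.commD d hd, ← mul_assoc, A.sq_t, one_mul]
      refine iff_of_false (fun h' => hclassD d hd hd2 (e2 ▸ h'.trans hc2)) fun h' => h' ?_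
      exact ((show IsConj t w' from (show w' = d * t from e) ▸ hclassDt d hd hd2).trans hc1.symm)
  -- `|t^G|` is two modulo four
  have hmod : (centralizer ({t} : Set G)).index % 4 = 2 := by
    let Ω := conjugatesOf t
    letI : MulAction G Ω :=
      { smul := fun g x => ⟨g * x.1 * g⁻¹, IsConj.trans x.2 (isConj_iff.2 ⟨g, rfl⟩)⟩
        one_smul := fun x => Subtype.ext (show (1 : G) * x.1 * 1⁻¹ = x.1 by group)
        mul_smul := fun g h x =>
          Subtype.ext (show g * h * x.1 * (g * h)⁻¹ = g * (h * x.1 * h⁻¹) * g⁻¹ by group) }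
    have hsmul : ∀ (g : G) (x : Ω), ((g • x : Ω) : G) = g * x.1 * g⁻¹ := fun _ _ => rfl
    have hmove := moved_dvd_four A.nit Ω A.sq_t
    let Y := {x : Ω // x.1 * t = t * x.1 ∧ x.1 ∉ T}
    have hYclosed : ∀ (a : T) (y : Y),
        ((a : G) • y.1 : Ω).1 * t = t * ((a : G) • y.1 : Ω).1 ∧ ((a : G) • y.1 : Ω).1 ∉ T := by
      intro a y
      refine ⟨?_, fun h => y.2.2 ?_⟩
      · rw [hsmul]
        exact (((Commute.mul_left (A.T_cent a.2) y.2.1).mul_left
          (Commute.inv_left (A.T_cent a.2))) : Commute ((a : G) * y.1.1 * (a : G)⁻¹) t).eq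
      · rw [hsmul] at h
        have := T.mul_mem (T.mul_mem (T.inv_mem a.2) h) a.2
        simpa [mul_assoc] using this
    letI : MulAction T Y :=
      { smul := fun a y => ⟨(a : G) • y.1, hYclosed a y⟩
        one_smul := fun y => Subtype.ext (one_smul G y.1)
        mul_smul := fun a b y => Subtype.ext (mul_smul (a : G) (b : G) y.1) }
    have hY4 : 4 ∣ Nat.card Y := by
      rw [Nat.card_congr (MulAction.selfEquivSigmaOrbits T Y)]
      haveI := Fintype.ofFinite (MulAction.orbitRel.Quotient T Y)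
      rw [Nat.card_sigma]
      refine Finset.dvd_sum fun q _ => ?_
      rw [Nat.card_coe_set_eq, ← MulAction.index_stabilizer]
      set y := q.out with hy
      set K := MulAction.stabilizer T y
      obtain ⟨b, hb⟩ : ∃ b, K.index = 2 ^ b := by
        obtain ⟨c, hc⟩ := (Nat.dvd_prime_pow Nat.prime_two).1 (A.cardT ▸ K.index_dvd_card)
        exact ⟨c, hc.2⟩
      by_cases hb2 : 2 ≤ b
      · rw [hb]; exact dvd_trans (by norm_num : 4 ∣ 2 ^ 2) (pow_dvd_pow 2 hb2)
      exfalso
      let M : Subgroup G := K.map T.subtype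
      set u : G := y.1.1 with hu
      have hut : u * t = t * u := y.2.1
      have huT : u ∉ T := y.2.2
      have hMu : ∀ x ∈ M, x * u = u * x := by
        rintro _ ⟨x, hx, rfl⟩
        have h1 : (x • y).1.1 = u := by rw [MulAction.mem_stabilizer_iff.1 hx]
        exact mul_inv_eq_iff_eq_mul.1 h1
      have hu2 : u * u = 1 := by
        obtain ⟨g, hg⟩ := isConj_iff.1 y.1.2
        rw [hu, ← hg, conj_mul, A.sq_t, mul_one, mul_inv_cancel]
      have hMc : ∀ x ∈ M, x * t = t * x := by
        rintro _ ⟨x, -, rfl⟩; exact A.T_cent x.2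
      have huN : u ∈ normalizer (M : Set G) := Subgroup.mem_normalizer_iff.2 fun x => by
        constructor
        · intro hx
          rw [← hMu x hx, mul_inv_cancel_right]; exact hx
        · intro hx
          have e : x = u⁻¹ * (u * x * u⁻¹) * u := by group
          rw [e, mul_assoc, hMu _ hx, inv_mul_cancel_left]
          exact hx
      let X : Subgroup G := M ⊔ zpowers u
      have hX : IsPGroup 2 X :=
        ((A.T_pgroup.to_subgroup K).map T.subtype).to_sup_of_normal_left' (zpowers_isPGroup_of_sq hu2)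
          (zpowers_le.2 huN)
      have hXc : ∀ x ∈ X, x * t = t * x := fun x hx => mem_centralizer_singleton_iff.1
        ((sup_le (fun x hx => mem_centralizer_singleton_iff.2 (hMc x hx))
          (zpowers_le.2 (mem_centralizer_singleton_iff.2 hut)) : X ≤ centralizer ({t} : Set G)) hx)
      have hXcard := A.maxT X hX hXc
      have htK : (⟨t, A.t_mem_T⟩ : T) ∈ K := by
        refine MulAction.mem_stabilizer_iff.2 (Subtype.ext (Subtype.ext ?_))
        show t * u * t⁻¹ = u
        rw [← hut, mul_inv_cancel_right]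
      have htM : t ∈ M := ⟨_, htK, rfl⟩
      have huM : u ∉ M := fun ⟨x, _, e⟩ => huT (e ▸ x.2)
      have hcardM : Nat.card M * 2 ^ b = 2 ^ m := by
        rw [← hb, ← Nat.card_congr (K.equivMapOfInjective T.subtype Subtype.val_injective).toEquiv,
          K.card_mul_index, A.cardT]
      have hMlt : Nat.card M < Nat.card X := by
        refine lt_of_not_ge fun h => huM ?_
        rw [Subgroup.eq_of_le_of_card_ge (le_sup_left : M ≤ X) h]
        exact mem_sup_right (mem_zpowers u)
      have hb1 : b = 1 := by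
        rcases Nat.lt_succ_iff.1 (not_le.1 hb2) |>.eq_or_lt with h | h
        · exact h
        · rw [Nat.lt_one_iff.1 h] at hcardM
          omega
      rw [hb1, pow_one] at hcardM
      have hXeq : Nat.card X = 2 ^ m := by
        obtain ⟨k, hk⟩ := Subgroup.card_dvd_of_le (le_sup_left : M ≤ X)
        have hk2 : 2 ≤ k := by
          rcases k with _ | _ | k
          · rw [mul_zero] at hk; exact Not.elim (Finite.card_pos (α := X)).ne' hk
          · rw [zero_add, mul_one] at hk; exact Not.elim hMlt.ne hk.symm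
          · omega
        refine le_antisymm hXcard ?_
        rw [← hcardM, hk]
        exact Nat.mul_le_mul_left _ hk2
      -- conjugate `X` onto `T`
      let C := centralizer ({t} : Set G)
      have hTC : T ≤ C := fun y hy => mem_centralizer_singleton_iff.2 (A.T_cent hy)
      have hXC : X ≤ C := fun y hy => mem_centralizer_singleton_iff.2 (hXc y hy)
      have hsyl : ∀ Z : Subgroup G, Z ≤ C → IsPGroup 2 Z → Nat.card Z = 2 ^ m →
          ∃ Q : Sylow 2 C, (Q : Subgroup C) = Z.subgroupOf C := by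
        intro Z hZC hZ hZc
        obtain ⟨Q, hQ⟩ := IsPGroup.exists_le_sylow (hZ.comap_subtype (K := C))
        refine ⟨Q, (Subgroup.eq_of_le_of_card_ge hQ ?_).symm⟩
        rw [show Nat.card (Z.comap C.subtype : Subgroup C) = 2 ^ m from
          (Nat.card_congr (Subgroup.subgroupOfEquivOfLe hZC).toEquiv).trans hZc,
          Nat.card_congr ((Q : Subgroup C).equivMapOfInjective C.subtype Subtype.val_injective).toEquiv]
        refine A.maxT _ (Q.2.map C.subtype) ?_
        rintro _ ⟨y, -, rfl⟩
        exact mem_centralizer_singleton_iff.1 y.2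
      obtain ⟨QX, hQX⟩ := hsyl X hXC hX hXeq
      obtain ⟨QT, hQT⟩ := hsyl T hTC A.T_pgroup A.cardT
      obtain ⟨g, hg⟩ := MulAction.exists_smul_eq C QX QT
      have hgX : ∀ x ∈ X, (g : G) * x * (g : G)⁻¹ ∈ T := fun x hx => by
        have h1 : g * ⟨x, hXC hx⟩ * g⁻¹ ∈ (QT : Subgroup C) := by
          rw [← hg, Sylow.coe_subgroup_smul, Subgroup.mem_smul_pointwise_iff_exists]
          exact ⟨⟨x, hXC hx⟩, hQX ▸ hx, rfl⟩
        rw [hQT] at h1
        exact h1
      have hgt : (g : G) * t * (g : G)⁻¹ = t := by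
        rw [mem_centralizer_singleton_iff.1 g.2, mul_inv_cancel_right]
      let M' : Subgroup G := M.map (MulAut.conj (g : G)).toMonoidHom
      have hM'T : M' ≤ T := by
        rintro _ ⟨x, hx, rfl⟩; exact hgX x (mem_sup_left hx)
      set u' : G := (g : G) * u * (g : G)⁻¹ with hu'
      have hu'T : u' ∈ T := hgX u (mem_sup_right (mem_zpowers u))
      have hu'M : u' ∉ M' := by
        rintro ⟨x, hx, e⟩
        have e' : (g : G) * x * (g : G)⁻¹ = (g : G) * u * (g : G)⁻¹ := e
        rw [mul_left_inj, mul_right_inj] at e'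
        exact huM (e' ▸ hx)
      have hM'idx : (M'.subgroupOf T).index = 2 := by
        have h := (M'.subgroupOf T).card_mul_index
        rw [Nat.card_congr (Subgroup.subgroupOfEquivOfLe hM'T).toEquiv, A.cardT,
          ← Nat.card_congr (M.equivMapOfInjective _ (MulAut.conj (g : G)).injective).toEquiv, ← hcardM] at h
        exact Nat.eq_of_mul_eq_mul_left Nat.card_pos h
      have hM'u : ∀ x ∈ M', x * u' = u' * x := by
        rintro _ ⟨x, hx, rfl⟩
        show (g : G) * x * (g : G)⁻¹ * ((g : G) * u * (g : G)⁻¹) = (g : G) * u * (g : G)⁻¹ * ((g : G) * x * (g : G)⁻¹)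
        rw [conj_mul, conj_mul, hMu x hx]
      have hcomm : ∀ x ∈ T, x * u' = u' * x := by
        intro x hx
        by_cases hxM : x ∈ M'
        · exact hM'u x hxM
        · have h1 : x * u' ∈ M' := (Subgroup.mul_mem_iff_of_index_two hM'idx
            (a := ⟨x, hx⟩) (b := ⟨u', hu'T⟩)).2 (iff_of_false hxM hu'M)
          exact mul_right_cancel (b := u') ((hM'u _ h1).trans (mul_assoc _ _ _).symm)
      have hu'2 : u' * u' = 1 := by rw [hu', conj_mul, hu2, mul_one, mul_inv_cancel]
      have htM' : t ∈ M' := ⟨t, htM, hgt⟩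
      have hzM' : z ∈ M' := by
        obtain ⟨c, hc, hcc⟩ := A.z_sq
        rw [← hcc]
        exact (Subgroup.mul_mem_iff_of_index_two hM'idx (a := ⟨c, mem_sup_left hc⟩)
          (b := ⟨c, mem_sup_left hc⟩)).2 Iff.rfl
      rcases A.central_T hu'T hu'2 (fun h => hu'M (h ▸ M'.one_mem))
        (fun d hd => (hcomm d (mem_sup_left hd)).symm) with h | h | h
      · exact hu'M (h ▸ htM')
      · exact hu'M (h ▸ hzM')
      · exact hu'M (h ▸ M'.mul_mem htM' hzM')
    -- count
    have hΩ : Nat.card Ω = (centralizer ({t} : Set G)).index := by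
      have h := MulAction.index_stabilizer (ConjAct G) t
      rw [ConjAct.stabilizer_eq_centralizer, ConjAct.orbit_eq_carrier_conjClasses] at h
      rw [Nat.card_coe_set_eq]
      exact h.symm
    let I := {d : G // d ∈ D ∧ d * d = 1 ∧ d ≠ 1}
    have hW : Nat.card {x : Ω // x.1 ∈ T} = Nat.card I + 1 := by
      rw [← Finite.card_option]
      symm
      refine Nat.card_eq_of_bijective (fun o : Option I => match o with
        | none => (⟨⟨t, IsConj.refl t⟩, A.t_mem_T⟩ : {x : Ω // x.1 ∈ T})
        | some d => ⟨⟨d.1 * t, hclassDt d.1 d.2.1 d.2.2.1⟩,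
            mul_mem (mem_sup_left d.2.1) A.t_mem_T⟩) ⟨?_, ?_⟩
      · rintro (_ | d) (_ | d') h <;> have h' := congrArg (fun x => x.1.1) h <;> simp only at h'
        · rfl
        · exact Not.elim d'.2.2.2 (right_eq_mul.1 h')
        · exact Not.elim d.2.2.2 (mul_eq_right.1 h')
        · exact congrArg some (Subtype.ext (mul_right_cancel h'))
      · rintro ⟨⟨x, hx⟩, hxT⟩
        have hx2 : x * x = 1 := by
          obtain ⟨g, hg⟩ := isConj_iff.1 hx
          rw [← hg, conj_mul, A.sq_t, mul_one, mul_inv_cancel]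
        obtain ⟨d, hd, e | e⟩ := A.mem_T' hxT
        · exact Not.elim (hclassD x ((show x = d from e) ▸ hd) hx2) hx
        · have hd2 : d * d = 1 := by rw [← hdt_sq d hd, ← e]; exact hx2
          by_cases hd1 : d = 1
          · refine ⟨none, Subtype.ext (Subtype.ext ?_)⟩
            show t = x
            have e' : x = d * t := e
            rw [e', hd1, one_mul]
          · exact ⟨some ⟨d, hd, hd2, hd1⟩, Subtype.ext (Subtype.ext e.symm)⟩
    have hsplit : Nat.card {x : Ω // t • x ≠ x} + Nat.card Y + Nat.card {x : Ω // x.1 ∈ T} = Nat.card Ω := by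
      haveI := Fintype.ofFinite Ω
      have hiff : ∀ x : Ω, t • x ≠ x ↔ ¬ (x.1 * t = t * x.1) := fun x => by
        rw [ne_eq, not_iff_not, Subtype.ext_iff, hsmul, mul_inv_eq_iff_eq_mul, eq_comm]
      have hT' : ∀ x : Ω, x.1 ∈ T → x.1 * t = t * x.1 := fun x hx => A.T_cent hx
      simp only [Y, Nat.card_eq_fintype_card, Fintype.card_subtype]
      rw [← Finset.card_union_of_disjoint, ← Finset.card_union_of_disjoint, ← Finset.card_univ]
      · congr 1
        ext x
        simp only [Finset.mem_union, Finset.mem_filter, Finset.mem_univ, true_and, iff_true, hiff]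
        by_cases h1 : x.1 * t = t * x.1 <;> by_cases h2 : x.1 ∈ T <;> simp [h1, h2]
      · rw [Finset.disjoint_left]
        intro x hx hxT
        simp only [Finset.mem_union, Finset.mem_filter, Finset.mem_univ, true_and, hiff] at hx hxT
        rcases hx with h | h
        · exact h (hT' x hxT)
        · exact h.2 hxT
      · rw [Finset.disjoint_left]
        intro x hx hxY
        simp only [Finset.mem_filter, Finset.mem_univ, true_and, hiff] at hx hxY
        exact hx hxY.1
    have hI : Nat.card I % 4 = 1 := A.count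
    rw [← hΩ, ← hsplit, hW]
    omega
  -- `T` has index two in `S`
  have hScard : Nat.card (S : Subgroup G) = 2 ^ (m + 1) := by
    let C := centralizer ({t} : Set G)
    obtain ⟨Q, hQ⟩ := IsPGroup.exists_le_sylow (A.T_pgroup.comap_subtype (K := C))
    have hTC : T ≤ C := fun y hy => mem_centralizer_singleton_iff.2 (A.T_cent hy)
    have hQc : Nat.card (Q : Subgroup C) = 2 ^ m := by
      refine le_antisymm ?_ ?_
      · rw [Nat.card_congr ((Q : Subgroup C).equivMapOfInjective C.subtype Subtype.val_injective).toEquiv]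
        refine A.maxT _ (Q.2.map C.subtype) ?_
        rintro _ ⟨y, -, rfl⟩
        exact mem_centralizer_singleton_iff.1 y.2
      · rw [← hTcard, ← Nat.card_congr (Subgroup.subgroupOfEquivOfLe hTC).toEquiv]
        exact Subgroup.card_le_of_le hQ
    rw [Sylow.card_eq_multiplicity, ← C.card_mul_index,
      Nat.factorization_mul Nat.card_pos.ne' Subgroup.index_ne_zero_of_finite, Finsupp.add_apply]
    have h1 : (Nat.card C).factorization 2 = m :=
      Nat.pow_right_injective le_rfl ((Sylow.card_eq_multiplicity Q).symm.trans hQc)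
    have h2 : C.index.factorization 2 = 1 := by
      have hmod' : C.index % 4 = 2 := hmod
      obtain ⟨i, hi⟩ : ∃ i, C.index = 2 * (2 * i + 1) := ⟨C.index / 4, by omega⟩
      have h2i : ¬ 2 ∣ 2 * i + 1 := by omega
      rw [hi, Nat.factorization_mul two_ne_zero (by omega), Finsupp.add_apply,
        Nat.Prime.factorization_self Nat.prime_two, Nat.factorization_eq_zero_of_not_dvd h2i]
    rw [h1, h2]
  have hTidx : (T.subgroupOf (S : Subgroup G)).index = 2 := by
    have h := (T.subgroupOf (S : Subgroup G)).card_mul_index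
    rw [Nat.card_congr (Subgroup.subgroupOfEquivOfLe hTS).toEquiv, hTcard, hScard, pow_succ] at h
    exact Nat.eq_of_mul_eq_mul_left (Nat.two_pow_pos m) h
  have hTnormal : ∀ a ∈ (S : Subgroup G), ∀ x ∈ T, a * x * a⁻¹ ∈ T := fun a ha x hx => by
    haveI := Subgroup.normal_of_index_eq_two hTidx
    exact mem_subgroupOf.1 ((inferInstance : (T.subgroupOf (S : Subgroup G)).Normal).conj_mem
      ⟨x, hTS hx⟩ (mem_subgroupOf.2 hx) ⟨a, ha⟩)
  have hmulT : ∀ a ∈ (S : Subgroup G), ∀ b ∈ (S : Subgroup G), (a * b ∈ T ↔ (a ∈ T ↔ b ∈ T)) :=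
    fun a ha b hb => Subgroup.mul_mem_iff_of_index_two hTidx (a := ⟨a, ha⟩) (b := ⟨b, hb⟩)
  have hSnorm : ∀ a ∈ (S : Subgroup G), ∀ d ∈ D, a * d * a⁻¹ ∈ D := by
    intro a ha d hd
    have hle : D ≤ D.comap (MulAut.conj a).toMonoidHom := by
      refine A.gen.trans ((Subgroup.closure_le _).2 ?_)
      rintro e ⟨he, he2⟩
      show a * e * a⁻¹ ∈ D
      by_cases he1 : e = 1
      · rw [he1, mul_one, mul_inv_cancel]; exact D.one_mem
      have h2 : (a * e * a⁻¹) * (a * e * a⁻¹) = 1 := by rw [conj_mul, he2, mul_one, mul_inv_cancel]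
      obtain ⟨d', hd', h | h⟩ := A.mem_T' (hTnormal a ha e (mem_sup_left he))
      · rw [h]; exact hd'
      · exfalso
        rw [h, hdt_sq d' hd'] at h2
        exact hclassD e he he2 ((hclassDt d' hd' h2).trans (isConj_iff.2 ⟨a, h⟩).symm)
    exact hle hd
  -- the index two subgroup `D ∪ D v`
  have hM : ∀ v ∈ (S : Subgroup G), v ∉ T → v * v ∈ D →
      (∀ g : G, (∀ x ∈ T, g * x * g⁻¹ ∈ (S : Subgroup G)) → g * t * g⁻¹ ∉ T → g * t * g⁻¹ * v⁻¹ ∉ D) →
      False := by
    intro v hv hvT hvv hext
    let MS : Subgroup G :=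
      { carrier := {x | x ∈ D ∨ x * v⁻¹ ∈ D}
        one_mem' := Or.inl D.one_mem
        mul_mem' := by
          rintro x y (hx | hx) (hy | hy)
          · exact Or.inl (D.mul_mem hx hy)
          · exact Or.inr (by rw [mul_assoc]; exact D.mul_mem hx hy)
          · refine Or.inr ?_
            rw [show x * y * v⁻¹ = (x * v⁻¹) * (v * y * v⁻¹) by group]
            exact D.mul_mem hx (hSnorm v hv y hy)
          · refine Or.inl ?_
            rw [show x * y = (x * v⁻¹) * (v * (y * v⁻¹) * v⁻¹) * (v * v) by group]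
            exact D.mul_mem (D.mul_mem hx (hSnorm v hv _ hy)) hvv
        inv_mem' := by
          rintro x (hx | hx)
          · exact Or.inl (D.inv_mem hx)
          · refine Or.inr ?_
            rw [show x⁻¹ * v⁻¹ = (v⁻¹ * (x * v⁻¹)⁻¹ * v⁻¹⁻¹) * (v * v)⁻¹ by group]
            exact D.mul_mem (hSnorm _ ((S : Subgroup G).inv_mem hv) _ (D.inv_mem hx)) (D.inv_mem hvv) }
    have hMSle : MS ≤ (S : Subgroup G) := by
      rintro x (hx | hx)
      · exact hTS (mem_sup_left hx)
      · have := (S : Subgroup G).mul_mem (hTS (mem_sup_left hx)) hv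
        rwa [inv_mul_cancel_right] at this
    have htMS : t ∉ MS := by
      rintro (h | h)
      · exact A.notD h
      · refine hvT ?_
        have h' := T.mul_mem (T.inv_mem (mem_sup_left h : t * v⁻¹ ∈ T)) A.t_mem_T
        rwa [mul_inv_rev, inv_inv, mul_assoc, inv_mul_cancel, mul_one] at h'
    have hidx : MS.relIndex (S : Subgroup G) = 2 := by
      rw [Subgroup.relIndex, Subgroup.index_eq_two_iff]
      refine ⟨⟨t, hTS A.t_mem_T⟩, fun b => ?_⟩
      rw [mem_subgroupOf, mem_subgroupOf]
      by_cases hb : (b : G) ∈ MS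
      · exact Or.inr ⟨hb, fun h => htMS ((MS.mul_mem_cancel_left hb).1 h)⟩
      refine Or.inl ⟨?_, hb⟩
      show (b : G) * t ∈ MS
      by_cases hbT : (b : G) ∈ T
      · rcases A.mem_T.1 hbT with h | h
        · exact Not.elim hb (Or.inl h)
        · exact Or.inl h
      · have h1 : (b : G) * v⁻¹ ∈ T := (hmulT b b.2 v⁻¹ ((S : Subgroup G).inv_mem hv)).2
          (iff_of_false hbT fun h => hvT (inv_mem_iff.1 h))
        rcases A.mem_T.1 h1 with h | h
        · exact Not.elim hb (Or.inr h)
        · refine Or.inr ?_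
          -- `b t v⁻¹ = b v⁻¹ t (t v t v⁻¹)`
          have h2 : v * t * v⁻¹ * t ∈ D := by
            obtain ⟨d, hd, e | e⟩ := A.mem_T' (hTnormal v hv t A.t_mem_T)
            · have h2' : (v * t * v⁻¹) * (v * t * v⁻¹) = 1 := by rw [conj_mul, A.sq_t, mul_one, mul_inv_cancel]
              rw [e] at h2'
              exact Not.elim (hclassD d hd h2') (isConj_iff.2 ⟨v, e⟩)
            · rw [e, mul_assoc, A.sq_t, mul_one]; exact hd
          have h3 := hSnorm t (hTS A.t_mem_T) _ (D.inv_mem h2)
          rw [show (b : G) * t * v⁻¹ =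
            ((b : G) * v⁻¹ * t) * ((v * t * v⁻¹ * t)) by
              calc (b : G) * t * v⁻¹ = (b : G) * v⁻¹ * (t * t) * (v * t * v⁻¹) := by rw [A.sq_t]; group
                _ = (b : G) * v⁻¹ * t * (t * (v * t * v⁻¹)) := by group
                _ = (b : G) * v⁻¹ * t * (v * t * v⁻¹ * t) := by
                  rw [A.T_cent (hTnormal v hv t A.t_mem_T)]]
          exact D.mul_mem h h2
    obtain ⟨g, hg, hgT⟩ := exists_conj_extremal A.nit S MS hMSle hidx A.sq_t T A.T_pgroup
      (fun x hx => mem_centralizer_singleton_iff.2 (A.T_cent hx)) A.t_mem_T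
    rcases hg with hg | hg
    · exact hclassD _ hg (by rw [conj_mul, A.sq_t, mul_one, mul_inv_cancel]) (isConj_iff.2 ⟨g, rfl⟩)
    · refine hext g hgT (fun h => hvT ?_) hg
      have := T.mul_mem (T.inv_mem (mem_sup_left hg : g * t * g⁻¹ * v⁻¹ ∈ T)) h
      simpa [mul_assoc] using this
  by_cases hu : ∃ g : G, (∀ x ∈ T, g * x * g⁻¹ ∈ (S : Subgroup G)) ∧ g * t * g⁻¹ ∉ T
  · obtain ⟨g, hgS, hguT⟩ := hu
    obtain ⟨u, hudef⟩ : ∃ u, u = g * t * g⁻¹ := ⟨_, rfl⟩
    rw [← hudef] at hguT
    have huS : u ∈ (S : Subgroup G) := hudef ▸ hgS t A.t_mem_T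
    have huc : IsConj t u := isConj_iff.2 ⟨g, hudef.symm⟩
    have huu : u * u = 1 := by rw [hudef, conj_mul, A.sq_t, mul_one, mul_inv_cancel]
    have hui : u⁻¹ = u := inv_eq_of_mul_eq_one_right huu
    have hut : u * t ≠ t * u := fun h => hguT (A.inter S.2 hTS huS h)
    -- the centraliser of `u` in `S` has index two
    let U : Subgroup G := T.map (MulAut.conj g).toMonoidHom
    have hUS : U ≤ (S : Subgroup G) := by
      rintro _ ⟨x, hx, rfl⟩; exact hgS x hx
    have hUidx : (U.subgroupOf (S : Subgroup G)).index = 2 := by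
      have h := (U.subgroupOf (S : Subgroup G)).card_mul_index
      rw [Nat.card_congr (Subgroup.subgroupOfEquivOfLe hUS).toEquiv,
        ← Nat.card_congr (T.equivMapOfInjective _ (MulAut.conj g).injective).toEquiv, hTcard, hScard,
        pow_succ] at h
      exact Nat.eq_of_mul_eq_mul_left (Nat.two_pow_pos m) h
    have hUu : ∀ x ∈ U, x * u = u * x := by
      rintro _ ⟨x, hx, rfl⟩
      rw [hudef]
      show g * x * g⁻¹ * (g * t * g⁻¹) = g * t * g⁻¹ * (g * x * g⁻¹)
      rw [conj_mul, conj_mul, A.T_cent hx]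
    have htU : t ∉ U := fun h => hut (hUu t h).symm
    have hpsi : ∀ d ∈ D, d * u = u * d ∨ d * t * u = u * (d * t) := by
      intro d hd
      by_cases hdU : d ∈ U
      · exact Or.inl (hUu d hdU)
      · exact Or.inr (hUu _ ((Subgroup.mul_mem_iff_of_index_two hUidx (a := ⟨d, hTS (mem_sup_left hd)⟩)
          (b := ⟨t, hTS A.t_mem_T⟩)).2 (iff_of_false hdU htU)))
    have hutz : u * t * u⁻¹ = t * z := by
      rcases A.central_T (hTnormal u huS t A.t_mem_T) (by rw [conj_mul, A.sq_t, mul_one, mul_inv_cancel])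
        (fun h => A.t_ne (conj_eq_one_iff.1 h)) (fun d hd => by
          have h1 := A.T_cent (hTnormal u⁻¹ ((S : Subgroup G).inv_mem huS) d (mem_sup_left hd))
          rw [inv_inv] at h1
          calc u * t * u⁻¹ * d = u * (t * (u⁻¹ * d * u)) * u⁻¹ := by group
            _ = u * ((u⁻¹ * d * u) * t) * u⁻¹ := by rw [h1]
            _ = d * (u * t * u⁻¹) := by group) with h | h | h
      · exact Not.elim hut (mul_inv_eq_iff_eq_mul.1 h)
      · exact Not.elim hzt (isConj_iff.2 ⟨u, h⟩)
      · exact h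
    have hzu : u * z = z * u := hzS u huS
    have hut' : u * t = t * z * u := mul_inv_eq_iff_eq_mul.1 hutz
    have htuu : u * (t * u) = t * z := by
      rw [← mul_assoc, hut', mul_assoc, huu, mul_one]
    have hconjd : ∀ d ∈ D, d * t * u = u * (d * t) → u * d = d * z * u := fun d hd h => by
      calc u * d = u * (d * t) * t := by rw [mul_assoc, mul_assoc d t t, A.sq_t, mul_one]
        _ = d * t * (u * t) := by rw [← h]; group
        _ = d * (t * t) * z * u := by rw [hut']; group
        _ = d * z * u := by rw [A.sq_t, mul_one]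
    have hv : (t * u) * (t * u) ∈ D := by
      have : (t * u) * (t * u) = z := by
        rw [mul_assoc, htuu, ← mul_assoc, A.sq_t, one_mul]
      rw [this]; exact A.z_mem
    have hvT : t * u ∉ T := fun h => hguT (by
      have := T.mul_mem (T.inv_mem A.t_mem_T) h
      rwa [inv_mul_cancel_left] at this)
    refine hM (t * u) ((S : Subgroup G).mul_mem (hTS A.t_mem_T) huS) hvT hv ?_
    intro g' _ _ hmem'
    obtain ⟨v, hvdef⟩ : ∃ v, v = g' * t * g'⁻¹ := ⟨_, rfl⟩
    have hvv : v * v = 1 := by rw [hvdef, conj_mul, A.sq_t, mul_one, mul_inv_cancel]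
    have hvc : IsConj t v := isConj_iff.2 ⟨g', hvdef.symm⟩
    obtain ⟨x, hxdef⟩ : ∃ x, x = v * (t * u)⁻¹ := ⟨_, rfl⟩
    have hmem : x ∈ D := by rw [hxdef, hvdef]; exact hmem'
    have hve : v = x * t * u := by rw [hxdef]; group
    have hxt : x * t = t * x := A.commD x hmem
    have huxt : ∀ y, y * t = t * y → y * u = u * y → (y * t) * u = u * (y * t) → False := fun y hy h h' => by
      apply hut
      calc u * t = y⁻¹ * (y * u) * t := by group
        _ = y⁻¹ * (u * (y * t)) := by rw [h]; group
        _ = y⁻¹ * (y * t * u) := by rw [h']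
        _ = t * u := by group
    rcases hpsi x hmem with hxu | hxu
    · have hxx : x * x = z := by
        have h1 : (x * t * u) * (x * t * u) = x * x * z := by
          calc (x * t * u) * (x * t * u) = x * t * (u * x) * t * u := by group
            _ = x * t * (x * u) * t * u := by rw [hxu]
            _ = x * (t * x) * (u * (t * u)) := by group
            _ = x * (x * t) * (t * z) := by rw [htuu, hxt]
            _ = x * x * (t * t) * z := by group
            _ = x * x * z := by rw [A.sq_t, mul_one]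
        rw [← hve, hvv] at h1
        rw [eq_inv_of_mul_eq_one_left h1.symm, A.z_inv]
      obtain ⟨b, hb, hb2, hbx⟩ := A.inverting x hmem hxx
      have hb1 : b ≠ 1 := fun e => A.z_ne (by
        rw [e, one_mul, mul_one] at hbx
        exact hxx.symm.trans (eq_inv_iff_mul_eq_one.1 hbx))
      have hxinv : x⁻¹ = x * z := inv_eq_of_mul_eq_one_right (by rw [← mul_assoc, hxx, A.sq_z])
      have hbinv : b⁻¹ = b := inv_eq_of_mul_eq_one_right hb2
      have hxb : b * x = x * z * b := by
        calc b * x = b * x * b * b := by rw [mul_assoc (b * x), hb2, mul_one]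
          _ = x * z * b := by rw [hbx, hxinv]
      have hbt : b * t = t * b := A.commD b hb
      have hbz : b * z = z * b := A.z_comm b hb
      have hzt' : z * t = t * z := A.commD z A.z_mem
      set x' := x * b * z with hx'
      have hx'D : x' ∈ D := D.mul_mem (D.mul_mem hmem hb) A.z_mem
      have hx'2 : x' * x' = 1 := by
        calc x * b * z * (x * b * z) = x * b * (z * x) * b * z := by group
          _ = x * (b * x) * (z * b) * z := by rw [← A.z_comm x hmem]; group
          _ = x * (x * z * b) * (b * z) * z := by rw [hxb, hbz]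
          _ = x * x * z * (b * b) * (z * z) := by group
          _ = 1 := by rw [hxx, hb2, A.sq_z, mul_one, mul_one]
      rcases hpsi b hb with hbu | hbu
      · -- `b u = u b`
        have hx'u : x' * u = u * x' :=
          ((Commute.mul_left (show Commute x u from hxu) hbu).mul_left hzu.symm).eq
        have hcomm : (b * t) * v = v * (b * t) := by
          have l : (b * t) * v = x * z * b * u := by
            calc (b * t) * v = b * (t * (x * t)) * u := by rw [hve]; group
              _ = b * (t * (t * x)) * u := by rw [hxt]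
              _ = b * (t * t) * x * u := by group
              _ = x * z * b * u := by rw [A.sq_t, mul_one, hxb]
          have r : v * (b * t) = x * z * b * u := by
            calc v * (b * t) = x * t * (u * b) * t := by rw [hve]; group
              _ = x * t * (b * u) * t := by rw [hbu]
              _ = x * (t * b) * (u * t) := by group
              _ = x * (b * t) * (t * z * u) := by rw [hut', hbt]
              _ = x * b * (t * t) * z * u := by group
              _ = x * (b * z) * u := by rw [A.sq_t]; group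
              _ = x * z * b * u := by rw [hbz]; group
          rw [l, r]
        have hvb : v * (b * t) = u * x' := by
          rw [← hx'u, hx', hve]
          calc x * t * u * (b * t) = x * t * (u * b) * t := by group
            _ = x * t * (b * u) * t := by rw [hbu]
            _ = x * (t * b) * (u * t) := by group
            _ = x * (b * t) * (t * z * u) := by rw [hut', hbt]
            _ = x * b * (t * t) * z * u := by group
            _ = x * b * z * u := by rw [A.sq_t, mul_one]
        have hbt2 : (b * t) * (b * t) = 1 := (hdt_sq b hb).trans hb2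
        have hbt1 : b * t ≠ 1 := fun e => A.notD (by
          rw [eq_inv_of_mul_eq_one_right e]; exact D.inv_mem hb)
        have hx'1 : x' ≠ 1 := fun e => by
          rw [hx', mul_assoc] at e
          have hx2 : x * x = 1 := by
            have : x = (b * z)⁻¹ := eq_inv_of_mul_eq_one_left e
            rw [this, ← mul_inv_rev, inv_eq_one, mul_assoc, ← mul_assoc z b z, ← hbz, mul_assoc b z z,
              A.sq_z, mul_one, hb2]
          exact A.z_ne (hxx.symm.trans hx2)
        have e1 : IsConj t (u * x') :=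
          (hopp u x' huc hx'2 hx'1 (fun e => hguT (e ▸ mem_sup_left hx'D)) hx'u).2 (hclassD x' hx'D hx'2)
        exact ((hopp v (b * t) hvc hbt2 hbt1 (fun e => hguT (by
          have hvS' : v ∈ T := e ▸ mul_mem (mem_sup_left hb) A.t_mem_T
          have := T.mul_mem (T.inv_mem (mul_mem (mem_sup_left hmem) A.t_mem_T : x * t ∈ T)) hvS'
          rwa [hve, inv_mul_cancel_left] at this)) hcomm).1 (hvb ▸ e1)) (hclassDt b hb hb2)
      · -- `b t` commutes with `u`
        have hub := hconjd b hb hbu
        have hcomm : b * v = v * b := by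
          have l : b * v = x * z * b * t * u := by
            rw [hve, ← mul_assoc, ← mul_assoc, hxb]
          have r : v * b = x * z * b * t * u := by
            calc v * b = x * t * (u * b) := by rw [hve]; group
              _ = x * (t * b) * (z * u) := by rw [hub]; group
              _ = x * b * (t * z) * u := by rw [← hbt]; group
              _ = x * (b * z) * t * u := by rw [← hzt']; group
              _ = x * z * b * t * u := by rw [hbz]; group
          rw [l, r]
        have hvb : v * b = u * (x' * t) := by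
          have hx'tu : x' * t * u = u * (x' * t) := by
            calc x' * t * u = x * (b * (z * t)) * u := by rw [hx']; group
              _ = x * (b * (t * z)) * u := by rw [hzt']
              _ = x * (b * t) * (z * u) := by group
              _ = x * (b * t) * (u * z) := by rw [hzu]
              _ = x * ((b * t) * u) * z := by group
              _ = x * (u * (b * t)) * z := by rw [hbu]
              _ = (x * u) * b * (t * z) := by group
              _ = (u * x) * b * (z * t) := by rw [hxu, hzt']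
              _ = u * (x' * t) := by rw [hx']; group
          rw [← hx'tu, hx', hve]
          calc x * t * u * b = x * t * (u * b) := by group
            _ = x * (t * b) * z * u := by rw [hub]; group
            _ = x * b * (t * z) * u := by rw [← hbt]; group
            _ = x * b * z * t * u := by rw [← hzt']; group
        have hx't2 : (x' * t) * (x' * t) = 1 := (hdt_sq x' hx'D).trans hx'2
        have hx't1 : x' * t ≠ 1 := fun e => A.notD (by
          rw [eq_inv_of_mul_eq_one_right e]; exact D.inv_mem hx'D)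
        have hcu : (x' * t) * u = u * (x' * t) := by
          rcases hpsi x' hx'D with h | h
          · exfalso
            have h2 : b * u = u * b := by
              have hb' : b = x⁻¹ * x' * z := by
                rw [hx']
                calc b = b * (z * z) := by rw [A.sq_z, mul_one]
                  _ = _ := by group
              rw [hb']
              exact (((Commute.inv_left (show Commute x u from hxu)).mul_left h).mul_left hzu.symm).eq
            exact huxt b hbt h2 hbu
          · exact h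
        have e1 : ¬ IsConj t (u * (x' * t)) := fun h =>
          (hopp u (x' * t) huc hx't2 hx't1
            (fun e => hguT (e ▸ mul_mem (mem_sup_left hx'D) A.t_mem_T)) hcu).1 h (hclassDt x' hx'D hx'2)
        refine e1 (hvb ▸ ((hopp v b hvc hb2 hb1 (fun e => hguT (by
          have hvS' : v ∈ T := e ▸ mem_sup_left hb
          have := T.mul_mem (T.inv_mem (mul_mem (mem_sup_left hmem) A.t_mem_T : x * t ∈ T)) hvS'
          rwa [hve, inv_mul_cancel_left] at this)) hcomm).2 (hclassD b hb hb2)))
    · -- `x t` commutes with `u`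
      have hxx : x * x = 1 := by
        have h2 : (x * t * u) * (x * t * u) = (x * t) * (x * t) := by
          calc (x * t * u) * (x * t * u) = (x * t) * (u * (x * t)) * u := by group
            _ = (x * t) * (x * t) * (u * u) := by rw [← hxu]; group
            _ = (x * t) * (x * t) := by rw [huu, mul_one]
        rw [← hve, hvv, hdt_sq x hmem] at h2
        exact h2.symm
      by_cases hx1 : x = 1
      · rw [hx1, one_mul] at hxu
        exact hut hxu.symm
      have hxt2 : (x * t) * (x * t) = 1 := (hdt_sq x hmem).trans hxx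
      have hxt1 : x * t ≠ 1 := fun e => A.notD (by rw [eq_inv_of_mul_eq_one_right e]; exact D.inv_mem hmem)
      exact (hopp u (x * t) huc hxt2 hxt1 (fun e => hguT (e ▸ mul_mem (mem_sup_left hmem) A.t_mem_T)) hxu).1
        (by rw [← hxu, ← hve]; exact hvc) (hclassDt x hmem hxx)
  push Not at hu
  by_cases hv : ∃ v ∈ (S : Subgroup G), v ∉ T ∧ v * v ∈ D
  · obtain ⟨v, hv1, hv2, hv3⟩ := hv
    exact hM v hv1 hv2 hv3 fun g hg hgT _ => hgT (hu g hg)
  push Not at hv
  -- `S / D` is cyclic: transfer
  let Ds : Subgroup (S : Subgroup G) := D.subgroupOf (S : Subgroup G)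
  haveI : Ds.Normal := ⟨fun d hd a => mem_subgroupOf.2 (hSnorm a a.2 d hd)⟩
  have hcardQ : Nat.card ((S : Subgroup G) ⧸ Ds) = 4 := by
    have h1 : D ≤ T := le_sup_left
    have h2 : (D.subgroupOf T).index = 2 := by
      rw [Subgroup.index_eq_two_iff]
      refine ⟨⟨t, A.t_mem_T⟩, fun b => ?_⟩
      rw [mem_subgroupOf, mem_subgroupOf]
      rcases A.mem_T.1 b.2 with h | h
      · exact Or.inr ⟨h, fun h' => A.notD ((D.mul_mem_cancel_left h).1 h')⟩
      · exact Or.inl ⟨h, fun h' => A.notD ((D.mul_mem_cancel_left h').1 h)⟩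
    show Ds.index = 4
    rw [show Ds.index = D.relIndex (S : Subgroup G) from rfl,
      ← Subgroup.relIndex_mul_relIndex D T (S : Subgroup G) h1 hTS]
    show (D.subgroupOf T).index * (T.subgroupOf (S : Subgroup G)).index = 4
    rw [h2, hTidx]
  haveI : IsMulCommutative ((S : Subgroup G) ⧸ Ds) :=
    IsPGroup.isMulCommutative_of_card_eq_prime_sq (p := 2) hcardQ
  letI : CommGroup ((S : Subgroup G) ⧸ Ds) :=
    { (inferInstance : Group ((S : Subgroup G) ⧸ Ds)) with mul_comm := IsMulCommutative.is_comm.comm }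
  let φ : (S : Subgroup G) →* (S : Subgroup G) ⧸ Ds := QuotientGroup.mk' Ds
  let tS : (S : Subgroup G) := ⟨t, hTS A.t_mem_T⟩
  have hval : ∀ (g : G) (hm : g * t * g⁻¹ ∈ (S : Subgroup G)), φ ⟨_, hm⟩ = φ tS := by
    intro g hm
    have hxx : (g * t * g⁻¹) * (g * t * g⁻¹) = 1 := by rw [conj_mul, A.sq_t, mul_one, mul_inv_cancel]
    by_cases hxT : g * t * g⁻¹ ∈ T
    · obtain ⟨d, hd, e | e⟩ := A.mem_T' hxT
      · exact Not.elim (hclassD _ (e ▸ hd) hxx) (isConj_iff.2 ⟨g, rfl⟩)
      · refine (QuotientGroup.eq.2 (mem_subgroupOf.2 ?_))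
        show (g * t * g⁻¹)⁻¹ * t ∈ D
        rw [e, mul_inv_rev, A.t_inv, mul_assoc, A.commD _ (D.inv_mem hd), ← mul_assoc, A.sq_t, one_mul]
        exact D.inv_mem hd
    · exact Not.elim (hv _ hm hxT) (hxx ▸ D.one_mem)
  have hτ : MonoidHom.transfer φ (tS : G) = φ tS ^ (S : Subgroup G).index := by
    refine TwoFusion.transfer_eq_pow_of_controlled φ tS fun k g hm => ?_
    rcases Nat.even_or_odd k with ⟨i, rfl⟩ | ⟨i, rfl⟩
    · have e : t ^ (i + i) = 1 := by rw [← two_mul, pow_mul, pow_two, A.sq_t, one_pow]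
      rw [← map_pow, show tS ^ (i + i) = 1 from Subtype.ext (by rw [SubmonoidClass.coe_pow]; exact e)]
      refine congrArg φ (Subtype.ext ?_)
      show g * t ^ (i + i) * g⁻¹ = 1
      rw [e, mul_one, mul_inv_cancel]
    · have e : t ^ (2 * i + 1) = t := by rw [pow_succ, pow_mul, pow_two, A.sq_t, one_pow, one_mul]
      rw [← map_pow, show tS ^ (2 * i + 1) = tS from Subtype.ext (by rw [SubmonoidClass.coe_pow]; exact e)]
      have hm' : g * t * g⁻¹ ∈ (S : Subgroup G) := by
        have hm0 : g * (tS : G) ^ (2 * i + 1) * g⁻¹ ∈ (S : Subgroup G) := hm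
        rwa [show (tS : G) ^ (2 * i + 1) = t from e] at hm0
      refine Eq.trans (congrArg φ (Subtype.ext ?_)) (hval g hm')
      show g * t ^ (2 * i + 1) * g⁻¹ = g * t * g⁻¹
      rw [e]
  have hone : MonoidHom.transfer φ = 1 := by
    by_contra hne
    obtain ⟨K, hK⟩ := TwoFusion.exists_index_two_of_hom
      (IsPGroup.of_card (n := 2) (hcardQ.trans (by norm_num))) (MonoidHom.transfer φ) hne
    exact A.nit K hK
  rw [hone, MonoidHom.one_apply] at hτ
  have hφt : φ tS ≠ 1 := fun h => A.notD (mem_subgroupOf.1 ((QuotientGroup.eq_one_iff _).1 h))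
  refine hφt (TwoFusion.eq_one_of_pow_eq_one_of_coprime hτ.symm (m := (S : Subgroup G).index) (n := 2)
    (by rw [← map_pow, show tS ^ 2 = 1 from Subtype.ext (by rw [SubmonoidClass.coe_pow, pow_two]; exact A.sq_t),
      map_one]) ?_)
  exact (Nat.prime_two.coprime_iff_not_dvd.2 S.not_dvd_index).symm

end Dih

end Cfsg.Agent.TwoTimesPSL
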