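import Cfsg.Agent.Lib.TwoTimesPSL.Chain
import Cfsg.Agent.Lib.TwoTimesPSL.Dihedral
import Cfsg.Agent.Lib.Goldschmidt.General.Final
import Cfsg.Agent.Lib.Goldschmidt.ThreeInv.Main
import Cfsg.Agent.Lib.Bender.Consumers
import Cfsg.Agent.Lib.Bender.RankOneHalf

/-!
# The elementary case

`Pre.eight`: in a simple group the elementary situation with a non-soluble centralizer for `3 ≤ n` forces
an elementary Sylow 2-subgroup of order eight.
-/

set_option autoImplicit false
set_option linter.unusedSectionVars false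
set_option linter.style.haveILetI false

open Subgroup

namespace Cfsg.Agent.TwoTimesPSL

universe u

variable {G : Type u} [Group G] [Finite G]

/-- A strongly embedded subgroup contains a Sylow 2-subgroup and the centralizers of its involutions. -/
theorem stronglyEmbedded_facts {H : Subgroup G} (hH : Cfsg.IsStronglyEmbedded H) :
    (∃ P : Sylow 2 G, (P : Subgroup G) ≤ H) ∧
      ∀ h ∈ H, orderOf h = 2 → centralizer ({h} : Set G) ≤ H := by
  haveI : Fact (Nat.Prime 2) := ⟨Nat.prime_two⟩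
  obtain ⟨-, heven, hodd⟩ := hH
  have hcent : ∀ h ∈ H, orderOf h = 2 → centralizer ({h} : Set G) ≤ H := by
    intro h hh ho y hy
    by_contra hyH
    have hmem : h ∈ H ⊓ H.map (MulAut.conj y).toMonoidHom := by
      refine ⟨hh, h, hh, ?_⟩
      show y * h * y⁻¹ = h
      rw [mem_centralizer_singleton_iff.1 hy, mul_inv_cancel_right]
    have h2 := Subgroup.orderOf_dvd_natCard _ hmem
    rw [ho] at h2
    exact absurd (even_iff_two_dvd.2 h2) (Nat.not_even_iff_odd.2 (hodd y hyH))
  refine ⟨?_, hcent⟩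
  obtain ⟨P⟩ := (inferInstance : Nonempty (Sylow 2 H))
  let X : Subgroup G := (P : Subgroup H).map H.subtype
  have hXH : X ≤ H := Subgroup.map_subtype_le _
  have hX : IsPGroup 2 X := P.2.map _
  obtain ⟨S, hS⟩ := hX.exists_le_sylow
  refine ⟨S, ?_⟩
  suffices h : (S : Subgroup G) = X by rw [h]; exact hXH
  refine le_antisymm ?_ hS
  by_contra hnle
  haveI := S.2.isNilpotent
  have hne : X.subgroupOf (S : Subgroup G) < ⊤ :=
    lt_top_iff_ne_top.2 fun h => hnle fun x hx =>
      mem_subgroupOf.1 (h ▸ mem_top (⟨x, hx⟩ : (S : Subgroup G)))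
  obtain ⟨⟨s, hsS⟩, hs, hsX⟩ :=
    SetLike.exists_of_lt (Group.normalizerCondition_of_isNilpotent _ hne)
  have hsN : ∀ x ∈ X, s * x * s⁻¹ ∈ X := fun x hx =>
    mem_subgroupOf.1 ((Subgroup.mem_normalizer_iff.1 hs ⟨x, hS hx⟩).1 (mem_subgroupOf.2 hx))
  by_cases hsH : s ∈ H
  · have hp : IsPGroup 2 (X ⊔ zpowers s : Subgroup G) :=
      isPGroup_sup_zpowers hX (mem_normalizer_of hsN) (S.2.to_le (zpowers_le.2 hsS))
    have hle : X ⊔ zpowers s ≤ H := sup_le hXH (zpowers_le.2 hsH)
    have h3 : (X ⊔ zpowers s).subgroupOf H = (P : Subgroup H) :=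
      P.3 (hp.comap_subtype (K := H)) fun y hy => mem_subgroupOf.2 (mem_sup_left ⟨y, hy, rfl⟩)
    exact hsX (mem_subgroupOf.2 ⟨⟨s, hsH⟩,
      h3 ▸ mem_subgroupOf.2 (mem_sup_right (mem_zpowers s)), rfl⟩)
  · have h2 : 2 ∣ Nat.card X := by
      rw [← Nat.card_congr ((P : Subgroup H).equivMapOfInjective H.subtype Subtype.val_injective).toEquiv]
      exact P.dvd_card_of_dvd_card heven.two_dvd
    obtain ⟨x, hx⟩ := exists_prime_orderOf_dvd_card' 2 h2
    have hmem : s * (x : G) * s⁻¹ ∈ H ⊓ H.map (MulAut.conj s).toMonoidHom :=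
      ⟨hXH (hsN _ x.2), x, hXH x.2, rfl⟩
    have h3 := Subgroup.orderOf_dvd_natCard _ hmem
    rw [show orderOf (s * (x : G) * s⁻¹) = 2 by
      rw [← MulAut.conj_apply, MulEquiv.orderOf_eq,
        Subgroup.orderOf_coe, hx]] at h3
    exact absurd (even_iff_two_dvd.2 h3) (Nat.not_even_iff_odd.2 (hodd s hsH))

theorem Pre.eight {n : ℕ} {t k : G} {E : Subgroup G} (A : Pre n t k E) [IsSimpleGroup G]
    (hG : ¬ IsMulCommutative G) (hns : 3 ≤ n → ¬ Group.IsSolvable (centralizer ({t} : Set G)))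
    (S : Sylow 2 G) : Nat.card (S : Subgroup G) = 8 ∧ ∀ x ∈ (S : Subgroup G), x ^ 2 = 1 := by
  classical
  haveI : Fact (Nat.Prime 2) := ⟨Nat.prime_two⟩
  obtain ⟨S0, hTS⟩ := A.T_pgroup.exists_le_sylow
  rcases eq_or_lt_of_le hTS with heq | hlt
  · have hcard : Nat.card (S0 : Subgroup G) = 2 ^ (n + 1) := by rw [← heq, A.card_T]
    by_cases h3 : 3 ≤ n
    · exfalso
      have hcomm : IsMulCommutative (S0 : Subgroup G) :=
        ⟨⟨fun a b => Subtype.ext (A.T_comm (heq.symm ▸ a.2) (heq.symm ▸ b.2))⟩⟩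
      have helem : Cfsg.IsElementaryAbelian 2 (S0 : Subgroup G) :=
        ⟨hcomm, fun a ha => by rw [pow_two]; exact A.T_sq (heq.symm ▸ ha)⟩
      have hne : (S0 : Subgroup G) ≠ ⊥ := fun h => A.t_ne (by
        have := hTS A.t_mem_T
        rwa [h, Subgroup.mem_bot] at this)
      have hnc : ∃ a b : G, a * b ≠ b * a := by
        by_contra h
        push Not at h
        exact hG ⟨⟨h⟩⟩
      rcases Goldschmidt.General.mainAt_of Goldschmidt.ThreeInv.threeInvTarget G inferInstance hnc S0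
        (S0 : Subgroup G) hne helem ⟨le_rfl, fun _ _ _ h => h⟩ with ⟨H, hH⟩ | ⟨-, hle⟩
      · obtain ⟨e, he, he1⟩ : ∃ e ∈ E, e ≠ 1 := by
          by_contra h
          push Not at h
          have : E = ⊥ := (Subgroup.eq_bot_iff_forall E).2 h
          have hc := A.cardE
          rw [this, Subgroup.card_bot] at hc
          exact absurd hc (Nat.one_lt_two_pow (by omega)).ne
        have h2 : SuzukiRankOne.TwoInvolutions G :=
          ⟨e, t, he1, A.t_ne, fun h => A.notE (h ▸ he), A.sqE e he, A.sq_t, A.commE e he⟩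
        have hsol : Group.IsSolvable H := Bender.solvable_of_stronglyEmbedded Bender.rankOneHalf hH h2
        obtain ⟨⟨P, hP⟩, hcent⟩ := stronglyEmbedded_facts hH
        obtain ⟨g, hg⟩ := MulAction.exists_smul_eq G S0 P
        have hgt : g * t * g⁻¹ ∈ (P : Subgroup G) := by
          rw [← hg, Sylow.coe_subgroup_smul, Subgroup.mem_smul_pointwise_iff_exists]
          exact ⟨t, hTS A.t_mem_T, rfl⟩
        have ho : orderOf (g * t * g⁻¹) = 2 := orderOf_eq_prime
          (by rw [pow_two, conj_mul, A.sq_t, mul_one, mul_inv_cancel])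
          (fun h => A.t_ne (conj_eq_one_iff.1 h))
        have hle := hcent _ (hP hgt) ho
        let f : centralizer ({t} : Set G) →* H :=
          ((MulAut.conj g).toMonoidHom.comp (centralizer ({t} : Set G)).subtype).codRestrict H fun y => hle
            (mem_centralizer_singleton_iff.2 (by
              show g * (y : G) * g⁻¹ * (g * t * g⁻¹) = g * t * g⁻¹ * (g * (y : G) * g⁻¹)
              rw [conj_mul, conj_mul, mem_centralizer_singleton_iff.1 y.2]))
        haveI := hsol
        refine hns h3 (Group.isSolvable_of_isSolvable_injective (f := f) fun a b h => ?_)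
        have h' : g * (a : G) * g⁻¹ = g * (b : G) * g⁻¹ := congrArg Subtype.val h
        rw [mul_left_inj, mul_right_inj] at h'
        exact Subtype.ext h'
      · rw [hcard] at hle
        have := Nat.pow_le_pow_right two_pos (show 4 ≤ n + 1 by omega)
        omega
    · have hn : n = 2 := le_antisymm (by omega) A.two_le
      have h8 : Nat.card (S0 : Subgroup G) = 8 := by rw [hcard, hn]; norm_num
      obtain ⟨g, hg⟩ := MulAction.exists_smul_eq G S0 S
      refine ⟨?_, fun x hx => ?_⟩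
      · rw [← h8]
        exact Nat.card_congr (Sylow.equiv S S0).toEquiv
      · rw [← hg, Sylow.coe_subgroup_smul, Subgroup.mem_smul_pointwise_iff_exists] at hx
        obtain ⟨y, hy, rfl⟩ := hx
        show (g * y * g⁻¹) ^ 2 = 1
        rw [pow_two, conj_mul, A.T_sq (heq ▸ hy), mul_one, mul_inv_cancel]
  · exfalso
    haveI := S0.2.isNilpotent
    have hne : (E ⊔ zpowers t).subgroupOf (S0 : Subgroup G) < ⊤ :=
      lt_top_iff_ne_top.2 fun h => hlt.ne (le_antisymm hTS fun x hx =>
        mem_subgroupOf.1 (h ▸ mem_top (⟨x, hx⟩ : (S0 : Subgroup G))))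
    obtain ⟨⟨s, hsS⟩, hs, hsT⟩ := SetLike.exists_of_lt (Group.normalizerCondition_of_isNilpotent _ hne)
    have hsN : ∀ x ∈ E ⊔ zpowers t, s * x * s⁻¹ ∈ E ⊔ zpowers t := fun x hx =>
      mem_subgroupOf.1 ((Subgroup.mem_normalizer_iff.1 hs ⟨x, hTS hx⟩).1 (mem_subgroupOf.2 hx))
    have hsN' : ∀ x ∈ E ⊔ zpowers t, s⁻¹ * x * s ∈ E ⊔ zpowers t := fun x hx => by
      have := mem_subgroupOf.1 ((Subgroup.mem_normalizer_iff.1 ((normalizer _).inv_mem hs) ⟨x, hTS hx⟩).1
        (mem_subgroupOf.2 hx))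
      simpa using this
    have hst : s * t * s⁻¹ ≠ t := fun h =>
      hsT (mem_subgroupOf.2 (A.inter S0.2 hTS hsS (mul_inv_eq_iff_eq_mul.1 h)))
    -- a central involution of the Sylow subgroup
    haveI : Nontrivial (S0 : Subgroup G) :=
      ⟨⟨⟨t, hTS A.t_mem_T⟩, 1, fun h => A.t_ne (congrArg Subtype.val h)⟩⟩
    haveI := S0.2.center_nontrivial
    obtain ⟨b, hb⟩ := IsPGroup.iff_card.1 (S0.2.to_subgroup (center (S0 : Subgroup G)))
    obtain ⟨w, hw⟩ := exists_prime_orderOf_dvd_card' 2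
      (show 2 ∣ Nat.card (center (S0 : Subgroup G)) by
        rw [hb]
        refine dvd_pow_self 2 fun h => ?_
        rw [h, pow_zero] at hb
        exact Not.elim (Finite.one_lt_card).ne' hb)
    let z : G := ((w : (S0 : Subgroup G)) : G)
    have hzc : ∀ x ∈ (S0 : Subgroup G), x * z = z * x := fun x hx =>
      congrArg Subtype.val (mem_center_iff.1 w.2 ⟨x, hx⟩)
    have hzo : orderOf z = 2 := by
      show orderOf ((w : (S0 : Subgroup G)) : G) = 2
      rw [Subgroup.orderOf_coe, Subgroup.orderOf_coe, hw]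
    have hzT : z ∈ E ⊔ zpowers t :=
      A.inter S0.2 hTS (w : (S0 : Subgroup G)).2 (hzc t (hTS A.t_mem_T)).symm
    have hzt : ¬ IsConj z t := by
      intro h
      obtain ⟨g, hg⟩ := isConj_iff.1 h
      have h1 : Nat.card ((S0 : Subgroup G).map (MulAut.conj g).toMonoidHom) ≤ 2 ^ (n + 1) := by
        refine A.maxT _ (S0.2.map _) ?_
        rintro _ ⟨x, hx, rfl⟩
        show g * x * g⁻¹ * t = t * (g * x * g⁻¹)
        rw [← hg, conj_mul, conj_mul, hzc x hx]
      rw [← Nat.card_congr ((S0 : Subgroup G).equivMapOfInjective _ (MulAut.conj g).injective).toEquiv,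
        ← A.card_T] at h1
      exact hlt.ne (Subgroup.eq_of_le_of_card_ge hTS h1)
    refine (⟨A, ?_⟩ : Elem n t k E).absurd
    intro e he het
    have he1 : e ≠ 1 := fun h => by
      obtain ⟨g, hg⟩ := isConj_iff.1 het
      exact A.t_ne (conj_eq_one_iff.1 (hg.trans h))
    have hE : ∀ f ∈ E, f ≠ 1 → IsConj t f := fun f hf hf1 => by
      obtain ⟨i, hi⟩ := A.k_trans e he he1 f hf hf1
      exact het.trans (isConj_iff.2 ⟨_, hi⟩)
    have hEt : ∀ f ∈ E, f ≠ 1 → ¬ IsConj t (f * t) := by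
      intro f hf hf1 hc
      obtain ⟨e1, he1', hz' | hz'⟩ := A.mem_T.1 hzT
      · have : e1 ≠ 1 := fun h => by rw [hz', h, orderOf_one] at hzo; omega
        exact hzt (hz' ▸ (hE e1 he1' this).symm)
      · by_cases h : e1 = 1
        · rw [h, one_mul] at hz'
          exact hzt (hz' ▸ IsConj.refl z)
        · obtain ⟨i, hi⟩ := A.k_trans f hf hf1 e1 he1' h
          refine hzt (hz' ▸ (hc.trans (isConj_iff.2 ⟨k ^ i, ?_⟩)).symm)
          have hkt : Commute (k ^ i) t := Commute.pow_left A.k_t i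
          calc k ^ i * (f * t) * (k ^ i)⁻¹ = (k ^ i * f * (k ^ i)⁻¹) * (k ^ i * t * (k ^ i)⁻¹) := by group
            _ = e1 * t := by rw [hi, hkt.eq, mul_inv_cancel_right]
    have hclass : ∀ x ∈ E ⊔ zpowers t, IsConj t x → x ≠ t → x ∈ E := by
      intro x hx hc hxt
      obtain ⟨f, hf, h | h⟩ := A.mem_T.1 hx
      · exact h ▸ hf
      · by_cases hf1 : f = 1
        · exact absurd (by rw [h, hf1, one_mul]) hxt
        · exact absurd (h ▸ hc) (hEt f hf hf1)
    have hmove : ∀ f ∈ E, f ≠ 1 → s * f * s⁻¹ ≠ t → s * f * s⁻¹ ∈ E := fun f hf hf1 hne' =>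
      hclass _ (hsN f (mem_sup_left hf)) ((hE f hf hf1).trans (isConj_iff.2 ⟨s, rfl⟩)) hne'
    set e' := s⁻¹ * t * s with he'
    have hse' : s * e' * s⁻¹ = t := by rw [he']; group
    have he't : e' ≠ t := fun h => hst (by rw [← h]; rw [h] at hse'; rw [h]; exact hse')
    have he'E : e' ∈ E := hclass _ (hsN' t A.t_mem_T) (isConj_iff.2 ⟨s⁻¹, by rw [he', inv_inv]⟩) he't
    have he'1 : e' ≠ 1 := fun h => A.t_ne (by rw [← hse', h, mul_one, mul_inv_cancel])
    obtain ⟨f, hf, hf1, hfe⟩ : ∃ f ∈ E, f ≠ 1 ∧ f ≠ e' := by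
      by_contra hno
      push Not at hno
      haveI := Fintype.ofFinite E
      have hsub : (Finset.univ : Finset E) ⊆ {1, ⟨e', he'E⟩} := fun y _ => by
        by_cases hy : y = 1
        · simp [hy]
        · have := hno y y.2 (fun h => hy (Subtype.ext h))
          simp [show y = ⟨e', he'E⟩ from Subtype.ext this]
      have h := (Finset.card_le_card hsub).trans Finset.card_le_two
      rw [Finset.card_univ, ← Nat.card_eq_fintype_card, A.cardE] at h
      have := Nat.pow_le_pow_right two_pos A.two_le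
      omega
    have hf' : s * f * s⁻¹ ∈ E := hmove f hf hf1 fun h => hfe (by
      rw [← hse', mul_left_inj, mul_right_inj] at h; exact h)
    have hprod : s * (e' * f) * s⁻¹ ∈ E := by
      refine hmove _ (E.mul_mem he'E hf) (fun h => hfe ?_) fun h => ?_
      · rw [eq_inv_of_mul_eq_one_right h, inv_eq_of_mul_eq_one_right (A.sqE e' he'E)]
      · have : e' * f = e' := by
          rw [← hse', mul_left_inj, mul_right_inj] at h; exact h
        exact hf1 (mul_eq_left.1 this)
    apply A.notE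
    have : t = (s * (e' * f) * s⁻¹) * (s * f * s⁻¹)⁻¹ := by rw [← hse']; group
    rw [this]
    exact E.mul_mem hprod (E.inv_mem hf')

end Cfsg.Agent.TwoTimesPSL
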