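import Cfsg.Agent.Lib.PSL2.PGLMaximal
import Cfsg.Agent.Lib.PSL2.Involutions
import Cfsg.Agent.Lib.PSL2.Centralizers
import Cfsg.Agent.Lib.PSL2.Soluble
import Cfsg.Agent.S0276

/-!
# The Sylow 2-subgroups of `PSL(2,q)`

* `ElemData n U k0` : `U` is elementary of order `2 ^ n` and `k0` induces its automiser, a Singer cycle
* `DihData U z` : the facts about a dihedral Sylow 2-subgroup used later
* `sylow_cases` : one of them holds for each Sylow 2-subgroup of `PSL(2,q)`, `q > 3`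
-/

set_option autoImplicit false
set_option linter.unusedSectionVars false
set_option linter.style.haveILetI false

open Subgroup MulAction

namespace Cfsg.Agent.TwoTimesPSL

variable {M : Type*} [Group M] [Finite M]

/-- Elementary Sylow subgroup with a Singer cycle. -/
structure ElemData (n : ℕ) (U : Subgroup M) (k0 : M) : Prop where
  two_le : 2 ≤ n
  card : Nat.card U = 2 ^ n
  sq : ∀ u ∈ U, u * u = 1
  norm : ∀ u ∈ U, k0 * u * k0⁻¹ ∈ U
  trans : ∀ a ∈ U, a ≠ 1 → ∀ b ∈ U, b ≠ 1 → ∃ i : ℕ, k0 ^ i * a * (k0 ^ i)⁻¹ = b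
  order : ∀ u ∈ U, k0 ^ (2 ^ n - 1) * u * (k0 ^ (2 ^ n - 1))⁻¹ = u
  normal : ∀ g : M, (∀ u ∈ U, g * u * g⁻¹ ∈ U) →
    ∃ i : ℕ, ∀ u ∈ U, g * u * g⁻¹ = k0 ^ i * u * (k0 ^ i)⁻¹

/-- Dihedral Sylow subgroup. -/
structure DihData (U : Subgroup M) (z : M) : Prop where
  z_mem : z ∈ U
  z_ne : z ≠ 1
  sq_z : z * z = 1
  z_comm : ∀ d ∈ U, d * z = z * d
  z_sq : ∃ c ∈ U, c * c = z
  cen : ∀ x ∈ U, x * x = 1 → (∀ d ∈ U, x * d = d * x) → x = 1 ∨ x = z
  conj : ∀ d ∈ U, d * d = 1 → d ≠ 1 → ∃ g : M, g * z * g⁻¹ = d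
  count : Nat.card {d : M // d ∈ U ∧ d * d = 1 ∧ d ≠ 1} % 4 = 1
  inverting : ∀ x ∈ U, x * x = z → ∃ b ∈ U, b * b = 1 ∧ b * x * b = x⁻¹
  gen : U ≤ closure {d | d ∈ U ∧ d * d = 1}

section Klein

theorem elemData_of_klein (hconj : ∀ x y : M, orderOf x = 2 → orderOf y = 2 → IsConj x y)
    (Q : Sylow 2 M) (hQ : IsKleinFour (Q : Subgroup M)) :
    ∃ k0, ElemData 2 (Q : Subgroup M) k0 := by
  haveI : Fact (Nat.Prime 2) := ⟨Nat.prime_two⟩
  haveI := hQ
  have hsq : ∀ u ∈ (Q : Subgroup M), u * u = 1 := fun u hu =>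
    congrArg Subtype.val (IsKleinFour.mul_self (⟨u, hu⟩ : (Q : Subgroup M)))
  have hcard : Nat.card (Q : Subgroup M) = 4 := IsKleinFour.card_four
  haveI : IsMulCommutative (Q : Subgroup M) :=
    IsPGroup.isMulCommutative_of_card_eq_prime_sq (p := 2) (hcard.trans (by norm_num))
  have hcomm : ∀ u ∈ (Q : Subgroup M), ∀ v ∈ (Q : Subgroup M), u * v = v * u := fun u hu v hv =>
    congrArg Subtype.val (IsMulCommutative.is_comm.comm (⟨u, hu⟩ : (Q : Subgroup M)) ⟨v, hv⟩)
  have hfour : ∀ x ∈ (Q : Subgroup M), x ≠ 1 → ∀ y ∈ (Q : Subgroup M), y ≠ 1 → x ≠ y →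
      ∀ u ∈ (Q : Subgroup M), u = 1 ∨ u = x ∨ u = y ∨ u = x * y := by
    classical
    haveI := Fintype.ofFinite (Q : Subgroup M)
    intro x hx hx1 y hy hy1 hxy u hu
    have hmul : x * y ∈ (Q : Subgroup M) := (Q : Subgroup M).mul_mem hx hy
    let S : Finset M := {1, x, y, x * y}
    have hS : S.card = 4 := by
      rw [Finset.card_insert_of_notMem, Finset.card_insert_of_notMem, Finset.card_insert_of_notMem,
        Finset.card_singleton]
      · simp only [Finset.mem_singleton]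
        exact fun h => hx1 (right_eq_mul.1 h)
      · simp only [Finset.mem_insert, Finset.mem_singleton, not_or]
        exact ⟨hxy, fun h => hy1 (left_eq_mul.1 h)⟩
      · simp only [Finset.mem_insert, Finset.mem_singleton, not_or]
        refine ⟨Ne.symm hx1, Ne.symm hy1, fun h => hxy ?_⟩
        rw [eq_inv_of_mul_eq_one_left h.symm, inv_eq_of_mul_eq_one_right (hsq y hy)]
    have hsub : S ⊆ Finset.univ.image (fun v : (Q : Subgroup M) => (v : M)) := fun v hv => by
      simp only [S, Finset.mem_insert, Finset.mem_singleton] at hv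
      refine Finset.mem_image.2 ⟨⟨v, ?_⟩, Finset.mem_univ _, rfl⟩
      rcases hv with h | h | h | h <;> rw [h]
      · exact one_mem _
      · exact hx
      · exact hy
      · exact hmul
    have heq := Finset.eq_of_subset_of_card_le hsub (by
      rw [hS]
      refine Finset.card_image_le.trans ?_
      rw [Finset.card_univ, ← Nat.card_eq_fintype_card, hcard])
    have : u ∈ S := by
      rw [heq]
      exact Finset.mem_image.2 ⟨⟨u, hu⟩, Finset.mem_univ _, rfl⟩
    simpa [S] using this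
  obtain ⟨a, ha, ha1⟩ : ∃ a ∈ (Q : Subgroup M), a ≠ 1 := by
    by_contra h
    push Not at h
    rw [(Subgroup.eq_bot_iff_forall _).2 h, Subgroup.card_bot] at hcard
    omega
  obtain ⟨b, hb, hb1, hab⟩ : ∃ b ∈ (Q : Subgroup M), b ≠ 1 ∧ a ≠ b := by
    classical
    by_contra h
    push Not at h
    haveI := Fintype.ofFinite (Q : Subgroup M)
    have hs : (Finset.univ : Finset (Q : Subgroup M)) ⊆ {1, ⟨a, ha⟩} := fun u _ => by
      by_cases hu : u = 1
      · simp [hu]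
      · simp [show u = ⟨a, ha⟩ from Subtype.ext (h u u.2 (fun e => hu (Subtype.ext e))).symm]
    have := (Finset.card_le_card hs).trans Finset.card_le_two
    rw [Finset.card_univ, ← Nat.card_eq_fintype_card, hcard] at this
    omega
  have hall := hfour a ha ha1 b hb hb1 hab
  have hinv : ∀ u ∈ (Q : Subgroup M), u⁻¹ = u := fun u hu => inv_eq_of_mul_eq_one_right (hsq u hu)
  -- an element of the normaliser fixing one involution centralises
  have hfix : ∀ g ∈ normalizer ((Q : Subgroup M) : Set M), ∀ x ∈ (Q : Subgroup M), x ≠ 1 →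
      g * x * g⁻¹ = x → ∀ u ∈ (Q : Subgroup M), g * u * g⁻¹ = u := by
    intro g hg x hx hx1 hgx u hu
    have hgu : ∀ v ∈ (Q : Subgroup M), g * v * g⁻¹ ∈ (Q : Subgroup M) := fun v hv =>
      (Subgroup.mem_normalizer_iff.1 hg v).1 hv
    -- the square of `g` centralises
    have h2 : g * (g * u * g⁻¹) * g⁻¹ = u := by
      by_cases hu1 : u = 1
      · rw [hu1]; group
      by_cases hux : u = x
      · rw [hux, hgx, hgx]
      have hv1 : g * u * g⁻¹ ≠ 1 := fun h => hu1 (conj_eq_one_iff.1 h)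
      have hvx : g * u * g⁻¹ ≠ x := fun h => hux (by rw [← hgx, mul_left_inj, mul_right_inj] at h; exact h)
      rcases hfour x hx hx1 u hu hu1 (Ne.symm hux) _ (hgu u hu) with h | h | h | h
      · exact absurd h hv1
      · exact absurd h hvx
      · rw [h, h]
      · rw [h, ← conj_mul, hgx, h, ← mul_assoc, hsq x hx, one_mul]
    obtain ⟨j, o, ho, he⟩ := Nat.exists_eq_two_pow_mul_odd (n := orderOf g) (orderOf_pos g).ne'
    have hpow : ∀ i : ℕ, g ^ (2 * i) * u * (g ^ (2 * i))⁻¹ = u := by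
      intro i
      induction i with
      | zero => simp
      | succ i ih =>
        calc g ^ (2 * (i + 1)) * u * (g ^ (2 * (i + 1)))⁻¹
            = g * (g * (g ^ (2 * i) * u * (g ^ (2 * i))⁻¹) * g⁻¹) * g⁻¹ := by
              rw [show 2 * (i + 1) = 2 + 2 * i by ring, pow_add, pow_two]; group
          _ = u := by rw [ih, h2]
    have h2p : IsPGroup 2 (zpowers (g ^ o)) := by
      refine IsPGroup.of_card (n := j) ?_
      rw [Nat.card_zpowers, orderOf_pow' _ (by rintro rfl; simp at ho), he, Nat.gcd_mul_left_left,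
        Nat.mul_div_cancel _ (Nat.pos_of_ne_zero (by rintro rfl; simp at ho))]
    have hmem : g ^ o ∈ (Q : Subgroup M) := by
      have hp : IsPGroup 2 ((Q : Subgroup M) ⊔ zpowers (g ^ o) : Subgroup M) :=
        Q.2.to_sup_of_normal_left' h2p (zpowers_le.2 ((normalizer _).pow_mem hg o))
      rw [← Q.3 hp le_sup_left]
      exact mem_sup_right (mem_zpowers _)
    obtain ⟨i, hi⟩ := ho
    have h3 : g ^ o * u * (g ^ o)⁻¹ = u := by rw [hcomm _ hmem u hu, mul_inv_cancel_right]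
    rw [hi] at h3
    calc g * u * g⁻¹ = g * (g ^ (2 * i) * u * (g ^ (2 * i))⁻¹) * g⁻¹ := by rw [hpow]
      _ = g ^ (2 * i + 1) * u * (g ^ (2 * i + 1))⁻¹ := by rw [pow_succ']; group
      _ = u := h3
  have hmove : ∀ x ∈ (Q : Subgroup M), x ≠ 1 → ∀ y ∈ (Q : Subgroup M), y ≠ 1 →
      ∃ g ∈ normalizer ((Q : Subgroup M) : Set M), g * x * g⁻¹ = y := by
    intro x hx hx1 y hy hy1
    have ho : ∀ v ∈ (Q : Subgroup M), v ≠ 1 → orderOf v = 2 := fun v hv hv1 =>
      orderOf_eq_prime (by rw [pow_two]; exact hsq v hv) hv1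
    obtain ⟨g, hg⟩ := isConj_iff.1 (hconj x y (ho x hx hx1) (ho y hy hy1))
    have hcent : ∀ v ∈ (Q : Subgroup M), v ∈ centralizer ((Q : Subgroup M) : Set M) :=
      fun v hv w hw => hcomm w hw v hv
    obtain ⟨m, hm, hme⟩ := Q.conj_eq_normalizer_conj_of_mem_centralizer x g⁻¹ (hcent x hx)
      (by rw [inv_inv, hg]; exact hcent y hy)
    refine ⟨m⁻¹, (normalizer _).inv_mem hm, ?_⟩
    rw [inv_inv] at hme ⊢
    rw [← hme, hg]
  obtain ⟨k0, hk0, hk0a⟩ := hmove a ha ha1 b hb hb1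
  have hk : ∀ v ∈ (Q : Subgroup M), k0 * v * k0⁻¹ ∈ (Q : Subgroup M) := fun v hv =>
    (Subgroup.mem_normalizer_iff.1 hk0 v).1 hv
  have hk0b : k0 * b * k0⁻¹ = a * b := by
    rcases hall _ (hk b hb) with e | e | e | e
    · exact absurd (conj_eq_one_iff.1 e) hb1
    · exfalso
      -- `k0` would be an involution on `Q` fixing `a b`
      have hab' : k0 * (a * b) * k0⁻¹ = a * b := by
        rw [← conj_mul, hk0a, e, hcomm b hb a ha]
      have := hfix k0 hk0 (a * b) ((Q : Subgroup M).mul_mem ha hb) (fun h => hab (by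
        rw [eq_inv_of_mul_eq_one_left h, hinv b hb])) hab' a ha
      exact hab (this.symm.trans hk0a)
    · exact absurd ((mul_left_cancel (mul_right_cancel (e.trans hk0a.symm))).symm) hab
    · exact e
  have hk0ab : k0 * (a * b) * k0⁻¹ = a := by
    rw [← conj_mul, hk0a, hk0b, ← mul_assoc, hcomm b hb a ha, mul_assoc, hsq b hb, mul_one]
  have hcyc : ∀ u ∈ (Q : Subgroup M), u ≠ 1 → ∃ i : ℕ, k0 ^ i * a * (k0 ^ i)⁻¹ = u := by
    intro u hu hu1
    rcases hall u hu with e | e | e | e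
    · exact absurd e hu1
    · exact ⟨0, by rw [e]; simp⟩
    · exact ⟨1, by rw [e, pow_one, hk0a]⟩
    · exact ⟨2, by
        rw [e, pow_two, show k0 * k0 * a * (k0 * k0)⁻¹ = k0 * (k0 * a * k0⁻¹) * k0⁻¹ by group, hk0a, hk0b]⟩
  have horder : ∀ u ∈ (Q : Subgroup M), k0 ^ (2 ^ 2 - 1) * u * (k0 ^ (2 ^ 2 - 1))⁻¹ = u := by
    intro u hu
    rw [show k0 ^ (2 ^ 2 - 1) = k0 * (k0 * k0) by norm_num [pow_succ, mul_assoc],
      show k0 * (k0 * k0) * u * (k0 * (k0 * k0))⁻¹ = k0 * (k0 * (k0 * u * k0⁻¹) * k0⁻¹) * k0⁻¹ by group]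
    rcases hall u hu with e | e | e | e <;> rw [e]
    · group
    · rw [hk0a, hk0b, hk0ab]
    · rw [hk0b, hk0ab, hk0a]
    · rw [hk0ab, hk0a, hk0b]
  have hper : ∀ (j : ℕ) u, u ∈ (Q : Subgroup M) →
      k0 ^ (3 * j) * u * (k0 ^ (3 * j))⁻¹ = u := by
    intro j u hu
    induction j with
    | zero => simp
    | succ j ih =>
      calc k0 ^ (3 * (j + 1)) * u * (k0 ^ (3 * (j + 1)))⁻¹
          = k0 ^ (3 * j) * (k0 ^ (2 ^ 2 - 1) * u * (k0 ^ (2 ^ 2 - 1))⁻¹) * (k0 ^ (3 * j))⁻¹ := by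
            rw [show 3 * (j + 1) = 3 * j + (2 ^ 2 - 1) by norm_num; ring, pow_add]; group
        _ = u := by rw [horder u hu, ih]
  refine ⟨k0, le_rfl, hcard.trans (by norm_num), hsq, hk, ?_, horder, ?_⟩
  · intro x hx hx1 y hy hy1
    obtain ⟨i, hi⟩ := hcyc x hx hx1
    obtain ⟨j, hj⟩ := hcyc y hy hy1
    refine ⟨j + 2 * i, ?_⟩
    rw [← hi, ← hj]
    calc k0 ^ (j + 2 * i) * (k0 ^ i * a * (k0 ^ i)⁻¹) * (k0 ^ (j + 2 * i))⁻¹
        = k0 ^ j * (k0 ^ (3 * i) * a * (k0 ^ (3 * i))⁻¹) * (k0 ^ j)⁻¹ := by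
          rw [show 3 * i = 2 * i + i by ring, pow_add, pow_add]; group
      _ = _ := by rw [hper i a ha]
  · intro g hg
    obtain ⟨i, hi⟩ := hcyc (g * a * g⁻¹) (hg a ha) (fun h => ha1 (conj_eq_one_iff.1 h))
    refine ⟨i, fun u hu => ?_⟩
    have hgN : g ∈ normalizer ((Q : Subgroup M) : Set M) := by
      haveI : Finite ((Q : Subgroup M) : Set M) := Subtype.finite
      refine Subgroup.mem_normalizer_iff.2 fun x => ⟨hg x, fun hx => ?_⟩
      let f : ↥(Q : Subgroup M) → ↥(Q : Subgroup M) := fun y => ⟨g * (y : M) * g⁻¹, hg y y.2⟩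
      have hf : Function.Injective f := fun p q e => Subtype.ext (by
        have e' : g * (p : M) * g⁻¹ = g * (q : M) * g⁻¹ := congrArg Subtype.val e
        simpa using e')
      obtain ⟨y, hy⟩ := Finite.injective_iff_surjective.1 hf ⟨g * x * g⁻¹, hx⟩
      have e' : g * (y : M) * g⁻¹ = g * x * g⁻¹ := congrArg Subtype.val hy
      rw [mul_left_inj, mul_right_inj] at e'
      exact e' ▸ y.2
    have h := hfix ((k0 ^ i)⁻¹ * g)
      ((normalizer _).mul_mem ((normalizer _).inv_mem ((normalizer _).pow_mem hk0 i)) hgN) a ha ha1 (by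
        calc (k0 ^ i)⁻¹ * g * a * ((k0 ^ i)⁻¹ * g)⁻¹ = (k0 ^ i)⁻¹ * (g * a * g⁻¹) * k0 ^ i := by group
          _ = a := by rw [← hi]; group) u hu
    calc g * u * g⁻¹ = k0 ^ i * ((k0 ^ i)⁻¹ * g * u * ((k0 ^ i)⁻¹ * g)⁻¹) * (k0 ^ i)⁻¹ := by group
      _ = _ := by rw [h]

end Klein

section Dihedral

theorem dihData_of_equiv {j : ℕ} (hj : 2 ≤ j)
    (hconj : ∀ x y : M, orderOf x = 2 → orderOf y = 2 → IsConj x y) {U : Subgroup M}
    (e : U ≃* DihedralGroup (2 ^ j)) : ∃ z, DihData U z := by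
  classical
  obtain ⟨i, rfl⟩ := Nat.exists_eq_add_of_le hj
  set N := 2 ^ (2 + i) with hN
  haveI : NeZero N := ⟨(Nat.two_pow_pos _).ne'⟩
  have hN4 : N = 4 * 2 ^ i := by rw [hN, pow_add]; norm_num
  let q : ZMod N := ((2 ^ i : ℕ) : ZMod N)
  let h : ZMod N := q + q
  have hhN : h = ((2 * 2 ^ i : ℕ) : ZMod N) := by simp [h, q]; ring
  have hh0 : h ≠ 0 := by
    rw [hhN, Ne, ZMod.natCast_eq_zero_iff]
    intro hd
    have := Nat.le_of_dvd (by have := Nat.two_pow_pos i; omega) hd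
    have := Nat.two_pow_pos i
    omega
  have hhh : h + h = 0 := by
    rw [hhN, ← Nat.cast_add, ZMod.natCast_eq_zero_iff]
    exact ⟨1, by omega⟩
  have hhneg : -h = h := neg_eq_of_add_eq_zero_left hhh
  have htwo : ∀ x : ZMod N, x + x = 0 → x = 0 ∨ x = h := by
    intro x hx
    have h1 : N ∣ x.val + x.val := by
      rw [← ZMod.natCast_eq_zero_iff, Nat.cast_add, ZMod.natCast_zmod_val]
      exact hx
    have hlt := ZMod.val_lt x
    obtain ⟨c, hc⟩ := h1
    rcases c with _ | _ | c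
    · left
      rw [← ZMod.natCast_zmod_val x, show x.val = 0 by omega, Nat.cast_zero]
    · right
      rw [hhN, ← ZMod.natCast_zmod_val x]
      congr 1
      omega
    · exfalso
      have := Nat.mul_le_mul_left N (show 2 ≤ c + 1 + 1 by omega)
      omega
  have h2 : (2 : ZMod N) ≠ 0 := by
    intro h'
    have h'' : ((2 : ℕ) : ZMod N) = 0 := by exact_mod_cast h'
    rw [ZMod.natCast_eq_zero_iff] at h''
    have := Nat.le_of_dvd two_pos h''
    have := Nat.two_pow_pos i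
    omega
  let z : M := (e.symm (DihedralGroup.r h) : U)
  have hez : e ⟨z, (e.symm (DihedralGroup.r h)).2⟩ = DihedralGroup.r h := e.apply_symm_apply _
  have lift : ∀ (d : DihedralGroup N) (x : U), e x = d → ((e.symm d : U) : M) = x := fun d x hx => by
    rw [← hx, e.symm_apply_apply]
  refine ⟨z, (e.symm _).2, ?_, ?_, ?_, ?_, ?_, ?_, ?_, ?_, ?_⟩
  · intro h'
    have : DihedralGroup.r h = 1 := by
      rw [← e.apply_symm_apply (DihedralGroup.r h), show e.symm (DihedralGroup.r h) = 1 from Subtype.ext h',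
        map_one]
    rw [DihedralGroup.one_def, DihedralGroup.r.injEq] at this
    exact hh0 this
  · show ((e.symm _ * e.symm _ : U) : M) = ((1 : U) : M)
    rw [← map_mul, DihedralGroup.r_mul_r, hhh, ← DihedralGroup.one_def, map_one]
  · intro d hd
    show ((⟨d, hd⟩ * e.symm _ : U) : M) = ((e.symm _ * ⟨d, hd⟩ : U) : M)
    congr 1
    apply e.injective
    rw [map_mul, map_mul, e.apply_symm_apply]
    rcases e ⟨d, hd⟩ with k | k
    · rw [DihedralGroup.r_mul_r, DihedralGroup.r_mul_r, add_comm]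
    · rw [DihedralGroup.sr_mul_r, DihedralGroup.r_mul_sr, sub_eq_add_neg, hhneg]
  · refine ⟨_, (e.symm (DihedralGroup.r q)).2, ?_⟩
    show ((e.symm _ * e.symm _ : U) : M) = z
    rw [← map_mul, DihedralGroup.r_mul_r]
  · intro x hx hx2 hxc
    have hsq : e ⟨x, hx⟩ * e ⟨x, hx⟩ = 1 := by
      rw [← map_mul, show (⟨x, hx⟩ : U) * ⟨x, hx⟩ = 1 from Subtype.ext hx2, map_one]
    have hcm : ∀ d : DihedralGroup N, e ⟨x, hx⟩ * d = d * e ⟨x, hx⟩ := fun d => by
      conv_lhs => rw [← e.apply_symm_apply d]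
      conv_rhs => rw [← e.apply_symm_apply d]
      rw [← map_mul, ← map_mul]
      exact congrArg e (Subtype.ext (hxc _ (e.symm d).2))
    cases hd : e ⟨x, hx⟩ with
    | r k =>
      rw [hd, DihedralGroup.r_mul_r, DihedralGroup.one_def, DihedralGroup.r.injEq] at hsq
      rcases htwo k hsq with hk | hk
      · left
        rw [hk, ← DihedralGroup.one_def, map_eq_one_iff e e.injective] at hd
        exact congrArg Subtype.val hd
      · right
        rw [hk] at hd
        exact (lift _ _ hd).symm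
    | sr k =>
      exfalso
      have h1 := hcm (DihedralGroup.r 1)
      rw [hd, DihedralGroup.sr_mul_r, DihedralGroup.r_mul_sr, DihedralGroup.sr.injEq] at h1
      refine h2 ?_
      linear_combination h1
  · intro d hd hd2 hd1
    refine isConj_iff.1 (hconj z d (orderOf_eq_prime ?_ ?_) (orderOf_eq_prime (by rw [pow_two, hd2]) hd1))
    · rw [pow_two]
      show ((e.symm _ * e.symm _ : U) : M) = ((1 : U) : M)
      rw [← map_mul, DihedralGroup.r_mul_r, hhh, ← DihedralGroup.one_def, map_one]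
    · intro h'
      have : DihedralGroup.r h = 1 := by
        rw [← e.apply_symm_apply (DihedralGroup.r h), show e.symm (DihedralGroup.r h) = 1 from Subtype.ext h',
          map_one]
      rw [DihedralGroup.one_def, DihedralGroup.r.injEq] at this
      exact hh0 this
  · have key : Nat.card {d : M // d ∈ U ∧ d * d = 1 ∧ d ≠ 1} = Nat.card (Option (ZMod N)) := by
      symm
      refine Nat.card_eq_of_bijective (fun o : Option (ZMod N) =>
        (⟨((e.symm (o.elim (DihedralGroup.r h) DihedralGroup.sr) : U) : M), (e.symm _).2, by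
          show ((e.symm _ * e.symm _ : U) : M) = ((1 : U) : M)
          rw [← map_mul]
          cases o with
          | none => rw [Option.elim, DihedralGroup.r_mul_r, hhh, ← DihedralGroup.one_def, map_one]
          | some k => rw [Option.elim, DihedralGroup.sr_mul_self, map_one], by
          intro h'
          have h'' : o.elim (DihedralGroup.r h) DihedralGroup.sr = 1 := by
            rw [← e.apply_symm_apply (o.elim (DihedralGroup.r h) DihedralGroup.sr),
              show e.symm _ = (1 : U) from Subtype.ext h', map_one]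
          cases o with
          | none =>
            rw [Option.elim, DihedralGroup.one_def, DihedralGroup.r.injEq] at h''
            exact hh0 h''
          | some k => rw [Option.elim, DihedralGroup.one_def] at h''; cases h''⟩ :
          {d : M // d ∈ U ∧ d * d = 1 ∧ d ≠ 1})) ⟨?_, ?_⟩
      · intro o o' ho
        have h0 : ((e.symm (o.elim (DihedralGroup.r h) DihedralGroup.sr) : U) : M) =
            ((e.symm (o'.elim (DihedralGroup.r h) DihedralGroup.sr) : U) : M) :=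
          congrArg (fun x : {d : M // d ∈ U ∧ d * d = 1 ∧ d ≠ 1} => (x : M)) ho
        have h' := e.symm.injective (Subtype.ext h0)
        rcases o with _ | k <;> rcases o' with _ | k' <;> simp [Option.elim] at h'
        · rfl
        · rw [h']
      · rintro ⟨d, hd, hd2, hd1⟩
        have hsq : e ⟨d, hd⟩ * e ⟨d, hd⟩ = 1 := by
          rw [← map_mul, show (⟨d, hd⟩ : U) * ⟨d, hd⟩ = 1 from Subtype.ext hd2, map_one]
        cases hd' : e ⟨d, hd⟩ with
        | r k =>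
          rw [hd', DihedralGroup.r_mul_r, DihedralGroup.one_def, DihedralGroup.r.injEq] at hsq
          rcases htwo k hsq with hk | hk
          · exfalso
            rw [hk, ← DihedralGroup.one_def, map_eq_one_iff e e.injective] at hd'
            exact hd1 (congrArg Subtype.val hd')
          · rw [hk] at hd'
            exact ⟨none, Subtype.ext (lift _ _ hd')⟩
        | sr k => exact ⟨some k, Subtype.ext (lift _ _ hd')⟩
    rw [key, Finite.card_option, Nat.card_zmod]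
    omega
  · intro x hx hxz
    have hsq : e ⟨x, hx⟩ * e ⟨x, hx⟩ = DihedralGroup.r h := by
      rw [← map_mul, ← hez]
      exact congrArg e (Subtype.ext hxz)
    cases hd : e ⟨x, hx⟩ with
    | r k =>
      refine ⟨_, (e.symm (DihedralGroup.sr 0)).2, ?_, ?_⟩
      · show ((e.symm _ * e.symm _ : U) : M) = ((1 : U) : M)
        rw [← map_mul, DihedralGroup.sr_mul_self, map_one]
      · show ((e.symm _ * ⟨x, hx⟩ * e.symm _ : U) : M) = (((⟨x, hx⟩ : U)⁻¹ : U) : M)
        congr 1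
        apply e.injective
        rw [map_mul, map_mul, map_inv, e.apply_symm_apply, hd, DihedralGroup.sr_mul_r,
          DihedralGroup.sr_mul_sr, DihedralGroup.inv_r]
        congr 1
        ring
    | sr k =>
      exfalso
      rw [hd, DihedralGroup.sr_mul_self, DihedralGroup.one_def, DihedralGroup.r.injEq] at hsq
      exact hh0 hsq.symm
  · intro x hx
    let W : Subgroup M := closure {d | d ∈ U ∧ d * d = 1}
    have hsr : ∀ k : ZMod N, ((e.symm (DihedralGroup.sr k) : U) : M) ∈ W := fun k =>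
      subset_closure ⟨(e.symm _).2, by
        show ((e.symm _ * e.symm _ : U) : M) = ((1 : U) : M)
        rw [← map_mul, DihedralGroup.sr_mul_self, map_one]⟩
    cases hd : e ⟨x, hx⟩ with
    | r k =>
      have : ((e.symm (DihedralGroup.sr 0) * e.symm (DihedralGroup.sr k) : U) : M) ∈ W := W.mul_mem (hsr 0) (hsr k)
      rw [← map_mul, DihedralGroup.sr_mul_sr, sub_zero, lift _ _ hd] at this
      exact this
    | sr k =>
      have := hsr k
      rw [lift _ _ hd] at this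
      exact this

end Dihedral

section PSL

variable {F : Type*} [Field F] [Finite F]

theorem elemData_of_even (h4 : 4 ≤ Nat.card F) (he : Even (Nat.card F)) (Q : Sylow 2 (PSL2.PSL2 F)) :
    ∃ n k0, ElemData n (Q : Subgroup (PSL2.PSL2 F)) k0 := by
  classical
  haveI : Fact (Nat.Prime 2) := ⟨Nat.prime_two⟩
  haveI hch : CharP F 2 := by
    obtain ⟨p, hp⟩ := CharP.exists F
    haveI : Fact p.Prime := ⟨CharP.char_is_prime F p⟩
    obtain ⟨n, hn, hq, ⟨hp2, -⟩ | ⟨-, ho, -⟩⟩ := PSL2.q_cases (F := F) p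
    · exact hp2 ▸ hp
    · exact absurd he (Nat.not_even_iff_odd.2 ho)
  obtain ⟨n, hn, hq, ⟨-, -, hd, -⟩ | ⟨h, -⟩⟩ := PSL2.q_cases (F := F) 2
  swap
  · exact absurd rfl h
  have hn2 : 2 ≤ n := by
    by_contra hlt
    rw [hq, show n = 1 by omega] at h4
    norm_num at h4
  have hqodd : Odd (Nat.card F - 1) := Nat.Even.sub_odd (by omega) he odd_one
  obtain ⟨P, hP⟩ := PSL2.normalizer_sylow_le 2 Q
  have hQP : (Q : Subgroup (PSL2.PSL2 F)) ≤ stabilizer (PSL2.PSL2 F) P := Subgroup.le_normalizer.trans hP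
  obtain ⟨ψ, hψ⟩ := PSL2.exists_borel_hom 2 P
  have hQker : ∀ {x : stabilizer (PSL2.PSL2 F) P}, (x : PSL2.PSL2 F) ∈ (Q : Subgroup (PSL2.PSL2 F)) →
      ψ x = 1 := by
    intro x hx
    obtain ⟨k, hk⟩ := Q.isPGroup' ⟨x, hx⟩
    rw [← orderOf_eq_one_iff]
    have h1 : orderOf (ψ x) ∣ 2 ^ k := orderOf_dvd_of_pow_eq_one (by
      rw [← map_pow, show x ^ (2 ^ k) = 1 from Subtype.ext (by simpa using congrArg Subtype.val hk), map_one])
    have h2 : orderOf (ψ x) ∣ Nat.card F - 1 := by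
      rw [← Nat.card_units]; exact _root_.orderOf_dvd_natCard _
    exact Nat.eq_one_of_dvd_coprimes (Nat.Coprime.pow_left k (Nat.coprime_two_left.2 hqodd)) h1 h2
  have hker : ψ.ker.map (stabilizer (PSL2.PSL2 F) P).subtype = (Q : Subgroup (PSL2.PSL2 F)) := by
    refine Q.3 ?_ ?_
    · rintro ⟨_, x, hx, rfl⟩
      exact ⟨1, Subtype.ext ((hψ x).1 hx)⟩
    · intro x hx
      exact ⟨⟨x, hQP hx⟩, hQker hx, rfl⟩
  have hsq : ∀ u ∈ (Q : Subgroup (PSL2.PSL2 F)), u * u = 1 := fun u hu => by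
    have := (hψ ⟨u, hQP hu⟩).1 (hQker hu)
    rwa [pow_two] at this
  have hcomm : ∀ u ∈ (Q : Subgroup (PSL2.PSL2 F)), ∀ v ∈ (Q : Subgroup (PSL2.PSL2 F)), u * v = v * u := by
    intro u hu v hv
    have h := inv_eq_of_mul_eq_one_right (hsq _ ((Q : Subgroup (PSL2.PSL2 F)).mul_mem hu hv))
    rw [mul_inv_rev, inv_eq_of_mul_eq_one_right (hsq u hu), inv_eq_of_mul_eq_one_right (hsq v hv)] at h
    exact h.symm
  have hmemQ : ∀ {x : stabilizer (PSL2.PSL2 F) P}, ψ x = 1 → (x : PSL2.PSL2 F) ∈ (Q : Subgroup (PSL2.PSL2 F)) :=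
    fun {x} hx => hker ▸ ⟨x, hx, rfl⟩
  have hnorm : ∀ g : stabilizer (PSL2.PSL2 F) P, ∀ u ∈ (Q : Subgroup (PSL2.PSL2 F)),
      (g : PSL2.PSL2 F) * u * (g : PSL2.PSL2 F)⁻¹ ∈ (Q : Subgroup (PSL2.PSL2 F)) := by
    intro g u hu
    exact hmemQ (x := g * ⟨u, hQP hu⟩ * g⁻¹) (by
      rw [map_mul, map_mul, hQker (x := ⟨u, hQP hu⟩) hu, mul_one, map_inv, mul_inv_cancel])
  -- the order of `Q` and of the range
  have hQcard : Nat.card (Q : Subgroup (PSL2.PSL2 F)) = 2 ^ n := by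
    have hGc := PSL2.card_psl_mul (F := F)
    rw [hd, one_mul] at hGc
    refine SmallOrders.card_sylow_subgroup (e := n) (m := (Nat.card F + 1) * (Nat.card F - 1))
      (by rw [hGc, hq]) ?_ Q
    intro h
    rcases Nat.prime_two.dvd_mul.1 h with h' | h'
    · rw [Nat.even_iff] at he; omega
    · rw [Nat.odd_iff] at hqodd; omega
  have hrange : Nat.card ψ.range = Nat.card F - 1 := by
    have h1 := PSL2.card_borel_mul (F := F) P
    rw [hd, one_mul] at h1
    have h2 := ψ.ker.card_mul_index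
    rw [Subgroup.index_ker, h1, Nat.card_congr (ψ.ker.equivMapOfInjective (stabilizer (PSL2.PSL2 F) P).subtype Subtype.val_injective).toEquiv,
      hker, hQcard, ← hq] at h2
    exact Nat.eq_of_mul_eq_mul_left (by omega) h2
  haveI : IsCyclic ψ.range := inferInstance
  obtain ⟨g0, hg0⟩ := IsCyclic.exists_generator (α := ψ.range)
  obtain ⟨k, hk⟩ : ∃ k, ψ k = (g0 : Fˣ) := g0.2
  have hg0o : orderOf g0 = Nat.card F - 1 := by
    rw [orderOf_eq_card_of_forall_mem_zpowers hg0, hrange]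
  have hact : ∀ g : stabilizer (PSL2.PSL2 F) P, ∃ i : ℕ, ∀ u ∈ (Q : Subgroup (PSL2.PSL2 F)),
      (g : PSL2.PSL2 F) * u * (g : PSL2.PSL2 F)⁻¹ =
        (k : PSL2.PSL2 F) ^ i * u * ((k : PSL2.PSL2 F) ^ i)⁻¹ := by
    intro g
    obtain ⟨i, hi⟩ := (IsOfFinOrder.mem_powers_iff_mem_zpowers (isOfFinOrder_of_finite g0)).2
      (hg0 ⟨ψ g, g, rfl⟩)
    refine ⟨i, fun u hu => ?_⟩
    have hi' : ψ (k ^ i) = ψ g := by
      rw [map_pow, hk]; exact congrArg Subtype.val hi
    have hw : ((((k ^ i)⁻¹ * g : stabilizer (PSL2.PSL2 F) P)) : PSL2.PSL2 F) ∈ (Q : Subgroup (PSL2.PSL2 F)) :=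
      hmemQ (by rw [map_mul, map_inv, hi', inv_mul_cancel])
    have hc := hcomm _ hw u hu
    rw [Subgroup.coe_mul, Subgroup.coe_inv, SubmonoidClass.coe_pow] at hc
    calc (g : PSL2.PSL2 F) * u * (g : PSL2.PSL2 F)⁻¹
        = (k : PSL2.PSL2 F) ^ i * (((k : PSL2.PSL2 F) ^ i)⁻¹ * (g : PSL2.PSL2 F) * u) * (g : PSL2.PSL2 F)⁻¹ := by group
      _ = _ := by rw [hc]; group
  have hkQ : ∀ i : ℕ, ∀ u ∈ (Q : Subgroup (PSL2.PSL2 F)),
      (k : PSL2.PSL2 F) ^ i * u * ((k : PSL2.PSL2 F) ^ i)⁻¹ ∈ (Q : Subgroup (PSL2.PSL2 F)) := fun i u hu => by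
    have := hnorm (k ^ i) u hu
    rwa [SubmonoidClass.coe_pow] at this
  have horder : ∀ u ∈ (Q : Subgroup (PSL2.PSL2 F)),
      (k : PSL2.PSL2 F) ^ (2 ^ n - 1) * u * ((k : PSL2.PSL2 F) ^ (2 ^ n - 1))⁻¹ = u := by
    intro u hu
    have hmem : ((k ^ (2 ^ n - 1) : stabilizer (PSL2.PSL2 F) P) : PSL2.PSL2 F) ∈ (Q : Subgroup (PSL2.PSL2 F)) :=
      hmemQ (by
        rw [map_pow, hk, ← SubmonoidClass.coe_pow, ← hq, ← hg0o, pow_orderOf_eq_one, Subgroup.coe_one])
    rw [SubmonoidClass.coe_pow] at hmem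
    rw [hcomm _ hmem u hu, mul_inv_cancel_right]
  -- transitivity
  have htrans : ∀ a ∈ (Q : Subgroup (PSL2.PSL2 F)), a ≠ 1 → ∀ b ∈ (Q : Subgroup (PSL2.PSL2 F)), b ≠ 1 →
      ∃ i : ℕ, (k : PSL2.PSL2 F) ^ i * a * ((k : PSL2.PSL2 F) ^ i)⁻¹ = b := by
    intro a ha ha1 b hb hb1
    have hao : orderOf a = 2 := orderOf_eq_prime (by rw [pow_two]; exact hsq a ha) ha1
    have hCQ : centralizer ({a} : Set (PSL2.PSL2 F)) = (Q : Subgroup (PSL2.PSL2 F)) := by
      symm
      refine Subgroup.eq_of_le_of_card_ge (fun u hu => mem_centralizer_singleton_iff.2 (hcomm u hu a ha)) ?_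
      rw [PSL2.card_centralizer_char 2 hao, hQcard, hq]
    haveI := Fintype.ofFinite (Q : Subgroup (PSL2.PSL2 F))
    let f : Fin (2 ^ n - 1) → (Q : Subgroup (PSL2.PSL2 F)) := fun i => ⟨_, hkQ i a ha⟩
    have hf : Function.Injective f := by
      intro i j hij
      have h' : (k : PSL2.PSL2 F) ^ (i : ℕ) * a * ((k : PSL2.PSL2 F) ^ (i : ℕ))⁻¹ =
          (k : PSL2.PSL2 F) ^ (j : ℕ) * a * ((k : PSL2.PSL2 F) ^ (j : ℕ))⁻¹ := congrArg Subtype.val hij
      have hc : ((k : PSL2.PSL2 F) ^ (j : ℕ))⁻¹ * (k : PSL2.PSL2 F) ^ (i : ℕ) ∈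
          (Q : Subgroup (PSL2.PSL2 F)) := by
        rw [← hCQ, mem_centralizer_singleton_iff]
        calc ((k : PSL2.PSL2 F) ^ (j : ℕ))⁻¹ * (k : PSL2.PSL2 F) ^ (i : ℕ) * a
            = ((k : PSL2.PSL2 F) ^ (j : ℕ))⁻¹ *
                ((k : PSL2.PSL2 F) ^ (i : ℕ) * a * ((k : PSL2.PSL2 F) ^ (i : ℕ))⁻¹) *
                (k : PSL2.PSL2 F) ^ (i : ℕ) := by group
          _ = a * (((k : PSL2.PSL2 F) ^ (j : ℕ))⁻¹ * (k : PSL2.PSL2 F) ^ (i : ℕ)) := by rw [h']; group
      have h1 := hQker (x := (k ^ (j : ℕ))⁻¹ * k ^ (i : ℕ)) (by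
        rw [Subgroup.coe_mul, Subgroup.coe_inv, SubmonoidClass.coe_pow, SubmonoidClass.coe_pow]; exact hc)
      rw [map_mul, map_inv, map_pow, map_pow, hk, inv_mul_eq_one] at h1
      have h2 : g0 ^ (i : ℕ) = g0 ^ (j : ℕ) := Subtype.ext (by simpa using h1.symm)
      exact Fin.ext (pow_injOn_Iio_orderOf (by rw [hg0o, hq]; exact i.2) (by rw [hg0o, hq]; exact j.2) h2)
    have himg : Finset.univ.image f = Finset.univ.erase 1 := by
      refine Finset.eq_of_subset_of_card_le (fun x hx => ?_) ?_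
      · obtain ⟨i, -, rfl⟩ := Finset.mem_image.1 hx
        exact Finset.mem_erase.2 ⟨fun h => ha1 (conj_eq_one_iff.1 (congrArg Subtype.val h)), Finset.mem_univ _⟩
      · rw [Finset.card_image_of_injective _ hf, Finset.card_univ, Fintype.card_fin,
          Finset.card_erase_of_mem (Finset.mem_univ _), Finset.card_univ, ← Nat.card_eq_fintype_card, hQcard]
    have : (⟨b, hb⟩ : (Q : Subgroup (PSL2.PSL2 F))) ∈ Finset.univ.image f := by
      rw [himg]; exact Finset.mem_erase.2 ⟨fun h => hb1 (congrArg Subtype.val h), Finset.mem_univ _⟩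
    obtain ⟨i, -, hi⟩ := Finset.mem_image.1 this
    exact ⟨i, congrArg Subtype.val hi⟩
  refine ⟨n, (k : PSL2.PSL2 F), hn2, hQcard, hsq, fun u hu => hnorm k u hu, htrans, horder, fun g hg => ?_⟩
  have hgN : g ∈ normalizer ((Q : Subgroup (PSL2.PSL2 F)) : Set (PSL2.PSL2 F)) := by
    refine Subgroup.mem_normalizer_iff.2 fun x => ⟨hg x, fun hx => ?_⟩
    let f : ↥(Q : Subgroup (PSL2.PSL2 F)) → ↥(Q : Subgroup (PSL2.PSL2 F)) :=
      fun y => ⟨g * (y : PSL2.PSL2 F) * g⁻¹, hg y y.2⟩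
    have hf : Function.Injective f := fun p q e => Subtype.ext (by
      have e' : g * (p : PSL2.PSL2 F) * g⁻¹ = g * (q : PSL2.PSL2 F) * g⁻¹ := congrArg Subtype.val e
      simpa using e')
    obtain ⟨y, hy⟩ := Finite.injective_iff_surjective.1 hf ⟨g * x * g⁻¹, hx⟩
    have e' : g * (y : PSL2.PSL2 F) * g⁻¹ = g * x * g⁻¹ := congrArg Subtype.val hy
    rw [mul_left_inj, mul_right_inj] at e'
    exact e' ▸ y.2
  exact hact ⟨g, hP hgN⟩

/-- The two cases. -/
theorem sylow_cases (h3 : 3 < Nat.card F) (Q : Sylow 2 (PSL2.PSL2 F)) :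
    (∃ n k0, ElemData n (Q : Subgroup (PSL2.PSL2 F)) k0) ∨
      ∃ z, DihData (Q : Subgroup (PSL2.PSL2 F)) z := by
  classical
  haveI : Fact (Nat.Prime 2) := ⟨Nat.prime_two⟩
  rcases Nat.even_or_odd (Nat.card F) with he | ho
  · exact Or.inl (elemData_of_even h3 he Q)
  have hconj : ∀ x y : PSL2.PSL2 F, orderOf x = 2 → orderOf y = 2 → IsConj x y :=
    fun x y => PSL2.involution_isConj ho
  by_cases hq : Nat.card F % 8 = 3 ∨ Nat.card F % 8 = 5
  · left
    haveI := Fintype.ofFinite F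
    exact ⟨2, elemData_of_klein hconj Q (S0276.result (F := F) Nat.card_eq_fintype_card.symm hq Q)⟩
  right
  have hg : Nat.gcd 2 (Nat.card F - 1) = 2 :=
    Nat.gcd_eq_left (by obtain ⟨k, hk⟩ := ho; omega)
  obtain ⟨N, j, o, hNo, hoo, hj, hdiv, hcard⟩ : ∃ N j o : ℕ, N = 2 ^ j * o ∧ Odd o ∧ 2 ≤ j ∧
      (N = (Nat.card F - 1) / 2 ∨ N = (Nat.card F + 1) / 2) ∧
      ∃ w, Odd w ∧ Nat.card (PSL2.PSL2 F) = 2 ^ (j + 1) * (o * w) := by
    have hGc := PSL2.card_psl_mul (F := F)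
    rw [hg] at hGc
    obtain ⟨r, hr⟩ := ho
    have hqo : Odd (Nat.card F) := ⟨r, hr⟩
    rw [Nat.odd_iff] at hqo
    rcases (show Nat.card F % 8 = 1 ∨ Nat.card F % 8 = 7 by omega) with h8 | h8
    · obtain ⟨j, o, hoo, he⟩ := Nat.exists_eq_two_pow_mul_odd (n := (Nat.card F - 1) / 2) (by omega)
      refine ⟨_, j, o, he, hoo, ?_, Or.inl rfl, Nat.card F * ((Nat.card F + 1) / 2), ?_, ?_⟩
      · by_contra hlt
        rw [Nat.odd_iff] at hoo
        interval_cases j <;> omega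
      · exact Nat.odd_mul.2 ⟨Nat.odd_iff.2 hqo, Nat.odd_iff.2 (by omega)⟩
      · refine Nat.eq_of_mul_eq_mul_left two_pos ?_
        rw [hGc]
        obtain ⟨A, hA⟩ : ∃ A, Nat.card F + 1 = 2 * A := ⟨(Nat.card F + 1) / 2, by omega⟩
        rw [show Nat.card F - 1 = 2 * ((Nat.card F - 1) / 2) by omega, he, hA,
          Nat.mul_div_cancel_left _ two_pos]
        ring
    · obtain ⟨j, o, hoo, he⟩ := Nat.exists_eq_two_pow_mul_odd (n := (Nat.card F + 1) / 2) (by omega)
      refine ⟨_, j, o, he, hoo, ?_, Or.inr rfl, Nat.card F * ((Nat.card F - 1) / 2), ?_, ?_⟩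
      · by_contra hlt
        rw [Nat.odd_iff] at hoo
        interval_cases j <;> omega
      · exact Nat.odd_mul.2 ⟨Nat.odd_iff.2 hqo, Nat.odd_iff.2 (by omega)⟩
      · refine Nat.eq_of_mul_eq_mul_left two_pos ?_
        rw [hGc]
        obtain ⟨A, hA⟩ : ∃ A, Nat.card F - 1 = 2 * A := ⟨(Nat.card F - 1) / 2, by omega⟩
        rw [show Nat.card F + 1 = 2 * ((Nat.card F + 1) / 2) by omega, he, hA,
          Nat.mul_div_cancel_left _ two_pos]
        ring
  obtain ⟨w, hw, hcard⟩ := hcard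
  have h2j : 2 ≤ 2 ^ j := le_trans (le_of_eq (pow_one 2).symm) (Nat.pow_le_pow_right two_pos (by omega))
  obtain ⟨H, ⟨e⟩⟩ := PSL2.exists_dihedral_sub (F := F) (n := 2 ^ j) h2j (by
    rw [hg]
    exact hdiv.imp (fun h => ⟨o, h.symm.trans hNo⟩) (fun h => ⟨o, h.symm.trans hNo⟩))
  have hHcard : Nat.card H = 2 ^ (j + 1) := by
    rw [Nat.card_congr e.toEquiv, DihedralGroup.nat_card, pow_succ, mul_comm]
  have hHp : IsPGroup 2 H := IsPGroup.of_card hHcard
  have hidx : ¬ 2 ∣ H.index := by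
    have h := H.card_mul_index
    rw [hHcard, hcard] at h
    rw [Nat.eq_of_mul_eq_mul_left (Nat.two_pow_pos _) h]
    exact Nat.not_even_iff_odd.2 (Nat.odd_mul.2 ⟨hoo, hw⟩) ∘ even_iff_two_dvd.2
  exact dihData_of_equiv hj hconj ((Sylow.equiv Q (hHp.toSylow hidx)).trans e)

end PSL

end Cfsg.Agent.TwoTimesPSL
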