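import Cfsg.Agent.EqLemmas
import Cfsg.Agent.Lib.PGroup.Basic

/-!
# A 2-group with an involution centralised by a Singer automorphism

`Setup n ρ t` : `t` is an involution of the 2-group `X`, `|C(t)| = 2 ^ (n + 1)`, `C(t)` is commutative and
`ρ` fixes `t`, has exponent `2 ^ n - 1` and acts freely on `C(t) / ⟨t⟩`.

* `Setup.fix` : `ρ` acts freely outside `⟨t⟩` on all of `X`
* `Setup.not_mem` : `t ∉ X'`
* `Setup.exists_R` : `X / X' = ⟨t⟩ × R / X'` with `ρ` transitive on the non-trivial cosets in `R`,
  and `t X'` is the class of `t`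
* `Setup.small` : an involution of `R` with small centralizer forces `X = C(t)`
-/

set_option autoImplicit false
set_option linter.unusedSectionVars false
set_option linter.style.haveILetI false

open Subgroup
open scoped commutatorElement

namespace Cfsg.Agent.TwoTimesPSL

variable {X : Type*} [Group X] [Finite X]

theorem of_surjective : Function.Surjective (Abelianization.of : X →* Abelianization X) :=
  fun a => QuotientGroup.mk_surjective a

theorem of_eq_one_iff {x : X} : Abelianization.of x = 1 ↔ x ∈ commutator X := QuotientGroup.eq_one_iff x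

/-- The situation. -/
structure Setup (n : ℕ) (ρ : MulAut X) (t : X) : Prop where
  two_le : 2 ≤ n
  pgroup : IsPGroup 2 X
  ne_one : t ≠ 1
  sq : t * t = 1
  card_cent : Nat.card (centralizer ({t} : Set X)) = 2 ^ (n + 1)
  comm : ∀ x ∈ centralizer ({t} : Set X), ∀ y ∈ centralizer ({t} : Set X), x * y = y * x
  fix_t : ρ t = t
  order : ρ ^ (2 ^ n - 1) = 1
  reg : ∀ i : ℕ, ¬ (2 ^ n - 1) ∣ i → ∀ x ∈ centralizer ({t} : Set X), (ρ ^ i) x = x → x = 1 ∨ x = t

namespace Setup

variable {n : ℕ} {ρ : MulAut X} {t : X} (S : Setup n ρ t)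
include S

theorem four_le : 4 ≤ 2 ^ n :=
  le_trans (le_of_eq (by norm_num : (4 : ℕ) = 2 ^ 2)) (Nat.pow_le_pow_right two_pos S.two_le)

theorem pow_t (i : ℕ) : (ρ ^ i) t = t := by
  induction i with
  | zero => rfl
  | succ i ih => rw [pow_succ', MulAut.mul_apply, ih, S.fix_t]

/-- A non-trivial power of `ρ` fixes only `1` and `t`. -/
theorem fix {i : ℕ} (hi : ¬ (2 ^ n - 1) ∣ i) {x : X} (hx : (ρ ^ i) x = x) : x = 1 ∨ x = t := by
  haveI : Fact (Nat.Prime 2) := ⟨Nat.prime_two⟩
  let Y : Subgroup X := (ρ ^ i).toMonoidHom.eqLocus (MonoidHom.id X)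
  have htY : t ∈ Y := S.pow_t i
  have hxY : x ∈ Y := hx
  have : Nontrivial Y := ⟨⟨⟨t, htY⟩, 1, fun h => S.ne_one (congrArg Subtype.val h)⟩⟩
  haveI := (S.pgroup.to_subgroup Y).center_nontrivial
  obtain ⟨⟨z, hz⟩, hz1⟩ := exists_ne (1 : center Y)
  have hzc : ∀ y : Y, y * z = z * y := mem_center_iff.mp hz
  have hzt : (z : X) ∈ centralizer ({t} : Set X) :=
    mem_centralizer_singleton_iff.mpr (congrArg Subtype.val (hzc ⟨t, htY⟩)).symm
  rcases S.reg i hi z hzt z.2 with h | h
  · exact absurd (Subtype.ext (Subtype.ext h)) hz1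
  · refine S.reg i hi x (mem_centralizer_singleton_iff.mpr ?_) hx
    have := congrArg Subtype.val (hzc ⟨x, hxY⟩)
    rw [coe_mul, coe_mul, h] at this
    exact this

omit S in
theorem index_centralizer (a : X) : (centralizer ({a} : Set X)).index = Nat.card (conjugatesOf a) := by
  have h := MulAction.index_stabilizer (ConjAct X) a
  rw [ConjAct.stabilizer_eq_centralizer, ConjAct.orbit_eq_carrier_conjClasses] at h
  rw [Nat.card_coe_set_eq]
  exact h

/-- The class of `t` has index `2 ^ (n + 1)`. -/
theorem card_class : Nat.card (conjugatesOf t) * 2 ^ (n + 1) = Nat.card X := by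
  rw [← S.card_cent]
  have h2 := index_centralizer t
  rw [← h2, mul_comm]
  exact card_mul_index _

omit S in
theorem conj_mem_coset {L : Subgroup X} {a : X} (h : ∀ x : X, ⁅x, a⁆ ∈ L) :
    Nat.card (conjugatesOf a) ≤ Nat.card L := by
  have hsub : conjugatesOf a ⊆ (fun l => l * a) '' (L : Set X) := by
    intro b hb
    obtain ⟨x, rfl⟩ := isConj_iff.mp hb
    exact ⟨⁅x, a⁆, h x, by rw [commutatorElement_def]; group⟩
  rw [Nat.card_coe_set_eq]
  refine (Set.ncard_le_ncard hsub (Set.toFinite _)).trans ?_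
  refine (Set.ncard_image_le (Set.toFinite _)).trans_eq ?_
  exact (Nat.card_coe_set_eq _).symm

theorem le_card_centralizer (a : X) :
    (commutator X).index ≤ Nat.card (centralizer ({a} : Set X)) := by
  have h1 := card_mul_index (centralizer ({a} : Set X))
  have h2 := card_mul_index (commutator X)
  have h3 := conj_mem_coset (L := commutator X) (a := a) fun x =>
    commutator_mem_commutator (mem_top x) (mem_top a)
  have h4 := index_centralizer a
  rw [h4] at h1
  have hpos : 0 < Nat.card (commutator X) := Nat.card_pos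
  refine Nat.le_of_mul_le_mul_left ?_ hpos
  calc Nat.card (commutator X) * (commutator X).index
      = Nat.card (centralizer ({a} : Set X)) * Nat.card (conjugatesOf a) := by rw [h2, h1]
    _ ≤ Nat.card (centralizer ({a} : Set X)) * Nat.card (commutator X) := Nat.mul_le_mul_left _ h3
    _ = _ := mul_comm _ _

/-- The automorphism induced on `X / X'`. -/
noncomputable def bar (_ : Setup n ρ t) : MulAut (Abelianization X) := ρ.abelianizationCongr

theorem bar_pow (i : ℕ) (x : X) :
    (S.bar ^ i) (Abelianization.of x) = Abelianization.of ((ρ ^ i) x) := by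
  induction i with
  | zero => rfl
  | succ i ih =>
    rw [pow_succ', pow_succ', MulAut.mul_apply, MulAut.mul_apply, ih]
    rfl

theorem bar_order : S.bar ^ (2 ^ n - 1) = 1 := by
  refine MulEquiv.ext fun a => ?_
  obtain ⟨x, rfl⟩ := of_surjective a
  rw [S.bar_pow, S.order]
  rfl

/-- Freeness on `X / X'`. -/
theorem bar_fix {i : ℕ} (hi : ¬ (2 ^ n - 1) ∣ i) {a : Abelianization X} (ha : (S.bar ^ i) a = a) :
    a = 1 ∨ a = Abelianization.of t := by
  haveI : Fact (Nat.Prime 2) := ⟨Nat.prime_two⟩
  classical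
  obtain ⟨x, rfl⟩ := of_surjective a
  -- a fixed point in the coset, as the orbits have odd size and the coset has 2-power size
  let σ := ρ ^ i
  let Z : Set X := {y | Abelianization.of y = Abelianization.of x}
  have hσ : ∀ y ∈ Z, σ y ∈ Z := fun y hy => by
    show Abelianization.of (σ y) = _
    rw [← S.bar_pow i y, show Abelianization.of y = Abelianization.of x from hy, ha]
  suffices h : ∃ y ∈ Z, σ y = y by
    obtain ⟨y, hy, hy1⟩ := h
    rcases S.fix hi hy1 with rfl | rfl
    · left; rw [← hy]; exact map_one _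
    · right; exact hy.symm
  by_contra hno
  push Not at hno
  -- the group generated by `σ` has odd order, so an odd prime acts freely
  have hord : σ ^ (2 ^ n - 1) = 1 := by rw [← pow_mul, mul_comm, pow_mul, S.order, one_pow]
  haveI : Finite (MulAut X) := Finite.of_injective (fun f : MulAut X => (f : X → X)) DFunLike.coe_injective
  let H := Subgroup.zpowers σ
  letI : MulAction H Z :=
    { smul := fun g y => ⟨(g : MulAut X) y.1, by
        obtain ⟨j, hj⟩ := mem_powers_iff_mem_zpowers.mpr g.2
        have : ∀ (j : ℕ), ∀ y ∈ Z, (σ ^ j) y ∈ Z := by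
          intro j
          induction j with
          | zero => exact fun y hy => hy
          | succ j ih => intro y hy; rw [pow_succ', MulAut.mul_apply]; exact hσ _ (ih y hy)
        rw [← hj]; exact this j y.1 y.2⟩
      one_smul := fun y => Subtype.ext rfl
      mul_smul := fun g h y => Subtype.ext rfl }
  have hodd : Odd (Nat.card H) := by
    rw [Nat.card_zpowers]
    refine Odd.of_dvd_nat ?_ (orderOf_dvd_of_pow_eq_one hord)
    exact Nat.Even.sub_odd (Nat.one_le_two_pow) (Nat.even_pow.mpr ⟨even_two, by have := S.two_le; omega⟩) odd_one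
  have hfix : ∀ y : Z, ∃ g : H, g • y ≠ y :=
    fun y => ⟨⟨σ, mem_zpowers σ⟩, fun h => hno y.1 y.2 (congrArg Subtype.val h)⟩
  have hcard : ∃ m, Nat.card Z = 2 ^ m := by
    obtain ⟨m, hm⟩ := IsPGroup.iff_card.mp (S.pgroup.to_subgroup (commutator X))
    refine ⟨m, ?_⟩
    rw [← hm]
    refine Nat.card_congr ⟨fun y => ⟨x⁻¹ * y.1, ?_⟩, fun c => ⟨x * c.1, ?_⟩, fun y => ?_, fun c => ?_⟩
    · exact QuotientGroup.eq.mp (y.2).symm
    · show Abelianization.of (x * c.1) = _
      rw [map_mul, show Abelianization.of c.1 = 1 from (QuotientGroup.eq_one_iff _).mpr c.2, mul_one]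
    · ext; simp
    · ext; simp
  obtain ⟨m, hm⟩ := hcard
  haveI := Fintype.ofFinite Z
  haveI := Fintype.ofFinite H
  -- a singleton coset is fixed
  rcases Nat.eq_zero_or_pos m with rfl | hmpos
  · obtain ⟨g, hg⟩ := hfix ⟨x, rfl⟩
    haveI : Subsingleton Z := (Nat.card_eq_one_iff_unique.mp (by rw [hm]; rfl)).1
    exact hg (Subsingleton.elim _ _)
  -- every orbit has odd size > 1, and σ-orbits of size d give fixed points of σ^d, of which there are at most 2
  have hsmall : ∀ y : Z, (y : X) = 1 ∨ (y : X) = t ∨ ∀ g : H, g • y = y → g = 1 := by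
    intro y
    by_cases hy : (y : X) = 1 ∨ (y : X) = t
    · tauto
    right; right
    rintro ⟨g, hg⟩ hgy
    obtain ⟨j, rfl⟩ := mem_powers_iff_mem_zpowers.mpr hg
    by_contra hne
    refine hy (S.fix (i := i * j) ?_ ?_)
    · intro hd
      refine hne (Subtype.ext ?_)
      obtain ⟨c, hc⟩ := hd
      show σ ^ j = 1
      rw [← pow_mul, hc, pow_mul, S.order, one_pow]
    · rw [pow_mul]; exact congrArg Subtype.val hgy
  have hfree : ∀ y : Z, MulAction.stabilizer H y = ⊥ := by
    intro y
    rw [eq_bot_iff_forall]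
    intro g hg
    rcases hsmall y with h | h | h
    · exact absurd (by rw [h]; exact map_one σ) (hno y.1 y.2)
    · exact absurd (by rw [h]; exact S.pow_t i) (hno y.1 y.2)
    · exact h g hg
  have hd := Nat.card_congr (MulAction.selfEquivOrbitsQuotientProd hfree)
  rw [Nat.card_prod, hm] at hd
  have h1 : Nat.card H = 1 := Nat.eq_one_of_dvd_coprimes
    (Nat.Coprime.pow_left m (Nat.coprime_two_left.mpr hodd)) (Dvd.intro_left _ hd.symm) dvd_rfl
  obtain ⟨g, hg⟩ := hfix ⟨x, rfl⟩
  haveI : Subsingleton H := (Nat.card_eq_one_iff_unique.mp h1).1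
  exact hg (by rw [Subsingleton.elim g 1, one_smul])

theorem zero_t {i : ℕ} : (S.bar ^ i) (Abelianization.of t) = Abelianization.of t := by
  rw [S.bar_pow, S.pow_t]

/-- The free part: orbits of `ρ` off the fixed points have size `2 ^ n - 1`. -/
theorem dvd_card_sub {W : Set (Abelianization X)} (hW : ∀ a ∈ W, S.bar a ∈ W)
    (h : ∀ a ∈ W, a ≠ 1 ∧ a ≠ Abelianization.of t) : 2 ^ n - 1 ∣ Nat.card W := by
  classical
  haveI : Finite (Abelianization X) := Quotient.finite _
  haveI : Finite (MulAut (Abelianization X)) :=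
    Finite.of_injective (fun f : MulAut (Abelianization X) => (f : _ → _)) DFunLike.coe_injective
  have hWp : ∀ j : ℕ, ∀ a ∈ W, (S.bar ^ j) a ∈ W := by
    intro j
    induction j with
    | zero => exact fun a ha => ha
    | succ j ih => intro a ha; rw [pow_succ', MulAut.mul_apply]; exact hW _ (ih a ha)
  letI : MulAction (Subgroup.zpowers S.bar) W :=
    { smul := fun g a => ⟨(g : MulAut _) a.1, by
        obtain ⟨j, hj⟩ := mem_powers_iff_mem_zpowers.mpr g.2
        rw [← hj]; exact hWp j a.1 a.2⟩
      one_smul := fun y => Subtype.ext rfl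
      mul_smul := fun g h y => Subtype.ext rfl }
  rcases isEmpty_or_nonempty W with hE | ⟨⟨w, hw⟩⟩
  · rw [Nat.card_of_isEmpty]; exact dvd_zero _
  have hord : orderOf S.bar = 2 ^ n - 1 := by
    refine Nat.dvd_antisymm (orderOf_dvd_of_pow_eq_one S.bar_order) ?_
    by_contra hh
    rcases S.bar_fix hh (a := w) (by rw [pow_orderOf_eq_one]; rfl) with h' | h'
    · exact (h w hw).1 h'
    · exact (h w hw).2 h'
  have hfree : ∀ a : W, MulAction.stabilizer (Subgroup.zpowers S.bar) a = ⊥ := by
    intro a
    rw [eq_bot_iff_forall]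
    rintro ⟨g, hg⟩ hga
    obtain ⟨j, rfl⟩ := mem_powers_iff_mem_zpowers.mpr hg
    refine Subtype.ext ?_
    show S.bar ^ j = 1
    by_cases hj : 2 ^ n - 1 ∣ j
    · obtain ⟨c, rfl⟩ := hj
      rw [pow_mul, S.bar_order, one_pow]
    · rcases S.bar_fix hj (a := a.1) (congrArg Subtype.val hga) with h' | h'
      · exact absurd h' (h a.1 a.2).1
      · exact absurd h' (h a.1 a.2).2
  rw [Nat.card_congr (MulAction.selfEquivOrbitsQuotientProd hfree), Nat.card_prod, Nat.card_zpowers, hord]
  exact dvd_mul_left _ _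

theorem card_ab_le : Nat.card (Abelianization X) ≤ 2 ^ (n + 1) := by
  rw [← S.card_cent]
  exact (index_eq_card _).symm.trans_le (S.le_card_centralizer t)

omit S in
theorem exp_cases {n a : ℕ} (hn : 2 ≤ n) (h : 2 ^ n - 1 ∣ 2 ^ a - 1) (ha : a ≤ n + 1) : a = 0 ∨ a = n := by
  rcases Nat.eq_zero_or_pos a with rfl | hpos
  · exact Or.inl rfl
  right
  have h4 : 4 ≤ 2 ^ n := le_trans (le_of_eq (by norm_num : (4 : ℕ) = 2 ^ 2)) (Nat.pow_le_pow_right two_pos hn)
  have h2 : 2 ≤ 2 ^ a := Nat.le_self_pow (by omega) 2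
  rcases Nat.lt_trichotomy a n with hlt | rfl | hgt
  · have := Nat.pow_lt_pow_right (show 1 < 2 by norm_num) hlt
    have := Nat.le_of_dvd (by omega) h
    omega
  · rfl
  · obtain rfl : a = n + 1 := by omega
    exfalso
    have he : 2 ^ (n + 1) - 1 = 2 * (2 ^ n - 1) + 1 := by rw [pow_succ]; omega
    rw [he] at h
    have h1 : 2 ^ n - 1 ∣ 1 := by
      simpa using Nat.dvd_sub h (dvd_mul_left (2 ^ n - 1) 2)
    have := Nat.le_of_dvd one_pos h1
    omega

/-- `t` is not in the derived subgroup. -/
theorem not_mem : t ∉ commutator X := by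
  haveI : Fact (Nat.Prime 2) := ⟨Nat.prime_two⟩
  intro ht
  classical
  haveI : Finite (Abelianization X) := Quotient.finite _
  have h4 := S.four_le
  have ht1 : Abelianization.of t = 1 := (QuotientGroup.eq_one_iff _).mpr ht
  -- `X / X'` has order `2 ^ n`, with `ρ` transitive
  have hd : 2 ^ n - 1 ∣ Nat.card ({1}ᶜ : Set (Abelianization X)) :=
    S.dvd_card_sub (fun a ha h => ha (S.bar.injective (h.trans (map_one _).symm)))
      (fun a ha => ⟨ha, ht1.symm ▸ ha⟩)
  have hc1 : Nat.card ({1}ᶜ : Set (Abelianization X)) = Nat.card (Abelianization X) - 1 := by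
    rw [Nat.card_coe_set_eq, Set.ncard_compl, Set.ncard_singleton]
  obtain ⟨a, ha⟩ := IsPGroup.iff_card.mp (S.pgroup.to_quotient (commutator X))
  change Nat.card (Abelianization X) = 2 ^ a at ha
  have hidx : (commutator X).index = 2 ^ a := (index_eq_card _).trans ha
  have hane : a ≠ 0 := by
    intro h0
    rw [h0, pow_zero, index_eq_one] at hidx
    haveI := S.pgroup.isNilpotent
    have hs : Group.IsSolvable X := inferInstance
    have hnt : Nontrivial X := ⟨⟨t, 1, S.ne_one⟩⟩
    exact (ne_of_lt (Group.IsSolvable.commutator_lt_top_of_nontrivial X)) hidx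
  have han : a = n := by
    refine (exp_cases S.two_le ?_ ?_).resolve_left hane
    · rw [← ha, ← hc1]; exact hd
    · exact (Nat.pow_le_pow_iff_right (by norm_num)).mp (ha ▸ S.card_ab_le)
  subst han
  have hP : Nat.card (commutator X) = 2 * Nat.card (conjugatesOf t) := by
    have h1 := card_mul_index (commutator X)
    rw [hidx, ← S.card_class, pow_succ] at h1
    exact Nat.eq_of_mul_eq_mul_right (Nat.two_pow_pos a) (by rw [h1]; ring)
  -- the class of `t` lies in the next term
  let γ : ℕ → Subgroup X := fun j => (⊤ : Subgroup X).lowerCentralSeries j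
  have hγ1 : γ 1 = commutator X := by
    show (⊤ : Subgroup X).lowerCentralSeries 1 = _
    rw [Subgroup.lowerCentralSeries_succ, Subgroup.lowerCentralSeries_zero, _root_.commutator_def]
  have hanti : ∀ {i j}, i ≤ j → γ j ≤ γ i := fun h => (Subgroup.lowerCentralSeries_antitone (S := (⊤ : Subgroup X))) h
  haveI := S.pgroup.isNilpotent
  have hstrict : ∀ j, γ j ≠ ⊥ → γ (j + 1) < γ j := by
    intro j hj
    refine lt_of_le_of_ne (hanti (Nat.le_succ j)) fun he => hj ?_
    obtain ⟨m, hm⟩ := Subgroup.nilpotent_iff_lowerCentralSeries.mp (inferInstance : Group.IsNilpotent X)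
    have : ∀ l, γ j ≤ γ (j + l) := by
      intro l
      induction l with
      | zero => exact le_rfl
      | succ l ih =>
        refine he.ge.trans ?_
        show (⊤ : Subgroup X).lowerCentralSeries (j + 1) ≤ (⊤ : Subgroup X).lowerCentralSeries (j + l + 1)
        rw [Subgroup.lowerCentralSeries_succ, Subgroup.lowerCentralSeries_succ]
        exact commutator_mono ih le_rfl
    exact le_bot_iff.mp ((this m).trans ((hanti (Nat.le_add_left m j)).trans hm.le))
  have hhalf : ∀ j, j ≥ 1 → γ j ≠ ⊥ → 2 * Nat.card (γ (j + 1)) ≤ Nat.card (γ j) := by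
    intro j _ hj
    have h1 := card_mul_index ((γ (j + 1)).subgroupOf (γ j))
    rw [Nat.card_congr (subgroupOfEquivOfLe (hstrict j hj).le).toEquiv] at h1
    have h2 : 2 ≤ ((γ (j + 1)).subgroupOf (γ j)).index := by
      rcases Nat.lt_or_ge ((γ (j + 1)).subgroupOf (γ j)).index 2 with h | h
      · have h0 : ((γ (j + 1)).subgroupOf (γ j)).index ≠ 0 := index_ne_zero_of_finite
        have h1' : ((γ (j + 1)).subgroupOf (γ j)).index = 1 := by omega
        have := subgroupOf_eq_top.mp (index_eq_one.mp h1')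
        exact absurd this (hstrict j hj).not_ge
      · exact h
    calc 2 * Nat.card (γ (j + 1)) ≤ ((γ (j + 1)).subgroupOf (γ j)).index * Nat.card (γ (j + 1)) :=
          Nat.mul_le_mul_right _ h2
      _ = Nat.card (γ j) := by rw [mul_comm]; exact h1
  have hstep : ∀ j, t ∈ γ j → Nat.card (conjugatesOf t) ≤ Nat.card (γ (j + 1)) := fun j hj =>
    conj_mem_coset fun x => by
      show ⁅x, t⁆ ∈ (⊤ : Subgroup X).lowerCentralSeries (j + 1)
      rw [Subgroup.lowerCentralSeries_succ, ← commutatorElement_inv]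
      exact inv_mem (commutator_mem_commutator hj (mem_top x))
  have ht1' : t ∈ γ 1 := hγ1 ▸ ht
  have hne1 : γ 1 ≠ ⊥ := fun h => S.ne_one (mem_bot.mp (h ▸ ht1'))
  have hcl : 0 < Nat.card (conjugatesOf t) := by
    haveI : Nonempty (conjugatesOf t) := ⟨⟨t, mem_conjugatesOf_self⟩⟩
    exact Nat.card_pos
  have ht2 : t ∉ γ 2 := by
    intro h2
    have hne2 : γ 2 ≠ ⊥ := fun h => S.ne_one (mem_bot.mp (h ▸ h2))
    have e1 : Nat.card (conjugatesOf t) ≤ Nat.card (γ 3) := hstep 2 h2
    have e2 : 2 * Nat.card (γ 2) ≤ 2 * Nat.card (conjugatesOf t) := by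
      rw [← hP, ← hγ1]; exact hhalf 1 le_rfl hne1
    have e3 : 2 * Nat.card (γ 3) ≤ Nat.card (γ 2) := hhalf 2 (by norm_num) hne2
    omega
  have h12 : Nat.card (γ 1) = 2 * Nat.card (γ 2) := by
    have e1 : Nat.card (conjugatesOf t) ≤ Nat.card (γ 2) := hstep 1 ht1'
    have e2 : 2 * Nat.card (γ 2) ≤ 2 * Nat.card (conjugatesOf t) := by
      rw [← hP, ← hγ1]; exact hhalf 1 le_rfl hne1
    rw [hγ1, hP]
    omega
  have hmod : ∀ c ∈ γ 1, c ∈ γ 2 ∨ t * c ∈ γ 2 := by
    intro c hc
    have hi : ((γ 2).subgroupOf (γ 1)).index = 2 := by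
      have h1 := card_mul_index ((γ 2).subgroupOf (γ 1))
      rw [Nat.card_congr (subgroupOfEquivOfLe (hanti one_le_two)).toEquiv, h12] at h1
      exact Nat.eq_of_mul_eq_mul_left Nat.card_pos (h1.trans (mul_comm _ _))
    rcases em (c ∈ γ 2) with h | h
    · exact Or.inl h
    · refine Or.inr ?_
      have := (mul_mem_iff_of_index_two hi (a := ⟨t, ht1'⟩) (b := ⟨c, hc⟩)).mpr
        (by simp [mem_subgroupOf, ht2, h])
      simpa [mem_subgroupOf] using this
  have hsq : ∀ x : X, x * x ∈ γ 1 := by
    intro x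
    rw [hγ1]
    refine (QuotientGroup.eq_one_iff _).mp ?_
    change Abelianization.of (x * x) = 1
    rw [map_mul]
    by_cases hx : Abelianization.of x = 1
    · rw [hx, one_mul]
    -- one orbit on the non-identity elements, one of which is an involution
    obtain ⟨y, hy⟩ := exists_prime_orderOf_dvd_card' (G := Abelianization X) 2
      (by rw [ha]; exact dvd_pow_self 2 hane)
    have hy1 : y ≠ 1 := fun h => by rw [h, orderOf_one] at hy; norm_num at hy
    have hsub : {a : Abelianization X | ∃ j : ℕ, (S.bar ^ j) y = a} ⊆ {1}ᶜ := by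
      rintro _ ⟨j, rfl⟩ h1
      exact hy1 ((MulEquiv.map_eq_one_iff _).mp h1)
    have hd' : 2 ^ a - 1 ∣ Nat.card {a : Abelianization X | ∃ j : ℕ, (S.bar ^ j) y = a} :=
      S.dvd_card_sub (by rintro _ ⟨j, rfl⟩; exact ⟨j + 1, by rw [pow_succ', MulAut.mul_apply]⟩)
        (fun b hb => ⟨hsub hb, ht1.symm ▸ hsub hb⟩)
    have heq : {a : Abelianization X | ∃ j : ℕ, (S.bar ^ j) y = a} = {1}ᶜ := by
      refine Set.eq_of_subset_of_ncard_le hsub ?_ (Set.toFinite _)
      rw [← Nat.card_coe_set_eq, ← Nat.card_coe_set_eq, hc1, ha]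
      refine Nat.le_of_dvd ?_ hd'
      haveI : Nonempty {a : Abelianization X | ∃ j : ℕ, (S.bar ^ j) y = a} := ⟨⟨y, 0, rfl⟩⟩
      exact Nat.card_pos
    obtain ⟨j, hj⟩ : Abelianization.of x ∈ {a : Abelianization X | ∃ j : ℕ, (S.bar ^ j) y = a} := heq ▸ hx
    rw [← hj, ← map_mul, show y * y = 1 by rw [← pow_two, ← hy]; exact pow_orderOf_eq_one y, map_one]
  haveI hn2 : (γ 2).Normal := inferInstanceAs ((⊤ : Subgroup X).lowerCentralSeries 2).Normal
  have hcent : ∀ c ∈ γ 1, ∀ x : X, ⁅c, x⁆ ∈ γ 2 := by
    intro c hc x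
    show ⁅c, x⁆ ∈ (⊤ : Subgroup X).lowerCentralSeries 2
    rw [Subgroup.lowerCentralSeries_succ]
    exact commutator_mem_commutator hc (mem_top x)
  -- some element has its square outside `γ 2`
  obtain ⟨a₀, ha₀⟩ : ∃ x : X, x * x ∉ γ 2 := by
    by_contra h
    push Not at h
    have hle : commutator X ≤ γ 2 := by
      refine QuotientGroup.ker_mk' (γ 2) ▸ ?_
      rw [_root_.commutator_def, commutator_le]
      intro x _ y _
      rw [MonoidHom.mem_ker, map_commutatorElement, commutatorElement_eq_one_iff_mul_comm]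
      have he : ∀ z : X ⧸ γ 2, z * z = 1 := fun z => by
        obtain ⟨z, rfl⟩ := QuotientGroup.mk'_surjective _ z
        exact (QuotientGroup.eq_one_iff _).mpr (h z)
      have hi : ∀ z : X ⧸ γ 2, z⁻¹ = z := fun z => inv_eq_of_mul_eq_one_right (he z)
      calc QuotientGroup.mk' (γ 2) x * QuotientGroup.mk' (γ 2) y
          = (QuotientGroup.mk' (γ 2) x * QuotientGroup.mk' (γ 2) y)⁻¹ := (hi _).symm
        _ = _ := by rw [mul_inv_rev, hi, hi]
    exact ht2 (hle ht)
  have h3 : ∀ c d : X, c ∈ γ 2 → ⁅c, d⁆ ∈ γ 3 := by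
    intro c d hc
    show ⁅c, d⁆ ∈ (⊤ : Subgroup X).lowerCentralSeries 3
    rw [Subgroup.lowerCentralSeries_succ]
    exact commutator_mem_commutator hc (mem_top d)
  haveI hn3 : (γ 3).Normal := inferInstanceAs ((⊤ : Subgroup X).lowerCentralSeries 3).Normal
  -- the set of elements commuting with `t` modulo `γ 3`
  let D : Subgroup X := (centralizer ({(QuotientGroup.mk' (γ 3)) t} : Set (X ⧸ γ 3))).comap (QuotientGroup.mk' (γ 3))
  have hD : ∀ x, x ∈ D ↔ ⁅t, x⁆ ∈ γ 3 := by
    intro x
    rw [mem_comap, mem_centralizer_singleton_iff, ← QuotientGroup.eq_one_iff (N := γ 3) ⁅t, x⁆]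
    change _ ↔ QuotientGroup.mk' (γ 3) ⁅t, x⁆ = 1
    rw [map_commutatorElement, commutatorElement_eq_one_iff_mul_comm]
    exact eq_comm
  have ha₀D : a₀ ∈ D := by
    rw [hD]
    have h2 : t * (a₀ * a₀) ∈ γ 2 := (hmod _ (hsq a₀)).resolve_left ha₀
    have h5 : QuotientGroup.mk' (γ 3) (t * (a₀ * a₀)) * QuotientGroup.mk' (γ 3) a₀ =
        QuotientGroup.mk' (γ 3) a₀ * QuotientGroup.mk' (γ 3) (t * (a₀ * a₀)) := by
      rw [← commutatorElement_eq_one_iff_mul_comm, ← map_commutatorElement]
      exact (QuotientGroup.eq_one_iff _).mpr (h3 _ _ h2)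
    refine (QuotientGroup.eq_one_iff _).mp ?_
    change QuotientGroup.mk' (γ 3) ⁅t, a₀⁆ = 1
    rw [map_commutatorElement, commutatorElement_eq_one_iff_mul_comm]
    simp only [map_mul] at h5
    generalize QuotientGroup.mk' (γ 3) a₀ = A at *
    generalize QuotientGroup.mk' (γ 3) t = T at *
    refine mul_right_cancel (b := A * A) ?_
    simpa [mul_assoc] using h5
  have hDtop : D = ⊤ := by
    have hcomm : commutator X ≤ D := by
      rw [← hγ1]
      intro c hc
      rw [hD]
      rcases hmod c hc with h | h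
      · rw [← commutatorElement_inv]; exact inv_mem (h3 c t h)
      · have := h3 _ t h
        rw [← QuotientGroup.eq_one_iff] at this ⊢
        change QuotientGroup.mk' (γ 3) _ = 1 at this ⊢
        rw [map_commutatorElement, commutatorElement_eq_one_iff_mul_comm, map_mul] at *
        generalize QuotientGroup.mk' (γ 3) c = A at *
        generalize QuotientGroup.mk' (γ 3) t = T at *
        refine mul_left_cancel (a := T) ?_
        simpa [mul_assoc] using this.symm
    have hne : Abelianization.of a₀ ≠ 1 := by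
      intro h
      have h1 : a₀ ∈ γ 1 := hγ1 ▸ (QuotientGroup.eq_one_iff _).mp h
      refine ha₀ ?_
      rcases hmod a₀ h1 with h' | h'
      · exact mul_mem h' h'
      · refine (QuotientGroup.eq_one_iff _).mp ?_
        have e : QuotientGroup.mk' (γ 2) (t * a₀) = 1 := (QuotientGroup.eq_one_iff _).mpr h'
        change QuotientGroup.mk' (γ 2) (a₀ * a₀) = 1
        rw [map_mul] at e ⊢
        rw [eq_inv_of_mul_eq_one_right e, ← mul_inv_rev, ← map_mul, S.sq, map_one, inv_one]
    have hρt : ∀ x ∈ D, ρ x ∈ D := by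
      intro x hx
      rw [hD] at hx ⊢
      have : ⁅t, ρ x⁆ = ρ ⁅t, x⁆ := by rw [map_commutatorElement, S.fix_t]
      rw [this]
      have hmap : (γ 3).map ρ.toMonoidHom ≤ γ 3 := by
        show ((⊤ : Subgroup X).lowerCentralSeries 3).map _ ≤ _
        rw [Subgroup.map_lowerCentralSeries]
        exact Subgroup.lowerCentralSeries_mono 3 le_top
      exact hmap ⟨_, hx, rfl⟩
    have hd' : 2 ^ a - 1 ∣ Nat.card (Abelianization.of '' (D : Set X) \ {1} : Set (Abelianization X)) :=
      S.dvd_card_sub (by
        rintro b ⟨⟨x, hx, rfl⟩, hb⟩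
        exact ⟨⟨ρ x, hρt x hx, rfl⟩, fun h => hb ((MulEquiv.map_eq_one_iff S.bar).mp h)⟩)
        (fun b hb => ⟨hb.2, ht1.symm ▸ hb.2⟩)
    rw [eq_top_iff']
    intro x
    have heq : Abelianization.of '' (D : Set X) \ {1} = ({1}ᶜ : Set (Abelianization X)) := by
      refine Set.eq_of_subset_of_ncard_le (fun b hb => hb.2) ?_ (Set.toFinite _)
      rw [← Nat.card_coe_set_eq, ← Nat.card_coe_set_eq, hc1, ha]
      refine Nat.le_of_dvd ?_ hd'
      haveI : Nonempty (Abelianization.of '' (D : Set X) \ {1} : Set (Abelianization X)) :=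
        ⟨⟨_, ⟨a₀, ha₀D, rfl⟩, hne⟩⟩
      exact Nat.card_pos
    by_cases hx : Abelianization.of x = 1
    · exact hcomm ((QuotientGroup.eq_one_iff _).mp hx)
    · obtain ⟨⟨y, hy, hyx⟩, -⟩ : Abelianization.of x ∈ Abelianization.of '' (D : Set X) \ {1} := heq ▸ hx
      have := mul_mem hy (hcomm (QuotientGroup.eq.mp hyx))
      rwa [mul_inv_cancel_left] at this
  have h4' : Nat.card (conjugatesOf t) ≤ Nat.card (γ 3) := conj_mem_coset fun x => by
    rw [← commutatorElement_inv]; exact inv_mem ((hD x).mp (hDtop ▸ mem_top x))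
  by_cases hb : γ 2 = ⊥
  · -- `t` is central, so `X = C(t)` is commutative
    have htc : centralizer ({t} : Set X) = ⊤ := by
      rw [eq_top_iff']
      intro x
      rw [mem_centralizer_singleton_iff]
      have := hcent t ht1' x
      rw [hb, mem_bot, commutatorElement_eq_one_iff_mul_comm] at this
      exact this.symm
    refine ht2 (hb ▸ ?_)
    have : commutator X = ⊥ := by
      rw [_root_.commutator_def, eq_bot_iff, commutator_le]
      intro x _ y _
      rw [mem_bot, commutatorElement_eq_one_iff_mul_comm]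
      exact S.comm x (htc ▸ mem_top x) y (htc ▸ mem_top y)
    exact this ▸ ht
  · have e3 : 2 * Nat.card (γ 3) ≤ Nat.card (γ 2) := hhalf 2 (by norm_num) hb
    rw [hγ1, hP] at h12
    omega

/-- The complement of `t` in the abelianization. -/
theorem exists_R : ∃ R : Subgroup X, R.index = 2 ∧ commutator X ≤ R ∧ t ∉ R ∧ (∀ x ∈ R, ρ x ∈ R) ∧
    (commutator X).relIndex R = 2 ^ n ∧
    (∀ x ∈ R, x * x ∈ commutator X) ∧
    (∀ x ∈ R, x ∉ commutator X → ∀ y ∈ R, y ∉ commutator X → ∃ i : ℕ, ((ρ ^ i) x)⁻¹ * y ∈ commutator X) ∧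
    (∀ c ∈ commutator X, IsConj t (t * c)) := by
  haveI : Fact (Nat.Prime 2) := ⟨Nat.prime_two⟩
  classical
  haveI : Finite (Abelianization X) := Quotient.finite _
  have h4 := S.four_le
  have htm := S.not_mem
  set T₀ := Abelianization.of t with hT₀
  have hT1 : T₀ ≠ 1 := fun h => htm ((QuotientGroup.eq_one_iff _).mp h)
  have hTsq : T₀ * T₀ = 1 := by rw [hT₀, ← map_mul, S.sq, map_one]
  let f : Abelianization X →* Abelianization X :=
    MonoidHom.mk' (fun a => S.bar a * a⁻¹) fun a b => by
      rw [map_mul, mul_inv]; exact mul_mul_mul_comm _ _ _ _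
  have hndvd : ¬ (2 ^ n - 1) ∣ 1 := fun h => by have := Nat.le_of_dvd one_pos h; omega
  have hker : f.ker = zpowers T₀ := by
    refine le_antisymm (fun a ha => ?_) ((zpowers_le).mpr (mul_inv_eq_one.mpr ?_))
    · rcases S.bar_fix hndvd (a := a) (by rw [pow_one]; exact mul_inv_eq_one.mp ha) with rfl | rfl
      · exact one_mem _
      · exact mem_zpowers _
    · have := S.zero_t (i := 1)
      rwa [pow_one] at this
  have hTnot : T₀ ∉ f.range := by
    rintro ⟨a, ha⟩
    have hstep : ∀ i : ℕ, (S.bar ^ i) a = T₀ ^ i * a := by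
      intro i
      induction i with
      | zero => simp
      | succ i ih =>
        rw [pow_succ', MulAut.mul_apply, ih, map_mul, map_pow,
          show S.bar T₀ = T₀ by have := S.zero_t (i := 1); rwa [pow_one] at this,
          show S.bar a = T₀ * a from mul_inv_eq_iff_eq_mul.mp ha, pow_succ, mul_assoc]
    have h := hstep (2 ^ n - 1)
    rw [S.bar_order, MulAut.one_apply, eq_comm, mul_eq_right] at h
    have he : T₀ ^ (2 ^ n - 1) = T₀ := by
      obtain ⟨k, hk⟩ : Odd (2 ^ n - 1) :=
        Nat.Even.sub_odd (Nat.one_le_two_pow) (Nat.even_pow.mpr ⟨even_two, by have := S.two_le; omega⟩) odd_one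
      rw [hk, pow_succ, pow_mul, pow_two, hTsq, one_pow, one_mul]
    exact hT1 (he ▸ h)
  -- the range is `ρ`-free, of order `2 ^ n`
  have hfr : ∀ a ∈ f.range, S.bar a ∈ f.range := by
    rintro _ ⟨a, rfl⟩
    exact ⟨S.bar a, by show S.bar (S.bar a) * (S.bar a)⁻¹ = S.bar (S.bar a * a⁻¹); rw [map_mul, map_inv]⟩
  have hmul : Nat.card f.ker * Nat.card f.range = Nat.card (Abelianization X) := by
    rw [← index_ker]; exact card_mul_index _
  have hkc : Nat.card f.ker = 2 := by
    rw [hker, Nat.card_zpowers, orderOf_eq_prime (by rw [pow_two, hTsq]) hT1]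
  obtain ⟨b, hb⟩ := IsPGroup.iff_card.mp ((IsPGroup.of_surjective S.pgroup Abelianization.of of_surjective).to_subgroup f.range)
  have hW : ∀ a ∈ ((f.range : Set (Abelianization X)) \ {1}), S.bar a ∈ ((f.range : Set (Abelianization X)) \ {1}) :=
    fun a ha => ⟨hfr a ha.1, fun h => ha.2 ((MulEquiv.map_eq_one_iff _).mp h)⟩
  have hWne : ∀ a ∈ ((f.range : Set (Abelianization X)) \ {1}), a ≠ 1 ∧ a ≠ T₀ :=
    fun a ha => ⟨ha.2, fun h => hTnot (h ▸ ha.1)⟩
  have hWc : Nat.card ((f.range : Set (Abelianization X)) \ {1} : Set _) = 2 ^ b - 1 := by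
    rw [Nat.card_coe_set_eq, Set.ncard_diff_singleton_of_mem (one_mem f.range), ← Nat.card_coe_set_eq]
    exact congrArg (· - 1) hb
  have hbn : b = n := by
    refine (exp_cases S.two_le (hWc ▸ S.dvd_card_sub hW hWne) ?_).resolve_left ?_
    · have := S.card_ab_le
      rw [← hmul, hkc, hb, ← pow_succ', Nat.pow_le_pow_iff_right (by norm_num)] at this
      omega
    · intro hb0
      -- otherwise the abelianization is cyclic
      rw [hkc, hb, hb0, pow_zero, mul_one] at hmul
      haveI : IsCyclic (Abelianization X) := isCyclic_of_prime_card (p := 2) hmul.symm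
      haveI := S.pgroup.isNilpotent
      have hX : Nat.card X = 2 := by
        have hfr' : commutator X ≤ frattini X := PGroup.commutator_le_frattini S.pgroup
        obtain ⟨g, hg⟩ := IsCyclic.exists_generator (α := Abelianization X)
        obtain ⟨g, rfl⟩ := of_surjective g
        have htop : zpowers g = ⊤ := by
          refine frattini_nongenerating (eq_top_iff.mpr fun x _ => ?_)
          obtain ⟨i, hi⟩ := mem_zpowers_iff.mp (hg (Abelianization.of x))
          have h1 : (g ^ i)⁻¹ * x ∈ commutator X := QuotientGroup.eq.mp (by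
            change Abelianization.of (g ^ i) = Abelianization.of x
            rw [map_zpow, hi])
          have := mul_mem (mem_sup_left (T := frattini X) (zpow_mem (mem_zpowers g) i)) (mem_sup_right (hfr' h1))
          rwa [mul_inv_cancel_left] at this
        have hcyc : ∀ x y : X, x * y = y * x := by
          intro x y
          obtain ⟨i, rfl⟩ := mem_zpowers_iff.mp (htop ▸ mem_top x : x ∈ zpowers g)
          obtain ⟨j, rfl⟩ := mem_zpowers_iff.mp (htop ▸ mem_top y : y ∈ zpowers g)
          rw [← zpow_add, ← zpow_add, add_comm]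
        have : commutator X = ⊥ := by
          rw [_root_.commutator_def, eq_bot_iff, commutator_le]
          intro x _ y _
          rw [mem_bot, commutatorElement_eq_one_iff_mul_comm, hcyc]
        rw [← card_mul_index (commutator X), index_eq_card, this, card_bot, one_mul]
        refine (Nat.card_congr ?_).trans hmul.symm
        exact (QuotientGroup.quotientMulEquivOfEq this.symm).toEquiv
      have h1 := Subgroup.card_le_card_group (centralizer ({t} : Set X))
      rw [S.card_cent, hX] at h1
      have := Nat.pow_le_pow_right two_pos (show 3 ≤ n + 1 by have := S.two_le; omega)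
      omega
  subst hbn
  have htrans : ∀ a ∈ f.range, a ≠ 1 → ∀ c ∈ f.range, c ≠ 1 → ∃ i : ℕ, (S.bar ^ i) a = c := by
    intro a ha ha1 c hc hc1
    let O : Set (Abelianization X) := {z | ∃ i : ℕ, (S.bar ^ i) a = z}
    have hO : O ⊆ (f.range : Set (Abelianization X)) \ {1} := by
      rintro z ⟨i, rfl⟩
      induction i with
      | zero => exact ⟨ha, ha1⟩
      | succ i ih => rw [pow_succ', MulAut.mul_apply]; exact hW _ ih
    have heq : O = (f.range : Set (Abelianization X)) \ {1} := by
      refine Set.eq_of_subset_of_ncard_le hO ?_ (Set.toFinite _)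
      rw [← Nat.card_coe_set_eq, ← Nat.card_coe_set_eq, hWc]
      refine Nat.le_of_dvd ?_ (S.dvd_card_sub (W := O) ?_ fun z hz => hWne z (hO hz))
      · haveI : Nonempty O := ⟨⟨a, 0, rfl⟩⟩
        exact Nat.card_pos
      · rintro z ⟨i, rfl⟩; exact ⟨i + 1, by rw [pow_succ', MulAut.mul_apply]⟩
    exact (heq.ge ⟨hc, hc1⟩ : c ∈ O)
  have hsqf : ∀ a ∈ f.range, a * a = 1 := by
    intro a ha
    by_cases ha1 : a = 1
    · rw [ha1, one_mul]
    have h2 : 2 ∣ Nat.card f.range := by rw [hb]; exact dvd_pow_self 2 (by have := S.two_le; omega)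
    obtain ⟨y, hy⟩ := exists_prime_orderOf_dvd_card' 2 h2
    have hy1 : (y : Abelianization X) ≠ 1 := fun h => by
      rw [show y = 1 from Subtype.ext h, orderOf_one] at hy; norm_num at hy
    obtain ⟨i, rfl⟩ := htrans y y.2 hy1 a ha ha1
    have h2 : (y : Abelianization X) * y = 1 := by
      have := pow_orderOf_eq_one (y : Abelianization X)
      rwa [Subgroup.orderOf_coe, hy, pow_two] at this
    rw [← map_mul, h2, map_one]
  have hidx : (commutator X).index = 2 ^ (b + 1) := by
    rw [index_eq_card]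
    exact hmul.symm.trans (by rw [hkc, hb, pow_succ'])
  refine ⟨f.range.comap Abelianization.of, ?_, ?_, fun h => hTnot h, ?_, ?_, ?_, ?_, ?_⟩
  · rw [index_comap_of_surjective _ of_surjective]
    have h1 := card_mul_index f.range
    rw [← hmul, hkc, mul_comm 2] at h1
    exact Nat.eq_of_mul_eq_mul_left Nat.card_pos h1
  · intro x hx
    rw [mem_comap, show Abelianization.of x = 1 from (QuotientGroup.eq_one_iff _).mpr hx]
    exact one_mem _
  · intro x hx
    exact hfr _ hx
  · rw [relIndex, index_eq_card, ← hb]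
    let g : f.range.comap Abelianization.of →* f.range :=
      (Abelianization.of.comp (f.range.comap Abelianization.of).subtype).codRestrict _ fun x => x.2
    have hg : Function.Surjective g := by
      rintro ⟨a, ha⟩
      obtain ⟨x, rfl⟩ := of_surjective a
      exact ⟨⟨x, ha⟩, rfl⟩
    have hgk : g.ker = (commutator X).subgroupOf (f.range.comap Abelianization.of) := by
      ext x
      rw [MonoidHom.mem_ker, mem_subgroupOf, ← QuotientGroup.eq_one_iff, Subtype.ext_iff]
      rfl
    exact Nat.card_congr ((QuotientGroup.quotientMulEquivOfEq hgk).symm.trans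
      (QuotientGroup.quotientKerEquivOfSurjective g hg)).toEquiv
  · intro x hx
    refine (QuotientGroup.eq_one_iff _).mp ?_
    change Abelianization.of (x * x) = 1
    rw [map_mul]
    exact hsqf _ hx
  · intro x hx hxc y hy hyc
    obtain ⟨i, hi⟩ := htrans _ hx (fun h => hxc ((QuotientGroup.eq_one_iff _).mp h)) _ hy
      (fun h => hyc ((QuotientGroup.eq_one_iff _).mp h))
    rw [S.bar_pow] at hi
    exact ⟨i, QuotientGroup.eq.mp hi⟩
  · have hP : Nat.card (conjugatesOf t) = Nat.card (commutator X) := by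
      have h1 := card_mul_index (commutator X)
      rw [hidx, ← S.card_class] at h1
      exact (Nat.eq_of_mul_eq_mul_right (Nat.two_pow_pos _) h1).symm
    have hsub : conjugatesOf t ⊆ (fun c => t * c) '' (commutator X : Set X) := by
      intro u hu
      obtain ⟨x, rfl⟩ := isConj_iff.mp hu
      refine ⟨⁅t⁻¹, x⁆, commutator_mem_commutator (mem_top _) (mem_top x), ?_⟩
      rw [commutatorElement_def, inv_inv]; group
    have heq := Set.eq_of_subset_of_ncard_le hsub (by
      rw [Set.ncard_image_of_injective _ (mul_right_injective t), ← Nat.card_coe_set_eq,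
        ← Nat.card_coe_set_eq, hP]
      rfl) (Set.toFinite _)
    intro c hc
    exact (heq.ge ⟨c, hc, rfl⟩ : t * c ∈ conjugatesOf t)

/-- An involution of `R` with a small centralizer forces `X = C(t)`. -/
theorem small {R : Subgroup X} (hRi : R.index = 2) (hR' : commutator X ≤ R)
    (hrel : (commutator X).relIndex R = 2 ^ n)
    (hsqR : ∀ x ∈ R, x * x ∈ commutator X)
    (htr : ∀ x ∈ R, x ∉ commutator X → ∀ y ∈ R, y ∉ commutator X → ∃ i : ℕ, ((ρ ^ i) x)⁻¹ * y ∈ commutator X)
    {u : X} (huR : u ∈ R) (hu : u * u = 1) (hcu : Nat.card (centralizer ({u} : Set X)) ≤ 2 ^ (n + 1)) :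
    Nat.card X = 2 ^ (n + 1) := by
  classical
  have h4 := S.four_le
  have hidx : (commutator X).index = 2 ^ (n + 1) := by
    rw [← relIndex_mul_index hR', hrel, hRi, pow_succ]
  have hclass : conjugatesOf u = (fun c => u * c) '' (commutator X : Set X) := by
    have hsub : conjugatesOf u ⊆ (fun c => u * c) '' (commutator X : Set X) := by
      intro v hv
      obtain ⟨x, rfl⟩ := isConj_iff.mp hv
      refine ⟨⁅u⁻¹, x⁆, commutator_mem_commutator (mem_top _) (mem_top x), ?_⟩
      rw [commutatorElement_def, inv_inv]; group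
    refine Set.eq_of_subset_of_ncard_le hsub ?_ (Set.toFinite _)
    rw [Set.ncard_image_of_injective _ (mul_right_injective u), ← Nat.card_coe_set_eq,
      ← Nat.card_coe_set_eq]
    change Nat.card (commutator X) ≤ _
    have h1 := card_mul_index (centralizer ({u} : Set X))
    rw [index_centralizer, ← card_mul_index (commutator X), hidx] at h1
    refine Nat.le_of_mul_le_mul_right ?_ (Nat.two_pow_pos (n + 1))
    rw [← h1, mul_comm (Nat.card (conjugatesOf u))]
    exact Nat.mul_le_mul_right _ hcu
  have hconj : ∀ c ∈ commutator X, IsConj u (u * c) := fun c hc =>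
    (hclass.ge ⟨c, hc, rfl⟩ : u * c ∈ conjugatesOf u)
  by_cases hu1 : u = 1
  · subst hu1
    have htop : centralizer ({(1 : X)} : Set X) = ⊤ := eq_top_iff.mpr fun x _ => by
      rw [mem_centralizer_singleton_iff, one_mul, mul_one]
    rw [htop, card_top] at hcu
    exact le_antisymm hcu (S.card_cent ▸ Subgroup.card_le_card_group _)
  have huc : u ∉ commutator X := by
    intro h
    have h1 : IsConj u 1 := by
      have := hconj u h
      rwa [hu] at this
    exact hu1 (isConj_one_right.mp h1.symm)
  have hinv : ∀ y ∈ R, y ∉ commutator X → y * y = 1 := by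
    intro y hy hyc
    obtain ⟨i, hi⟩ := htr u huR huc y hy hyc
    haveI : (commutator X).Characteristic := inferInstance
    have hc : (ρ ^ i).symm (((ρ ^ i) u)⁻¹ * y) ∈ commutator X := by
      have := (Subgroup.characteristic_iff_comap_eq.mp inferInstance (ρ ^ i).symm : (commutator X).comap _ = _)
      exact (this.ge hi : _)
    obtain ⟨x, hx⟩ := isConj_iff.mp (hconj _ hc)
    have hy' : y = (ρ ^ i) (x * u * x⁻¹) := by rw [hx]; simp
    rw [hy', ← map_mul]
    have : x * u * x⁻¹ * (x * u * x⁻¹) = 1 := by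
      rw [show x * u * x⁻¹ * (x * u * x⁻¹) = x * (u * u) * x⁻¹ by group, hu, mul_one, mul_inv_cancel]
    rw [this, map_one]
  have hout : ∀ a ∈ R, a ∉ commutator X → ∀ b ∈ R, b ∉ commutator X → a * b ∉ commutator X →
      a * b = b * a := by
    intro a ha ha' b hb hb' hab
    have e1 := hinv a ha ha'
    have e2 := hinv b hb hb'
    have e3 := hinv _ (mul_mem ha hb) hab
    calc a * b = (a * b)⁻¹ := (inv_eq_of_mul_eq_one_right e3).symm
      _ = b * a := by rw [mul_inv_rev, inv_eq_of_mul_eq_one_right e1, inv_eq_of_mul_eq_one_right e2]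
  haveI hnor : (commutator X).Normal := inferInstance
  have hcomm : ∀ a ∈ R, a ∉ commutator X → ∀ b ∈ R, b ∉ commutator X → a * b = b * a := by
    intro a ha ha' b hb hb'
    by_cases hab : a * b ∈ commutator X
    swap
    · exact hout a ha ha' b hb hb' hab
    obtain ⟨c, hc, hc', hac⟩ : ∃ c ∈ R, c ∉ commutator X ∧ a * c ∉ commutator X := by
      by_contra h
      push Not at h
      -- then `R` is covered by two cosets
      have hsub : ((commutator X).subgroupOf R : Set R)ᶜ ⊆
          (fun c : ((commutator X).subgroupOf R) => (⟨a, ha⟩ : R)⁻¹ * c.1) '' Set.univ := by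
        intro c hc
        exact ⟨⟨⟨a, ha⟩ * c, h c c.2 (fun hh => hc hh)⟩, trivial, by simp⟩
      have h1 : ((commutator X).subgroupOf R : Set R)ᶜ.ncard ≤ Nat.card ((commutator X).subgroupOf R) :=
        ((Set.ncard_le_ncard hsub (Set.toFinite _)).trans (Set.ncard_image_le (Set.toFinite _))).trans_eq
          (Set.ncard_univ _)
      rw [Set.ncard_compl, ← Nat.card_coe_set_eq] at h1
      change Nat.card R - Nat.card ((commutator X).subgroupOf R) ≤ _ at h1
      have h2 := card_mul_index ((commutator X).subgroupOf R)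
      change _ * (commutator X).relIndex R = _ at h2
      rw [hrel] at h2
      have h3 : 0 < Nat.card ((commutator X).subgroupOf R) := Nat.card_pos
      have : Nat.card ((commutator X).subgroupOf R) * 4 ≤ Nat.card R := h2 ▸ Nat.mul_le_mul_left _ h4
      omega
    have hbc : b * c ∉ commutator X := by
      intro h
      refine hac ?_
      have e : a * c = (a * b) * ((b * b)⁻¹ * (b * c)) := by group
      rw [e]
      exact mul_mem hab (mul_mem (inv_mem (hsqR b hb)) h)
    have e1 : b * c = c * b := hout b hb hb' c hc hc' hbc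
    have e2 : b * (a * c) = a * c * b := hout b hb hb' (a * c) (mul_mem ha hc) hac fun h => hc' (by
      have e : c = a⁻¹ * b⁻¹ * (b * (a * c)) := by group
      rw [e]
      refine mul_mem ?_ h
      rw [← mul_inv_rev]
      refine inv_mem ?_
      have e' : b * a = a⁻¹ * (a * b) * a⁻¹⁻¹ := by group
      rw [e']
      exact hnor.conj_mem _ hab _)
    refine mul_right_cancel (b := c) ?_
    rw [mul_assoc, e1, ← mul_assoc, mul_assoc b a c, e2]
  have hexp : ∀ x ∈ R, x * x = 1 := by
    intro x hx
    by_cases hxc : x ∈ commutator X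
    swap
    · exact hinv x hx hxc
    have h1 : u * x ∉ commutator X := fun h => huc ((mul_mem_cancel_right hxc).mp h)
    have e : x = u * (u * x) := by rw [← mul_assoc, hu, one_mul]
    have hcm := hcomm u huR huc (u * x) (mul_mem huR hx) h1
    rw [e]
    rw [show u * (u * x) * (u * (u * x)) = u * ((u * x) * u) * (u * x) by group, ← hcm,
      show u * (u * (u * x)) * (u * x) = (u * u) * ((u * x) * (u * x)) by group,
      hu, hinv _ (mul_mem huR hx) h1, one_mul]
  have hRC : R ≤ centralizer ({u} : Set X) := fun x hx => by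
    rw [mem_centralizer_singleton_iff]
    have e1 := hexp x hx
    have e3 := hexp _ (mul_mem hx huR)
    calc x * u = (x * u)⁻¹ := (inv_eq_of_mul_eq_one_right e3).symm
      _ = u * x := by rw [mul_inv_rev, inv_eq_of_mul_eq_one_right hu, inv_eq_of_mul_eq_one_right e1]
  have hR := card_mul_index R
  have hR2 := card_mul_index ((commutator X).subgroupOf R)
  change _ * (commutator X).relIndex R = _ at hR2
  rw [hrel, Nat.card_congr (subgroupOfEquivOfLe hR').toEquiv] at hR2
  have hle : Nat.card (commutator X) * 2 ^ n ≤ 2 ^ (n + 1) :=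
    hR2.trans_le ((Subgroup.card_le_of_le hRC).trans hcu)
  have hle2 : Nat.card (commutator X) ≤ 2 := by
    rw [pow_succ, mul_comm (2 ^ n)] at hle
    exact Nat.le_of_mul_le_mul_right hle (Nat.two_pow_pos n)
  have h1 : Nat.card (commutator X) = 1 := by
    by_contra h
    obtain ⟨c, hc, hc1⟩ := (Subgroup.bot_or_exists_ne_one (commutator X)).resolve_left fun e => h (by
      rw [e, card_bot])
    have hρc : ρ c ∈ commutator X := by
      have := (Subgroup.characteristic_iff_comap_eq.mp inferInstance ρ : (commutator X).comap _ = _)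
      exact (this.ge hc : _)
    have hfix : ρ c = c := by
      by_contra hne
      have hne1 : ρ c ≠ 1 := fun e => hc1 ((MulEquiv.map_eq_one_iff ρ).mp e)
      have : ({1, c, ρ c} : Set X).ncard ≤ 2 := by
        refine (Set.ncard_le_ncard (t := (commutator X : Set X)) ?_ (Set.toFinite _)).trans ?_
        · rintro x (rfl | rfl | rfl)
          · exact one_mem _
          · exact hc
          · exact hρc
        · rw [← Nat.card_coe_set_eq]; exact hle2
      rw [Set.ncard_insert_of_notMem (by simp [Ne.symm hc1, Ne.symm hne1]), Set.ncard_pair (Ne.symm hne)] at this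
      omega
    rcases S.fix (i := 1) (fun h' => by have := Nat.le_of_dvd one_pos h'; omega)
      (x := c) (by rw [pow_one]; exact hfix) with e | e
    · exact hc1 e
    · exact S.not_mem (e ▸ hc)
  rw [← hR, hRi, ← hR2, h1, one_mul, pow_succ]

end Setup

end Cfsg.Agent.TwoTimesPSL
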