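import Cfsg.Agent.Lib.TwoTimesPSL.ChainBasic
import Cfsg.Agent.Lib.TwoTimesPSL.Dihedral
import Cfsg.Agent.Lib.TwoTimesPSL.Factor
import Cfsg.Agent.Lib.ExtLayer.Basic

/-!
# From the centralizer modulo its odd core to the two situations

* `conj_of_congr` : congruent involutions modulo a subgroup of odd order are conjugate
* `local_data` : if `C / O(C)` has 2-generated part `Z₂ × M`, then `C` is not soluble and `(G, t)` is in the
  elementary situation `Pre` or in the dihedral situation `Dih`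
-/

set_option autoImplicit false
set_option linter.unusedSectionVars false
set_option linter.style.haveILetI false

open Subgroup

namespace Cfsg.Agent.TwoTimesPSL

theorem isPGroup_zpowers_of_pow {C : Type*} [Group C] {x : C} {b : ℕ} (h : orderOf x = 2 ^ b) :
    IsPGroup 2 (zpowers x) := IsPGroup.of_card (n := b) (by rw [Nat.card_zpowers, h])

theorem conj_of_congr {C : Type*} [Group C] [Finite C] {N : Subgroup C} (hodd : Odd (Nat.card N)) {a b : C}
    (ha : a * a = 1) (hb : b * b = 1) (h : a * b ∈ N) : ∃ w : C, w * b * w⁻¹ = a := by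
  obtain ⟨i, hi⟩ : Odd (orderOf (a * b)) := hodd.of_dvd_nat (Subgroup.orderOf_dvd_natCard _ h)
  have hs : (a * b) ^ (2 * i + 1) = 1 := by rw [← hi, pow_orderOf_eq_one]
  have hbs : b * (a * b) * b⁻¹ = (a * b)⁻¹ := by
    rw [mul_inv_rev, inv_eq_of_mul_eq_one_right hb, inv_eq_of_mul_eq_one_right ha]
    calc b * (a * b) * b = b * a * (b * b) := by group
      _ = b * a := by rw [hb, mul_one]
  have key : ∀ j : ℕ, b * (a * b) ^ j = ((a * b)⁻¹) ^ j * b := fun j => by
    rw [← hbs, conj_pow]; group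
  refine ⟨(a * b) ^ (i + 1), ?_⟩
  have e : b * ((a * b) ^ (i + 1))⁻¹ = (a * b) ^ (i + 1) * b := by
    rw [mul_inv_eq_iff_eq_mul, mul_assoc, key, ← mul_assoc, inv_pow, mul_inv_cancel, one_mul]
  calc (a * b) ^ (i + 1) * b * ((a * b) ^ (i + 1))⁻¹ = (a * b) ^ (i + 1) * (b * ((a * b) ^ (i + 1))⁻¹) := by
        rw [mul_assoc]
    _ = (a * b) ^ (2 * i + 1) * (a * b) * b := by
      rw [e, ← mul_assoc, ← pow_add, ← pow_succ]; congr 2; omega
    _ = a := by rw [hs, one_mul, mul_assoc, hb, mul_one]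

theorem mulA_cases (a : Multiplicative (ZMod 2)) : a = 1 ∨ a = Multiplicative.ofAdd 1 := by
  revert a; decide

theorem mulA_self (a : Multiplicative (ZMod 2)) : a * a = 1 := by revert a; decide

theorem ofAdd_one_ne : Multiplicative.ofAdd (1 : ZMod 2) ≠ 1 := by decide

variable {G : Type*} [Group G] [Finite G]

theorem local_data {t : G} (ht : orderOf t = 2) {M : Type*} [Group M] [Finite M] [IsSimpleGroup M]
    (hna : ¬ ∀ a b : M, a * b = b * a)
    (hM : ∀ Q : Sylow 2 M, (∃ n k0, ElemData n (Q : Subgroup M) k0) ∨ ∃ z, DihData (Q : Subgroup M) z)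
    (e : ↥(Subgroup.closure {x : (↥(centralizer ({t} : Set G)) ⧸ Cfsg.oddCore ↥(centralizer ({t} : Set G))) |
      ∃ k : ℕ, orderOf x = 2 ^ k}) ≃* (Multiplicative (ZMod 2) × M)) (hnit : NoIndexTwo G) :
    ¬ Group.IsSolvable (centralizer ({t} : Set G)) ∧
      ((∃ (n : ℕ) (k : G) (E : Subgroup G), Pre n t k E) ∨
        ∃ (m : ℕ) (z : G) (D : Subgroup G), Dih m t z D) := by
  classical
  haveI : Fact (Nat.Prime 2) := ⟨Nat.prime_two⟩
  set C := centralizer ({t} : Set G) with hC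
  set π := QuotientGroup.mk' (Cfsg.oddCore ↥C) with hπ
  set L := Subgroup.closure {x : (↥C ⧸ Cfsg.oddCore ↥C) | ∃ k : ℕ, orderOf x = 2 ^ k} with hLdef
  have hπs : Function.Surjective π := QuotientGroup.mk'_surjective _
  have hN0 : Odd (Nat.card (Cfsg.oddCore ↥C)) := ExtLayer.oddCore_odd
  have h2L : ∀ {x : C}, IsPGroup 2 (zpowers x) → π x ∈ L := fun {x} hx => by
    obtain ⟨b, hb⟩ := IsPGroup.iff_orderOf.1 hx ⟨x, mem_zpowers x⟩
    rw [← Subgroup.orderOf_coe] at hb
    refine subset_closure ?_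
    obtain ⟨c, -, hc⟩ := (Nat.dvd_prime_pow Nat.prime_two).1 (hb ▸ orderOf_map_dvd π x)
    exact ⟨c, hc⟩
  -- the centre of `M`
  have hZM : ∀ m : M, (∀ x, m * x = x * m) → m = 1 := by
    intro m hm
    rcases (inferInstance : (center M).Normal).eq_bot_or_eq_top with h | h
    · have : m ∈ center M := mem_center_iff.2 fun x => (hm x).symm
      rwa [h, Subgroup.mem_bot] at this
    · exact absurd (fun a b => (mem_center_iff.1 (h ▸ mem_top b) a)) hna
  have hns : ¬ Group.IsSolvable C := by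
    intro hs
    haveI := hs
    haveI : Group.IsSolvable (↥C ⧸ Cfsg.oddCore ↥C) := Group.isSolvable_of_surjective hπs
    haveI : Group.IsSolvable (Multiplicative (ZMod 2) × M) :=
      Group.isSolvable_of_surjective (f := e.toMonoidHom) e.surjective
    have hsM : Group.IsSolvable M :=
      Group.isSolvable_of_surjective (f := MonoidHom.snd (Multiplicative (ZMod 2)) M) Prod.snd_surjective
    haveI := hsM
    exact hna fun a b => IsSimpleGroup.comm_iff_isSolvable.2 hsM a b
  refine ⟨hns, ?_⟩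
  have ht2 : t * t = 1 := by rw [← pow_two, ← ht, pow_orderOf_eq_one]
  let tC : C := ⟨t, mem_centralizer_singleton_iff.2 rfl⟩
  have htC : ∀ x : C, x * tC = tC * x := fun x => Subtype.ext (mem_centralizer_singleton_iff.1 x.2)
  have htC2 : tC * tC = 1 := Subtype.ext ht2
  have htC1 : tC ≠ 1 := fun h => by
    have : t = 1 := congrArg Subtype.val h
    rw [this, orderOf_one] at ht; omega
  -- a Sylow subgroup
  obtain ⟨S⟩ := (inferInstance : Nonempty (Sylow 2 C))
  have hSmem : ∀ {x : C}, x ∈ (S : Subgroup C) → π x ∈ L := fun {x} hx =>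
    h2L (S.2.to_le (zpowers_le.2 hx))
  have htS : tC ∈ (S : Subgroup C) := by
    have hp : IsPGroup 2 ((S : Subgroup C) ⊔ zpowers tC : Subgroup C) :=
      S.2.to_sup_of_normal_left' (zpowers_isPGroup_of_sq htC2) (zpowers_le.2 (Subgroup.mem_normalizer_iff.2
        fun x => by rw [← htC x, mul_inv_cancel_right]))
    rw [← S.3 hp le_sup_left]
    exact mem_sup_right (mem_zpowers tC)
  let ρ : (S : Subgroup C) →* Multiplicative (ZMod 2) × M :=
    e.toMonoidHom.comp ((π.comp (S : Subgroup C).subtype).codRestrict L fun x => hSmem x.2)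
  have hρ : ∀ (x : C) (hx : x ∈ (S : Subgroup C)), ρ ⟨x, hx⟩ = e ⟨π x, hSmem hx⟩ := fun _ _ => rfl
  have hρinj : Function.Injective ρ := by
    refine (injective_iff_map_eq_one ρ).2 fun x hx => ?_
    have h1 : π (x : C) = 1 := congrArg Subtype.val ((map_eq_one_iff e e.injective).1 hx)
    have h2 : (x : C) ∈ Cfsg.oddCore ↥C := (QuotientGroup.eq_one_iff _).1 h1
    obtain ⟨b, hb⟩ := IsPGroup.iff_orderOf.1 S.2 x
    rw [← Subgroup.orderOf_coe] at hb
    have h3 := hb ▸ Subgroup.orderOf_dvd_natCard _ h2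
    refine Subtype.ext (orderOf_eq_one_iff.1 ?_)
    rw [hb]
    rcases b with _ | b
    · rfl
    · exact absurd (even_iff_two_dvd.2 ((dvd_pow_self 2 (Nat.succ_ne_zero b)).trans h3))
        (Nat.not_even_iff_odd.2 hN0)
  have hρt : ρ ⟨tC, htS⟩ = (Multiplicative.ofAdd 1, 1) := by
    have hcent : ∀ y, ρ ⟨tC, htS⟩ * y = y * ρ ⟨tC, htS⟩ := by
      intro y
      obtain ⟨⟨w, hw⟩, rfl⟩ := e.surjective y
      obtain ⟨c, rfl⟩ := hπs w
      rw [hρ, ← map_mul, ← map_mul]
      congr 1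
      exact Subtype.ext (by
        show π tC * π c = π c * π tC
        rw [← map_mul, ← map_mul, htC])
    have hsnd : (ρ ⟨tC, htS⟩).2 = 1 := hZM _ fun m => congrArg Prod.snd (hcent (1, m))
    refine Prod.ext ((mulA_cases _).resolve_left fun h => ?_) hsnd
    have h1 : ρ ⟨tC, htS⟩ = 1 := Prod.ext h hsnd
    exact htC1 (congrArg Subtype.val ((map_eq_one_iff ρ hρinj).1 h1))
  -- the projection is a Sylow subgroup of `M`
  let p2 : (S : Subgroup C) →* M := (MonoidHom.snd _ M).comp ρ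
  let p1 : (S : Subgroup C) →* Multiplicative (ZMod 2) := (MonoidHom.fst _ M).comp ρ
  let fL : L →* M := (MonoidHom.snd _ M).comp e.toMonoidHom
  have hfL : Function.Surjective fL := Prod.snd_surjective.comp e.surjective
  obtain ⟨U, hU⟩ : ∃ U : Sylow 2 M, (U : Subgroup M) = p2.range := by
    have hSL : ((S.mapSurjective hπs : Sylow 2 _) : Subgroup (↥C ⧸ Cfsg.oddCore ↥C)) ≤ L := by
      rw [Sylow.coe_mapSurjective]
      rintro _ ⟨x, hx, rfl⟩
      exact hSmem hx
    refine ⟨((S.mapSurjective hπs).subtype hSL).mapSurjective hfL, ?_⟩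
    rw [Sylow.coe_mapSurjective, Sylow.coe_subtype, Sylow.coe_mapSurjective]
    ext m
    constructor
    · rintro ⟨⟨w, hwL⟩, hw, rfl⟩
      obtain ⟨x, hx, hxw⟩ := mem_subgroupOf.1 hw
      refine ⟨⟨x, hx⟩, ?_⟩
      have hxw' : π x = w := hxw
      subst hxw'
      rfl
    · rintro ⟨⟨x, hx⟩, rfl⟩
      exact ⟨⟨π x, hSmem hx⟩, mem_subgroupOf.2 ⟨x, hx, rfl⟩, rfl⟩
  have hpre : ∀ a, ∀ u ∈ (U : Subgroup M), ∃ x : (S : Subgroup C), ρ x = (a, u) := by
    intro a u hu
    rw [hU] at hu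
    obtain ⟨x, rfl⟩ := hu
    rcases mulA_cases (a * (ρ x).1⁻¹) with h | h
    · exact ⟨x, Prod.ext (mul_inv_eq_one.1 h).symm rfl⟩
    · refine ⟨⟨tC, htS⟩ * x, ?_⟩
      rw [map_mul, hρt]
      refine Prod.ext ?_ (one_mul _)
      show Multiplicative.ofAdd 1 * (ρ x).1 = a
      rw [← h, inv_mul_cancel_right]
  have hρU : ∀ x, (ρ x).2 ∈ (U : Subgroup M) := fun x => hU ▸ ⟨x, rfl⟩
  -- `D`, `T`
  let ι : (S : Subgroup C) →* G := C.subtype.comp (S : Subgroup C).subtype
  have hι : Function.Injective ι := Subtype.val_injective.comp Subtype.val_injective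
  let D : Subgroup G := p1.ker.map ι
  have hDmem : ∀ x : (S : Subgroup C), ι x ∈ D ↔ (ρ x).1 = 1 := fun x => by
    refine ⟨?_, fun h => ⟨x, MonoidHom.mem_ker.2 h, rfl⟩⟩
    rintro ⟨y, hy, hxy⟩
    rw [← hι hxy]
    exact hy
  have hT : D ⊔ zpowers t = ι.range := by
    refine le_antisymm (sup_le (Subgroup.map_le_range ι _) (zpowers_le.2 ⟨⟨tC, htS⟩, rfl⟩)) ?_
    rintro _ ⟨x, rfl⟩
    rcases mulA_cases (ρ x).1 with h | h
    · exact mem_sup_left ((hDmem x).2 h)
    · have h1 : ι (x * ⟨tC, htS⟩) ∈ D := (hDmem _).2 (by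
        rw [map_mul, hρt]
        show (ρ x).1 * Multiplicative.ofAdd 1 = 1
        rw [h]; exact mulA_self _)
      rw [map_mul] at h1
      have e1 : ι x = ι x * ι ⟨tC, htS⟩ * t := by
        show _ = ι x * t * t
        rw [mul_assoc, ht2, mul_one]
      rw [e1]
      exact mul_mem (mem_sup_left h1) (mem_sup_right (mem_zpowers t))
  have hDt : ∀ d ∈ D, d * t = t * d := by
    rintro _ ⟨x, -, rfl⟩
    exact congrArg Subtype.val (htC (x : C))
  have htD : t ∉ D := fun h => by
    have h1 := (hDmem ⟨tC, htS⟩).1 h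
    rw [hρt] at h1
    have h2 : Multiplicative.ofAdd (1 : ZMod 2) = 1 := h1
    exact ofAdd_one_ne h2
  have hScard : Nat.card (D ⊔ zpowers t : Subgroup G) = Nat.card (S : Subgroup C) := by
    rw [hT]; exact (Nat.card_congr (MonoidHom.ofInjective hι).toEquiv).symm
  have hmax : ∀ X : Subgroup G, IsPGroup 2 X → (∀ x ∈ X, x * t = t * x) →
      Nat.card X ≤ Nat.card (S : Subgroup C) := by
    intro X hX hXc
    have hle : X ≤ C := fun x hx => mem_centralizer_singleton_iff.2 (hXc x hx)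
    obtain ⟨Q, hQ⟩ := IsPGroup.exists_le_sylow (hX.comap_subtype (K := C))
    rw [← Nat.card_congr (Subgroup.subgroupOfEquivOfLe hle).toEquiv, Nat.card_congr (Sylow.equiv S Q).toEquiv]
    exact Subgroup.card_le_of_le hQ
  -- lifting
  have hlift : ∀ m : M, ∃ (c : C) (hc : π c ∈ L), e ⟨π c, hc⟩ = (1, m) := fun m => by
    obtain ⟨c, hc⟩ := hπs (e.symm (1, m) : L)
    refine ⟨c, hc ▸ (e.symm (1, m)).2, ?_⟩
    conv_rhs => rw [← e.apply_symm_apply (1, m)]
    exact congrArg e (Subtype.ext hc)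
  -- `ρ` is `ι`-equivariant
  rcases hM U with ⟨n, k0, hdata⟩ | ⟨z0, hdata⟩
  · left
    have hcardS : Nat.card (S : Subgroup C) = 2 ^ (n + 1) := by
      have hA2 : Nat.card (Multiplicative (ZMod 2) × (U : Subgroup M)) = 2 * Nat.card (U : Subgroup M) := by
        simp
      rw [pow_succ', ← hdata.card, ← hA2]
      refine Nat.card_eq_of_bijective (fun x => ((ρ x).1, (⟨(ρ x).2, hρU x⟩ : (U : Subgroup M)))) ⟨?_, ?_⟩
      · intro x y h
        have h' : ((ρ x).1, (⟨(ρ x).2, hρU x⟩ : (U : Subgroup M))) = ((ρ y).1, ⟨(ρ y).2, hρU y⟩) := h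
        exact hρinj (Prod.ext (Prod.ext_iff.1 h').1 (congrArg Subtype.val (Prod.ext_iff.1 h').2))
      · rintro ⟨a, u, hu⟩
        obtain ⟨x, hx⟩ := hpre a u hu
        exact ⟨x, by simp [hx]⟩
    -- an element inducing `k0`
    obtain ⟨c0, hc0L, hc0⟩ := hlift k0
    obtain ⟨c1, hc1N, hc1L, hc1⟩ : ∃ (c1 : C) (_ : c1 ∈ normalizer ((S : Subgroup C) : Set C)) (h : π c1 ∈ L),
        e ⟨π c1, h⟩ = (1, k0) := by
      let W : Subgroup C := ((S : Subgroup C).map π).comap π
      have hSW : (S : Subgroup C) ≤ W := fun x hx => ⟨x, hx, rfl⟩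
      have hcx : ∀ x ∈ (S : Subgroup C), c0 * x * c0⁻¹ ∈ W := by
        intro x hx
        obtain ⟨y, hy⟩ := hpre (ρ ⟨x, hx⟩).1 (k0 * (ρ ⟨x, hx⟩).2 * k0⁻¹) (hdata.norm _ (hρU _))
        refine ⟨y, y.2, ?_⟩
        have h1 : e ⟨π (y : C), hSmem y.2⟩ = e (⟨π c0, hc0L⟩ * ⟨π x, hSmem hx⟩ * ⟨π c0, hc0L⟩⁻¹) := by
          rw [map_mul, map_mul, map_inv, hc0, ← hρ, ← hρ]
          show ρ y = _
          rw [hy]
          refine Prod.ext ?_ rfl
          show _ = 1 * _ * (1 : Multiplicative (ZMod 2))⁻¹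
          rw [one_mul, inv_one, mul_one]
        have h2 := congrArg Subtype.val (e.injective h1)
        show π (y : C) = π (c0 * x * c0⁻¹)
        refine h2.trans ?_
        rw [map_mul, map_mul, map_inv]
        rfl
      let S' : Subgroup C := (S : Subgroup C).map (MulAut.conj c0).toMonoidHom
      have hS'W : S' ≤ W := by rintro _ ⟨x, hx, rfl⟩; exact hcx x hx
      have hS'p : IsPGroup 2 S' := S.2.map _
      obtain ⟨Q', hQ'⟩ := IsPGroup.exists_le_sylow (hS'p.comap_subtype (K := W))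
      obtain ⟨w, hw⟩ := MulAction.exists_smul_eq W Q' (S.subtype hSW)
      obtain ⟨y, hy, hyw⟩ := w.2
      have hconj : ∀ x ∈ (S : Subgroup C), (w : C) * (c0 * x * c0⁻¹) * (w : C)⁻¹ ∈ (S : Subgroup C) := by
        intro x hx
        have h1 : w * ⟨_, hcx x hx⟩ * w⁻¹ ∈ ((S.subtype hSW : Sylow 2 W) : Subgroup W) := by
          rw [← hw, Sylow.coe_subgroup_smul, Subgroup.mem_smul_pointwise_iff_exists]
          exact ⟨_, hQ' (show (⟨_, hcx x hx⟩ : W) ∈ S'.subgroupOf W from ⟨x, hx, rfl⟩), rfl⟩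
        rw [Sylow.coe_subtype] at h1
        exact h1
      have hyS : y ∈ normalizer ((S : Subgroup C) : Set C) := (S : Subgroup C).le_normalizer hy
      have hπc : π (y⁻¹ * (w : C) * c0) = π c0 := by
        rw [map_mul, map_mul, map_inv, hyw, inv_mul_cancel, one_mul]
      refine ⟨y⁻¹ * (w : C) * c0, ?_, hπc.symm ▸ hc0L, ?_⟩
      · rw [mul_assoc]
        refine mul_mem (inv_mem hyS) (mem_normalizer_of fun x hx => ?_)
        have := hconj x hx
        rwa [show (w : C) * c0 * x * ((w : C) * c0)⁻¹ = (w : C) * (c0 * x * c0⁻¹) * (w : C)⁻¹ by group]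
      · rw [← hc0]; exact congrArg e (Subtype.ext hπc)
    have hc1act : ∀ x (hx : x ∈ (S : Subgroup C)),
        ρ ⟨c1 * x * c1⁻¹, (Subgroup.mem_normalizer_iff.1 hc1N x).1 hx⟩ = (1, k0) * ρ ⟨x, hx⟩ * (1, k0)⁻¹ := by
      intro x hx
      rw [hρ, hρ, ← hc1, ← map_inv, ← map_mul, ← map_mul]
      exact congrArg e (Subtype.ext (by
        show π (c1 * x * c1⁻¹) = π c1 * π x * (π c1)⁻¹
        rw [map_mul, map_mul, map_inv]))
    obtain ⟨j, o, ho, he'⟩ := Nat.exists_eq_two_pow_mul_odd (n := orderOf c1) (orderOf_pos c1).ne'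
    set r := 2 ^ (n * j) with hr
    let kC : C := c1 ^ r
    have hkN : kC ∈ normalizer ((S : Subgroup C) : Set C) := (normalizer _).pow_mem hc1N r
    have hpowact : ∀ (i : ℕ) x (hx : x ∈ (S : Subgroup C)),
        ρ ⟨c1 ^ i * x * (c1 ^ i)⁻¹, (Subgroup.mem_normalizer_iff.1 ((normalizer _).pow_mem hc1N i) x).1 hx⟩ =
          (1, k0 ^ i) * ρ ⟨x, hx⟩ * (1, k0 ^ i)⁻¹ := by
      intro i
      induction i with
      | zero =>
        intro x hx
        rw [pow_zero k0, Prod.mk_one_one, inv_one, one_mul, mul_one]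
        exact congrArg ρ (Subtype.ext (by simp))
      | succ i ih =>
        intro x hx
        have h1 := (Subgroup.mem_normalizer_iff.1 hc1N x).1 hx
        have h2 := ih _ h1
        rw [hc1act x hx] at h2
        have e1 : c1 ^ (i + 1) * x * (c1 ^ (i + 1))⁻¹ = c1 ^ i * (c1 * x * c1⁻¹) * (c1 ^ i)⁻¹ := by
          rw [pow_succ]; group
        refine Eq.trans ?_ (h2.trans ?_)
        · exact congrArg ρ (Subtype.ext e1)
        rw [show ((1 : Multiplicative (ZMod 2)), k0 ^ (i + 1)) = (1, k0 ^ i) * (1, k0) by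
            rw [Prod.mk_mul_mk, one_mul, pow_succ]]
        group
    have hperU : ∀ (s : ℕ) (u : M), u ∈ (U : Subgroup M) →
        k0 ^ ((2 ^ n - 1) * s) * u * (k0 ^ ((2 ^ n - 1) * s))⁻¹ = u := fun s u hu => by
      have hc : Commute (k0 ^ (2 ^ n - 1)) u := mul_inv_eq_iff_eq_mul.1 (hdata.order u hu)
      rw [pow_mul, (hc.pow_left s).eq, mul_inv_cancel_right]
    obtain ⟨s, hs⟩ : ∃ s, r = 1 + (2 ^ n - 1) * s := by
      obtain ⟨s, hs⟩ : (2 ^ n - 1) ∣ 2 ^ (n * j) - 1 := by
        have := Nat.sub_dvd_pow_sub_pow (2 ^ n) 1 j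
        rwa [one_pow, ← pow_mul] at this
      exact ⟨s, by rw [← hs, hr, Nat.add_sub_cancel' Nat.one_le_two_pow]⟩
    have hconjpair : ∀ (a : Multiplicative (ZMod 2)) (m u : M),
        (1, m) * (a, u) * ((1, m) : Multiplicative (ZMod 2) × M)⁻¹ = (a, m * u * m⁻¹) := by
      intro a m u
      refine Prod.ext ?_ rfl
      show 1 * a * (1 : Multiplicative (ZMod 2))⁻¹ = a
      rw [one_mul, inv_one, mul_one]
    have hkact : ∀ (i : ℕ) x (hx : x ∈ (S : Subgroup C)),
        ρ ⟨kC ^ i * x * (kC ^ i)⁻¹, (Subgroup.mem_normalizer_iff.1 ((normalizer _).pow_mem hkN i) x).1 hx⟩ =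
          (1, k0 ^ i) * ρ ⟨x, hx⟩ * (1, k0 ^ i)⁻¹ := by
      intro i x hx
      have e1 : kC ^ i * x * (kC ^ i)⁻¹ = c1 ^ (r * i) * x * (c1 ^ (r * i))⁻¹ := by rw [pow_mul]
      refine Eq.trans ?_ ((hpowact (r * i) x hx).trans ?_)
      · exact congrArg ρ (Subtype.ext e1)
      rw [← Prod.mk.eta (p := ρ ⟨x, hx⟩), hconjpair, hconjpair,
        show r * i = i + (2 ^ n - 1) * (s * i) by rw [hs]; ring, pow_add]
      refine Prod.ext rfl ?_
      show k0 ^ i * k0 ^ ((2 ^ n - 1) * (s * i)) * (ρ ⟨x, hx⟩).2 * (k0 ^ i * k0 ^ ((2 ^ n - 1) * (s * i)))⁻¹ = _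
      rw [mul_inv_rev, ← mul_assoc, mul_assoc (k0 ^ i), mul_assoc (k0 ^ i), hperU _ _ (hρU _)]
    have hkmem : ∀ (i : ℕ) (x : (S : Subgroup C)), kC ^ i * (x : C) * (kC ^ i)⁻¹ ∈ (S : Subgroup C) :=
      fun i x => (Subgroup.mem_normalizer_iff.1 ((normalizer _).pow_mem hkN i) _).1 x.2
    have hιk : ∀ (i : ℕ) (x : (S : Subgroup C)),
        (kC : G) ^ i * ι x * ((kC : G) ^ i)⁻¹ = ι ⟨_, hkmem i x⟩ := fun i x => by
      show _ = ((kC ^ i * (x : C) * (kC ^ i)⁻¹ : C) : G)
      rw [Subgroup.coe_mul, Subgroup.coe_mul, Subgroup.coe_inv, SubmonoidClass.coe_pow]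
      rfl
    have hDval : ∀ {d : G}, d ∈ D → ∃ x : (S : Subgroup C), (ρ x).1 = 1 ∧ ι x = d := fun {d} hd => by
      obtain ⟨x, hx, rfl⟩ := hd
      exact ⟨x, hx, rfl⟩
    refine ⟨n, (kC : G), D, ⟨hnit, hdata.two_le, ht2, htD, ?_, hDt, ?_, ?_, ?_, ?_, ?_, ?_, ?_, ?_⟩⟩
    · rw [← hdata.card]
      refine Nat.card_eq_of_bijective (fun d : D => (⟨(ρ (Classical.choose (hDval d.2))).2, hρU _⟩ :
        (U : Subgroup M))) ⟨?_, ?_⟩
      · intro d d' h
        have h1 := Classical.choose_spec (hDval d.2)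
        have h2 := Classical.choose_spec (hDval d'.2)
        refine Subtype.ext ?_
        rw [← h1.2, ← h2.2]
        exact congrArg ι (hρinj (Prod.ext (h1.1.trans h2.1.symm) (congrArg Subtype.val h)))
      · rintro ⟨u, hu⟩
        obtain ⟨x, hx⟩ := hpre 1 u hu
        have hxD : ι x ∈ D := (hDmem x).2 (by rw [hx])
        refine ⟨⟨ι x, hxD⟩, Subtype.ext ?_⟩
        have h1 := Classical.choose_spec (hDval hxD)
        show (ρ (Classical.choose (hDval hxD))).2 = u
        rw [hι h1.2, hx]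
    · intro d hd
      obtain ⟨x, hx, rfl⟩ := hDval hd
      rw [← map_mul]
      refine (map_eq_one_iff ι hι).2 ((map_eq_one_iff ρ hρinj).1 ?_)
      rw [map_mul]
      exact Prod.ext (show (ρ x).1 * (ρ x).1 = 1 by rw [hx, one_mul]) (hdata.sq _ (hρU x))
    · intro X hX hXc
      rw [← hcardS]
      exact hmax X hX hXc
    · have hord : orderOf kC ∣ o := by
        refine orderOf_dvd_of_pow_eq_one ?_
        have hle : j ≤ n * j := Nat.le_mul_of_pos_left j (by have := hdata.two_le; omega)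
        have e1 : r * o = orderOf c1 * 2 ^ (n * j - j) := by
          rw [hr, he', show 2 ^ (n * j) = 2 ^ j * 2 ^ (n * j - j) by rw [← pow_add, Nat.add_sub_cancel' hle]]
          ring
        rw [← pow_mul, e1, pow_mul, pow_orderOf_eq_one, one_pow]
      rw [Subgroup.orderOf_coe]
      exact ho.of_dvd_nat hord
    · exact congrArg Subtype.val (htC kC)
    · intro d hd
      obtain ⟨x, hx, rfl⟩ := hDval hd
      have := hιk 1 x
      rw [pow_one] at this
      rw [this]
      refine (hDmem _).2 ?_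
      have h1 := congrArg Prod.fst (hkact 1 x x.2)
      rw [h1]
      show (1 : Multiplicative (ZMod 2)) * (ρ x).1 * 1⁻¹ = 1
      rw [hx, one_mul, one_mul, inv_one]
    · intro a ha ha1 b hb hb1
      obtain ⟨x, hx, rfl⟩ := hDval ha
      obtain ⟨y, hy, rfl⟩ := hDval hb
      have hx1 : (ρ x).2 ≠ 1 := fun h => ha1 (by
        rw [(map_eq_one_iff ρ hρinj).1 (Prod.ext hx h : ρ x = 1), map_one])
      have hy1 : (ρ y).2 ≠ 1 := fun h => hb1 (by
        rw [(map_eq_one_iff ρ hρinj).1 (Prod.ext hy h : ρ y = 1), map_one])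
      obtain ⟨i, hi⟩ := hdata.trans _ (hρU x) hx1 _ (hρU y) hy1
      refine ⟨i, ?_⟩
      rw [hιk]
      refine congrArg ι (hρinj ?_)
      rw [hkact i x x.2]
      exact Prod.ext (show (1 : Multiplicative (ZMod 2)) * (ρ x).1 * 1⁻¹ = _ by
        rw [hx, hy, one_mul, inv_one, mul_one]) hi
    · intro d hd
      obtain ⟨x, hx, rfl⟩ := hDval hd
      rw [hιk]
      refine congrArg ι (hρinj ?_)
      rw [hkact _ x x.2, ← Prod.mk.eta (p := ρ ⟨(x : C), x.2⟩), hconjpair]
      exact Prod.ext rfl (hdata.order _ (hρU _))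
    · intro g hgt hgT
      let gC : C := ⟨g, mem_centralizer_singleton_iff.2 hgt⟩
      have hgS : gC ∈ normalizer ((S : Subgroup C) : Set C) := mem_normalizer_of fun x hx => by
        have h1 := hgT (ι ⟨x, hx⟩) (hT ▸ ⟨_, rfl⟩)
        rw [hT] at h1
        obtain ⟨y, hy⟩ := h1
        have : gC * x * gC⁻¹ = (y : C) := Subtype.ext hy.symm
        rw [this]; exact y.2
      have hLn : ∀ w ∈ L, ∀ v, v * w * v⁻¹ ∈ L := by
        intro w hw v
        refine (show L ≤ L.comap (MulAut.conj v).toMonoidHom from (closure_le _).2 ?_) hw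
        rintro y ⟨b, hb⟩
        show v * y * v⁻¹ ∈ L
        refine subset_closure ⟨b, ?_⟩
        rw [← hb]
        exact (SemiconjBy.orderOf_eq v (show SemiconjBy v y (v * y * v⁻¹) by
          rw [SemiconjBy, inv_mul_cancel_right])).symm
      -- the automorphism induced on `L`
      let β : L →* L := MonoidHom.mk' (fun w => ⟨π gC * w.1 * (π gC)⁻¹, hLn _ w.2 _⟩) fun v w =>
        Subtype.ext (show π gC * (v.1 * w.1) * (π gC)⁻¹ = π gC * v.1 * (π gC)⁻¹ * (π gC * w.1 * (π gC)⁻¹) by group)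
      let β' : Multiplicative (ZMod 2) × M →* Multiplicative (ZMod 2) × M :=
        (e.toMonoidHom.comp β).comp e.symm.toMonoidHom
      have hβ' : ∀ w : L, β' (e w) = e (β w) := fun w => by
        show e (β (e.symm (e w))) = _
        rw [e.symm_apply_apply]
      have hβinj : Function.Injective β' := by
        refine (e.injective.comp ?_).comp e.symm.injective
        intro v w h
        have h' : π gC * v.1 * (π gC)⁻¹ = π gC * w.1 * (π gC)⁻¹ := congrArg Subtype.val h
        rw [mul_left_inj, mul_right_inj] at h'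
        exact Subtype.ext h'
      let f : M →* Multiplicative (ZMod 2) :=
        (MonoidHom.fst _ M).comp (β'.comp (MonoidHom.inr (Multiplicative (ZMod 2)) M))
      have hf : ∀ m, (β' (1, m)).1 = 1 := by
        intro m
        rcases (MonoidHom.normal_ker f).eq_bot_or_eq_top with h | h
        · refine absurd (fun a b => ?_) hna
          exact (MonoidHom.ker_eq_bot_iff f).1 h (by rw [map_mul, map_mul, mul_comm])
        · exact MonoidHom.mem_ker.1 (h ▸ mem_top m : m ∈ f.ker)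
      have hgmem : ∀ x : (S : Subgroup C), gC * (x : C) * gC⁻¹ ∈ (S : Subgroup C) := fun x =>
        (Subgroup.mem_normalizer_iff.1 hgS _).1 x.2
      have hgact : ∀ x : (S : Subgroup C), ρ ⟨_, hgmem x⟩ = β' (ρ x) := fun x => by
        rw [hρ, show ρ x = e ⟨π (x : C), hSmem x.2⟩ from rfl, hβ']
        exact congrArg e (Subtype.ext (by
          show π (gC * (x : C) * gC⁻¹) = π gC * π (x : C) * (π gC)⁻¹
          rw [map_mul, map_mul, map_inv]))
      set m' := (β' (1, k0)).2 with hm'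
      have hm'1 : β' (1, k0) = (1, m') := Prod.ext (hf k0) rfl
      have hgen : ∀ x : (S : Subgroup C), ∃ y : (S : Subgroup C), (y : C) = gC⁻¹ * (x : C) * gC ∧
          ρ x = β' (ρ y) := fun x => by
        have hy : gC⁻¹ * (x : C) * gC ∈ (S : Subgroup C) := by
          have := (Subgroup.mem_normalizer_iff.1 ((normalizer _).inv_mem hgS) (x : C)).1 x.2
          rwa [inv_inv] at this
        refine ⟨⟨_, hy⟩, rfl, ?_⟩
        rw [← hgact]
        exact congrArg ρ (Subtype.ext (by group))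
      have hnormU : ∀ u ∈ (U : Subgroup M), m' * u * m'⁻¹ ∈ (U : Subgroup M) := by
        intro u hu
        obtain ⟨x, hx⟩ := hpre 1 u hu
        obtain ⟨y, -, hy⟩ := hgen x
        obtain ⟨y', hy'⟩ := hpre (ρ y).1 (k0 * (ρ y).2 * k0⁻¹) (hdata.norm _ (hρU y))
        have h1 : β' (ρ y') = (1, m') * (1, u) * (1, m')⁻¹ := by
          rw [hy', ← hconjpair, Prod.mk.eta, map_mul, map_mul, map_inv, hm'1, ← hy, hx]
        rw [← hgact, hconjpair] at h1
        rw [show m' * u * m'⁻¹ = (ρ ⟨_, hgmem y'⟩).2 by rw [h1]]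
        exact hρU _
      obtain ⟨i, hi⟩ := hdata.normal m' hnormU
      refine ⟨i, fun w hw => ?_⟩
      rw [hT] at hw
      obtain ⟨x, rfl⟩ := hw
      obtain ⟨y, hyx, hy⟩ := hgen x
      have hy1 := hkmem 1 y
      rw [pow_one] at hy1
      have h1 : ρ ⟨_, hgmem ⟨_, hy1⟩⟩ = (1, k0 ^ i) * ρ x * (1, k0 ^ i)⁻¹ := by
        have hk1 := hkact 1 y y.2
        simp only [pow_one] at hk1
        rw [hgact, hk1, map_mul, map_mul, map_inv, hm'1, ← hy, ← Prod.mk.eta (p := ρ x), hconjpair, hconjpair]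
        exact Prod.ext rfl (hi _ (hρU x))
      rw [hιk]
      rw [← hkact i x x.2] at h1
      rw [← congrArg ι (hρinj h1)]
      show g * (kC : G) * g⁻¹ * ((x : C) : G) * (g * (kC : G) * g⁻¹)⁻¹ =
        ((gC * (kC * (y : C) * kC⁻¹) * gC⁻¹ : C) : G)
      rw [hyx]
      simp only [Subgroup.coe_mul, Subgroup.coe_inv]
      show _ = g * ((kC : G) * (g⁻¹ * ((x : C) : G) * g) * (kC : G)⁻¹) * g⁻¹
      group
  · right
    obtain ⟨m, hm⟩ := IsPGroup.iff_card.1 S.2
    have hDmap : ∀ u : M, u ∈ (U : Subgroup M) → ∃ d : (S : Subgroup C), ρ d = (1, u) := fun u hu => hpre 1 u hu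
    obtain ⟨zS, hzS⟩ := hDmap z0 hdata.z_mem
    have hval : ∀ {d : G}, d ∈ D → ∃ x : (S : Subgroup C), ρ x = (1, (ρ x).2) ∧ ι x = d := fun {d} hd => by
      obtain ⟨x, hx, rfl⟩ := hd
      exact ⟨x, Prod.ext (show (ρ x).1 = 1 from hx) rfl, rfl⟩
    have hmem1 : ∀ {x : (S : Subgroup C)} {u : M}, ρ x = (1, u) → ι x ∈ D := fun {x} {u} h =>
      (hDmem x).2 (by rw [h])
    have heq : ∀ {x y : (S : Subgroup C)}, ρ x = ρ y → ι x = ι y := fun h => congrArg ι (hρinj h)
    have hone : ∀ {x : (S : Subgroup C)}, ι x = 1 ↔ ρ x = 1 := fun {x} =>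
      (map_eq_one_iff ι hι).trans (map_eq_one_iff ρ hρinj).symm
    refine ⟨m, ι zS, D, hnit, ht2, htD, hDt, hmem1 hzS, ?_, ?_, ?_, ?_, ?_, hScard.trans hm, ?_, ?_, ?_, ?_, ?_⟩
    · rw [Ne, hone, hzS]
      exact fun h => hdata.z_ne (congrArg Prod.snd h)
    · rw [← map_mul, hone, map_mul, hzS]
      exact Prod.ext (one_mul _) hdata.sq_z
    · intro d hd
      obtain ⟨x, hx, rfl⟩ := hval hd
      rw [← map_mul, ← map_mul]
      refine heq ?_
      rw [map_mul, map_mul, hx, hzS, Prod.mk_mul_mk, Prod.mk_mul_mk, hdata.z_comm _ (hρU x)]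
    · obtain ⟨c, hc, hcc⟩ := hdata.z_sq
      obtain ⟨x, hx⟩ := hDmap c hc
      refine ⟨ι x, hmem1 hx, ?_⟩
      rw [← map_mul]
      refine heq ?_
      rw [map_mul, hx, hzS, Prod.mk_mul_mk, one_mul, hcc]
    · intro d hd hdd hdc
      obtain ⟨x, hx, rfl⟩ := hval hd
      rw [← map_mul, hone, map_mul, hx] at hdd
      rcases hdata.cen _ (hρU x) (congrArg Prod.snd hdd) (fun u hu => by
        obtain ⟨y, hy⟩ := hDmap u hu
        have h := hdc (ι y) (hmem1 hy)
        rw [← map_mul, ← map_mul] at h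
        have h' := congrArg ρ (hι h)
        rw [map_mul, map_mul, hx, hy] at h'
        exact congrArg Prod.snd h') with h | h
      · exact Or.inl (hone.2 (by rw [hx, h]; rfl))
      · exact Or.inr (heq (by rw [hx, h, hzS]))
    · intro X hX hXc
      rw [← hm]
      exact hmax X hX hXc
    · intro d hd hdd hd1
      obtain ⟨x, hx, rfl⟩ := hval hd
      rw [← map_mul, hone, map_mul, hx] at hdd
      rw [Ne, hone, hx] at hd1
      obtain ⟨g0, hg0⟩ := hdata.conj _ (hρU x) (congrArg Prod.snd hdd) (fun h => hd1 (by rw [h]; rfl))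
      obtain ⟨c, hcL, hc⟩ := hlift g0
      have hzC : (zS : C) * (zS : C) = 1 := by
        have : zS * zS = 1 := by
          refine hρinj ?_
          rw [map_mul, hzS, map_one]
          exact Prod.ext (one_mul _) hdata.sq_z
        exact congrArg Subtype.val this
      have hxC : (x : C) * (x : C) = 1 := by
        have : x * x = 1 := by
          refine hρinj ?_
          rw [map_mul, hx, map_one]
          exact hdd
        exact congrArg Subtype.val this
      obtain ⟨w, hw⟩ := conj_of_congr hN0 (a := (x : C)) (b := c * (zS : C) * c⁻¹) hxC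
        (by rw [conj_mul, hzC, mul_one, mul_inv_cancel]) (by
          refine (QuotientGroup.eq_one_iff _).1 ?_
          show π ((x : C) * (c * (zS : C) * c⁻¹)) = 1
          have h1 : e (⟨π (x : C), hSmem x.2⟩ * (⟨π c, hcL⟩ * ⟨π (zS : C), hSmem zS.2⟩ * ⟨π c, hcL⟩⁻¹)) = 1 := by
            rw [map_mul, map_mul, map_mul, map_inv, hc, ← hρ, ← hρ]
            show ρ x * ((1, g0) * ρ zS * (1, g0)⁻¹) = 1
            rw [hx, hzS]
            refine Prod.ext ?_ ?_
            · show (1 : Multiplicative (ZMod 2)) * (1 * 1 * 1⁻¹) = 1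
              simp
            · show (ρ x).2 * (g0 * z0 * g0⁻¹) = 1
              rw [hg0]; exact congrArg Prod.snd hdd
          have h2 := congrArg Subtype.val ((map_eq_one_iff e e.injective).1 h1)
          rw [map_mul, map_mul, map_mul, map_inv]
          exact h2)
      refine ⟨((w * c : C) : G), congrArg Subtype.val (htC (w * c)), ?_⟩
      show ((w * c : C) : G) * ((zS : C) : G) * (((w * c : C) : G))⁻¹ = ((x : C) : G)
      rw [← hw]
      simp only [Subgroup.coe_mul, Subgroup.coe_inv]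
      group
    · refine Eq.trans ?_ hdata.count
      congr 1
      symm
      refine Nat.card_eq_of_bijective (fun u => (⟨ι (Classical.choose (hDmap u.1 u.2.1)),
        hmem1 (Classical.choose_spec (hDmap u.1 u.2.1)), by
          rw [← map_mul, hone, map_mul, Classical.choose_spec (hDmap u.1 u.2.1)]
          exact Prod.ext (one_mul _) u.2.2.1, by
          rw [Ne, hone, Classical.choose_spec (hDmap u.1 u.2.1)]
          exact fun h => u.2.2.2 (congrArg Prod.snd h)⟩ : {d : G // d ∈ D ∧ d * d = 1 ∧ d ≠ 1})) ⟨?_, ?_⟩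
      · intro u v h
        have h' := congrArg ρ (hι (congrArg (fun d : {d : G // d ∈ D ∧ d * d = 1 ∧ d ≠ 1} => (d : G)) h))
        rw [Classical.choose_spec (hDmap u.1 u.2.1), Classical.choose_spec (hDmap v.1 v.2.1)] at h'
        exact Subtype.ext (congrArg Prod.snd h')
      · rintro ⟨d, hd, hdd, hd1⟩
        obtain ⟨x, hx, rfl⟩ := hval hd
        rw [← map_mul, hone, map_mul, hx] at hdd
        rw [Ne, hone, hx] at hd1
        refine ⟨⟨(ρ x).2, hρU x, congrArg Prod.snd hdd, fun h => hd1 (by rw [h]; rfl)⟩, Subtype.ext ?_⟩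
        refine heq ?_
        exact (Classical.choose_spec (hDmap (ρ x).2 (hρU x))).trans hx.symm
    · intro d hd hdz
      obtain ⟨x, hx, rfl⟩ := hval hd
      rw [← map_mul] at hdz
      have h' := congrArg ρ (hι hdz)
      rw [map_mul, hx, hzS] at h'
      obtain ⟨b, hb, hb2, hbx⟩ := hdata.inverting _ (hρU x) (congrArg Prod.snd h')
      obtain ⟨y, hy⟩ := hDmap b hb
      refine ⟨ι y, hmem1 hy, ?_, ?_⟩
      · rw [← map_mul, hone, map_mul, hy]
        exact Prod.ext (one_mul _) hb2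
      · rw [← map_mul, ← map_mul, ← map_inv]
        refine heq ?_
        rw [map_mul, map_mul, map_inv, hy, hx]
        exact Prod.ext (by simp) hbx
    · rintro d hd
      obtain ⟨x, hx, rfl⟩ := hval hd
      let B : Subgroup M :=
        { carrier := {u | ∃ y : (S : Subgroup C), ρ y = (1, u) ∧ ι y ∈ closure {d | d ∈ D ∧ d * d = 1}}
          one_mem' := ⟨1, map_one ρ, by rw [map_one]; exact one_mem _⟩
          mul_mem' := by
            rintro u v ⟨y, hy, hy'⟩ ⟨y2, hy2, hy2'⟩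
            exact ⟨y * y2, by rw [map_mul, hy, hy2, Prod.mk_mul_mk, one_mul],
              by rw [map_mul]; exact mul_mem hy' hy2'⟩
          inv_mem' := by
            rintro u ⟨y, hy, hy'⟩
            exact ⟨y⁻¹, by rw [map_inv, hy, Prod.inv_mk, inv_one], by rw [map_inv]; exact inv_mem hy'⟩ }
      have hle : closure {d | d ∈ (U : Subgroup M) ∧ d * d = 1} ≤ B := by
        refine (closure_le _).2 ?_
        rintro u ⟨hu, hu2⟩
        obtain ⟨y, hy⟩ := hDmap u hu
        refine ⟨y, hy, subset_closure ⟨hmem1 hy, ?_⟩⟩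
        rw [← map_mul, hone, map_mul, hy]
        exact Prod.ext (one_mul _) hu2
      obtain ⟨y, hy, hy'⟩ := hle (hdata.gen (hρU x))
      rwa [heq (hx.trans hy.symm)]

end Cfsg.Agent.TwoTimesPSL
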